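import Mathlib
import Groth.Prelude.Def_Flat

/-!
# Local dimension: topological lemmas

* `localDim_eq_of_isOpenEmbedding`: local dimension is invariant under open embeddings.
* `exists_open_dim_le_of_localDim_le`: the infimum defining the local dimension is attained.
* `localDim_fibre_eq_of_isOpenEmbedding`: local dimension of set-theoretic fibres under restriction
  to an open subset of the source and an injective map on the target.
-/

set_option autoImplicit false
open TopologicalSpace Topology

namespace Groth.Agent.H17.Chev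

theorem localDim_le_dim_of_mem {X : Type*} [TopologicalSpace X] (x : X) (U : Opens X)
    (hx : x ∈ U) : FlatMor.localDim X x ≤ topologicalKrullDim (U : Set X) :=
  iInf_le (fun U : {U : Opens X // x ∈ U} => topologicalKrullDim (U.1 : Set X)) ⟨U, hx⟩

theorem localDim_le_dim {X : Type*} [TopologicalSpace X] (x : X) :
    FlatMor.localDim X x ≤ topologicalKrullDim X :=
  le_trans (localDim_le_dim_of_mem x ⊤ trivial) (topologicalKrullDim_subspace_le X _)

theorem exists_open_dim_eq_localDim {T : Type*} [TopologicalSpace T] (t : T) :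
    ∃ W : Opens T, t ∈ W ∧ topologicalKrullDim ↥(W : Set T) = FlatMor.localDim T t := by
  unfold FlatMor.localDim
  have : Nonempty {W : Opens T // t ∈ W} := ⟨⟨⊤, trivial⟩⟩
  obtain ⟨W, hW⟩ := ciInf_mem (fun W : {W : Opens T // t ∈ W} => topologicalKrullDim ↥(W.1 : Set T))
  exact ⟨W.1, W.2, hW⟩

theorem exists_open_dim_le_of_localDim_le {T : Type*} [TopologicalSpace T] (t : T)
    {c : WithBot ℕ∞} (h : FlatMor.localDim T t ≤ c) :
    ∃ W : Opens T, t ∈ W ∧ topologicalKrullDim ↥(W : Set T) ≤ c := by
  obtain ⟨W, hW, e⟩ := exists_open_dim_eq_localDim t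
  exact ⟨W, hW, e ▸ h⟩

/-- Local dimension is invariant under open embeddings. -/
theorem localDim_eq_of_isOpenEmbedding {P Q : Type*} [TopologicalSpace P] [TopologicalSpace Q]
    {ψ : P → Q} (hψ : IsOpenEmbedding ψ) (p : P) :
    FlatMor.localDim P p = FlatMor.localDim Q (ψ p) := by
  apply le_antisymm
  · unfold FlatMor.localDim
    refine le_iInf fun O => ?_
    let O' : Opens P := ⟨ψ ⁻¹' (O.1 : Set Q), O.1.2.preimage hψ.continuous⟩
    have hp : p ∈ O' := O.2
    refine (iInf_le _ (⟨O', hp⟩ : {O : Opens P // p ∈ O})).trans ?_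
    change topologicalKrullDim ↥(O' : Set P) ≤ topologicalKrullDim ↥(O.1 : Set Q)
    let r : ↥(O' : Set P) → ↥(O.1 : Set Q) := fun z => ⟨ψ z.1, z.2⟩
    have hr : IsInducing r := by
      have hc : Continuous r := (hψ.continuous.comp continuous_subtype_val).subtype_mk _
      refine IsInducing.of_comp hc continuous_subtype_val ?_
      exact hψ.isInducing.comp IsInducing.subtypeVal
    exact hr.topologicalKrullDim_le
  · unfold FlatMor.localDim
    refine le_iInf fun O' => ?_
    let O : Opens Q := ⟨ψ '' (O'.1 : Set P), hψ.isOpenMap _ O'.1.2⟩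
    have hp : ψ p ∈ O := ⟨p, O'.2, rfl⟩
    refine (iInf_le _ (⟨O, hp⟩ : {O : Opens Q // ψ p ∈ O})).trans ?_
    change topologicalKrullDim ↥(O : Set Q) ≤ topologicalKrullDim ↥(O'.1 : Set P)
    -- the inverse map is inducing
    have hinj := hψ.injective
    let s : ↥(O : Set Q) → ↥(O'.1 : Set P) := fun z =>
      ⟨Classical.choose z.2, (Classical.choose_spec z.2).1⟩
    have hs : ∀ z, ψ (s z).1 = z.1 := fun z => (Classical.choose_spec z.2).2
    have hsi : IsInducing s := by
      -- `ψ ∘ val ∘ s = val` is inducing, and `ψ ∘ val` is inducing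
      have h1 : IsInducing (fun z : ↥(O'.1 : Set P) => ψ z.1) :=
        hψ.isInducing.comp IsInducing.subtypeVal
      have h2 : (fun z : ↥(O'.1 : Set P) => ψ z.1) ∘ s = Subtype.val := by
        funext z; exact hs z
      rw [← h1.of_comp_iff, h2]
      exact IsInducing.subtypeVal
    exact hsi.topologicalKrullDim_le

/-- Restricting the source along an open embedding `j` and the target along an injective map `i`
does not change the local dimension of the set-theoretic fibres. -/
theorem localDim_fibre_eq_of_isOpenEmbedding {A A' B B' : Type*} [TopologicalSpace A]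
    [TopologicalSpace A'] (φ : A → B) (φ' : A' → B') (j : A' → A) (i : B' → B)
    (hj : IsOpenEmbedding j) (hi : Function.Injective i) (hc : ∀ a, i (φ' a) = φ (j a)) (a' : A') :
    FlatMor.localDim ↥(φ' ⁻¹' {φ' a'}) ⟨a', rfl⟩ = FlatMor.localDim ↥(φ ⁻¹' {φ (j a')}) ⟨j a', rfl⟩ := by
  let ψ : ↥(φ' ⁻¹' {φ' a'}) → ↥(φ ⁻¹' {φ (j a')}) := fun z => ⟨j z.1, by
    have := z.2
    simp only [Set.mem_preimage, Set.mem_singleton_iff] at this ⊢
    rw [← hc, ← hc, this]⟩
  have hψc : Continuous ψ := (hj.continuous.comp continuous_subtype_val).subtype_mk _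
  have hψe : IsEmbedding ψ := by
    refine IsEmbedding.of_comp hψc continuous_subtype_val ?_
    exact hj.isEmbedding.comp IsEmbedding.subtypeVal
  have hrange : Set.range ψ = Subtype.val ⁻¹' (Set.range j) := by
    ext w
    constructor
    · rintro ⟨z, rfl⟩
      exact ⟨z.1, rfl⟩
    · rintro ⟨z, hz⟩
      have hw := w.2
      simp only [Set.mem_preimage, Set.mem_singleton_iff] at hw
      refine ⟨⟨z, ?_⟩, Subtype.ext hz⟩
      simp only [Set.mem_preimage, Set.mem_singleton_iff]
      apply hi
      rw [hc, hc, hz, hw]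
  have hψo : IsOpenEmbedding ψ :=
    ⟨hψe, by rw [hrange]; exact hj.isOpen_range.preimage continuous_subtype_val⟩
  exact localDim_eq_of_isOpenEmbedding hψo ⟨a', rfl⟩

end Groth.Agent.H17.Chev
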