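import Mathlib
import Groth.Prelude.Def_Flat
import Groth.Agent.H17.Chev.TopLocalDim

/-!
# Local fibre dimension via set-theoretic fibres; restriction to opens
-/

set_option autoImplicit false
open CategoryTheory CategoryTheory.Limits AlgebraicGeometry TopologicalSpace Topology

universe u
namespace Groth.Agent.H17.Chev

variable {X Y : Scheme.{u}}

/-- The local fibre dimension, computed on the set-theoretic fibre. -/
theorem fibreDimAt_eq (f : X ⟶ Y) (x : X) :
    FlatMor.fibreDimAt f x = FlatMor.localDim ↥(f.base ⁻¹' {f.base x}) ⟨x, rfl⟩ := by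
  unfold FlatMor.fibreDimAt
  rw [localDim_eq_of_isOpenEmbedding (f.fiberHomeo (f.base x)).isOpenEmbedding (f.asFiber x)]
  congr 1
  exact (f.fiberHomeo (f.base x)).apply_symm_apply _

theorem dim_fiber_eq (f : X ⟶ Y) (y : Y) :
    topologicalKrullDim ↥(f.fiber y) = topologicalKrullDim ↥(f.base ⁻¹' {y}) :=
  IsHomeomorph.topologicalKrullDim_eq _ (f.fiberHomeo y).isHomeomorph

theorem fibreDimAt_le_dim_fiber (f : X ⟶ Y) (x : X) :
    FlatMor.fibreDimAt f x ≤ topologicalKrullDim ↥(f.fiber (f.base x)) :=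
  localDim_le_dim _

/-- General restriction statement: `j` open immersion, `i` injective on points. -/
theorem fibreDimAt_eq_of_isOpenImmersion {X' Y' : Scheme.{u}} (f : X ⟶ Y) (f' : X' ⟶ Y')
    (j : X' ⟶ X) (i : Y' ⟶ Y) [IsOpenImmersion j] (hi : Function.Injective i.base)
    (hc : f' ≫ i = j ≫ f) (x' : X') :
    FlatMor.fibreDimAt f' x' = FlatMor.fibreDimAt f (j.base x') := by
  rw [fibreDimAt_eq, fibreDimAt_eq]
  refine localDim_fibre_eq_of_isOpenEmbedding f.base f'.base j.base i.base j.isOpenEmbedding hi ?_ x'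
  intro a
  rw [← Scheme.Hom.comp_apply, ← Scheme.Hom.comp_apply, hc]

theorem fibreDimAt_resLE (f : X ⟶ Y) (V : Y.Opens) (U : X.Opens) (hUV : U ≤ f ⁻¹ᵁ V) (u : U) :
    FlatMor.fibreDimAt (f.resLE V U hUV) u = FlatMor.fibreDimAt f u.1 :=
  fibreDimAt_eq_of_isOpenImmersion f (f.resLE V U hUV) U.ι V.ι
    V.ι.isOpenEmbedding.injective (Scheme.Hom.resLE_comp_ι f hUV) u

theorem fibreDimAt_ι_comp (f : X ⟶ Y) (U : X.Opens) (u : U) :
    FlatMor.fibreDimAt (U.ι ≫ f) u = FlatMor.fibreDimAt f u.1 :=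
  fibreDimAt_eq_of_isOpenImmersion f (U.ι ≫ f) U.ι (𝟙 Y) Function.injective_id
    (Category.comp_id _) u

end Groth.Agent.H17.Chev
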