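import Mathlib
import Groth.Prelude.Def_Flat
import Groth.Agent.H54.Dim
import Groth.Agent.H17.FibreNoetherScheme
import Groth.Agent.H17.FibreNoetherQF
import Groth.Agent.H17.Chev.FibreLocal

/-!
# Chevalley's upper semicontinuity theorem for fibre dimension

For `f : X ⟶ Y` locally of finite type, `{x | dim_x X_{f x} ≤ n}` is open in `X`.
-/

set_option autoImplicit false
open CategoryTheory CategoryTheory.Limits AlgebraicGeometry TopologicalSpace Topology

universe u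
namespace Groth.Agent.H17.Chev

theorem exists_nat_eq_of_le {d : WithBot ℕ∞} {n : ℕ} (h0 : 0 ≤ d) (hn : d ≤ n) :
    ∃ e : ℕ, d = e ∧ e ≤ n := by
  induction d with
  | bot => exact absurd h0 (by simp)
  | coe m =>
    have hm : m ≤ n := by exact_mod_cast hn
    have hm' : m ≠ ⊤ := ne_top_of_le_ne_top (ENat.natCast_ne_top n) hm
    obtain ⟨e, rfl⟩ := ENat.ne_top_iff_exists.mp hm'
    exact ⟨e, rfl, by exact_mod_cast hm⟩

variable {X Y : Scheme.{u}}

/-- If the local fibre dimension at `x₀` is `≤ c`, there are affine opens `U ∋ x₀`, `V ∋ f x₀` with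
`f U ⊆ V` such that the fibre of `U → V` through `x₀` has dimension `≤ c`. -/
theorem exists_affineOpens_dim_fiber_le (f : X ⟶ Y) (x₀ : X) {c : WithBot ℕ∞}
    (h : FlatMor.fibreDimAt f x₀ ≤ c) :
    ∃ (V : Y.Opens) (U : X.Opens) (hUV : U ≤ f ⁻¹ᵁ V) (hx : x₀ ∈ U), IsAffineOpen V ∧ IsAffineOpen U ∧
      topologicalKrullDim ↥((f.resLE V U hUV).fiber ((f.resLE V U hUV).base ⟨x₀, hx⟩)) ≤ c := by
  rw [fibreDimAt_eq] at h
  obtain ⟨O, hxO, hO⟩ := exists_open_dim_le_of_localDim_le _ h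
  obtain ⟨O', hO', hOO'⟩ := isOpen_induced_iff.mp O.2
  obtain ⟨_, ⟨V, hV, rfl⟩, hyV, -⟩ := Y.isBasis_affineOpens.exists_subset_of_mem_open
    (Set.mem_univ (f.base x₀)) isOpen_univ
  have hx₀O' : x₀ ∈ O' := by
    have : (⟨x₀, rfl⟩ : ↥(f.base ⁻¹' {f.base x₀})) ∈ Subtype.val ⁻¹' O' := by rw [hOO']; exact hxO
    exact this
  obtain ⟨_, ⟨U, hU, rfl⟩, hxU, hUsub⟩ := X.isBasis_affineOpens.exists_subset_of_mem_open
    (show x₀ ∈ O' ∩ (f ⁻¹ᵁ V : Set X) from ⟨hx₀O', hyV⟩) (hO'.inter (f ⁻¹ᵁ V).2)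
  have hUV : U ≤ f ⁻¹ᵁ V := fun z hz => (hUsub hz).2
  refine ⟨V, U, hUV, hxU, hV, hU, ?_⟩
  rw [dim_fiber_eq]
  refine le_trans ?_ hO
  set f' := f.resLE V U hUV with hf'
  have hcomm : ∀ z : U, f.base z.1 = (f'.base z).1 := by
    intro z
    have := congrArg (fun m => m.base z) (Scheme.Hom.resLE_comp_ι f hUV)
    exact this.symm
  let r : ↥(f'.base ⁻¹' {f'.base ⟨x₀, hxU⟩}) → ↥(O.1) := fun z =>
    ⟨⟨z.1.1, by
      have hz := z.2
      simp only [Set.mem_preimage, Set.mem_singleton_iff] at hz ⊢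
      rw [hcomm z.1, hz, ← hcomm ⟨x₀, hxU⟩]⟩, by
      rw [← hOO']
      exact (hUsub z.1.2).1⟩
  have hr : IsInducing r := by
    have hvv : IsInducing (fun w : ↥O.1 => (w.1.1 : X)) :=
      IsInducing.subtypeVal.comp IsInducing.subtypeVal
    rw [← hvv.of_comp_iff]
    exact ((Scheme.Opens.ι U).isOpenEmbedding.isInducing.comp IsInducing.subtypeVal :
      IsInducing (fun z : ↥(f'.base ⁻¹' {f'.base ⟨x₀, hxU⟩}) => (Scheme.Opens.ι U).base z.1))
  exact hr.topologicalKrullDim_le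

set_option backward.isDefEq.respectTransparency.types false in
/-- An integral morphism to an affine scheme does not raise the dimension. -/
theorem topologicalKrullDim_le_of_isIntegralHom {Z W : Scheme.{u}} [IsAffine W] (p : Z ⟶ W)
    [IsIntegralHom p] : topologicalKrullDim Z ≤ topologicalKrullDim W := by
  have : IsAffine Z := isAffine_of_isAffineHom p
  rw [Groth.Agent.H17.topologicalKrullDim_of_isAffine, Groth.Agent.H17.topologicalKrullDim_of_isAffine]
  have hint : p.appTop.hom.IsIntegral := by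
    have := (HasAffineProperty.iff_of_isAffine (P := @IsIntegralHom)).mp (inferInstance : IsIntegralHom p)
    exact this.2
  algebraize [p.appTop.hom]
  have : Algebra.IsIntegral Γ(W, ⊤) Γ(Z, ⊤) := ⟨hint⟩
  exact Groth.Agent.H54.ringKrullDim_le_of_isIntegral

/-- A separated quasi-finite morphism to an affine scheme does not raise the dimension. -/
theorem topologicalKrullDim_le_of_locallyQuasiFinite {Z W : Scheme.{u}} [IsAffine W] (h : Z ⟶ W)
    [LocallyQuasiFinite h] [LocallyOfFiniteType h] [IsSeparated h] [QuasiCompact h] :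
    topologicalKrullDim Z ≤ topologicalKrullDim W :=
  le_trans h.toNormalization.isOpenEmbedding.isInducing.topologicalKrullDim_le
    (topologicalKrullDim_le_of_isIntegralHom h.fromNormalization)

set_option backward.isDefEq.respectTransparency.types false in
theorem exists_open_fibreDimAt_le_of_isAffine {X Y : Scheme.{u}} [IsAffine X] [IsAffine Y]
    (f : X ⟶ Y) [LocallyOfFiniteType f] (x₀ : X) (e : ℕ)
    (he : topologicalKrullDim ↥(f.fiber (f.base x₀)) = e) :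
    ∃ N : X.Opens, x₀ ∈ N ∧ ∀ x' ∈ N, FlatMor.fibreDimAt f x' ≤ e := by
  obtain ⟨g, hg, hfin⟩ := exists_hom_affineSpace_finite_fibre f (f.base x₀) e he
  obtain ⟨-, U₁, hU₁, hqf⟩ := surjective_and_quasiFinite_of_finite_fibre f (f.base x₀) e he g hg hfin
  refine ⟨U₁, hU₁ rfl, fun x' hx' => ?_⟩
  obtain ⟨_, ⟨U₂ : X.Opens, hU₂, rfl⟩, hx'U₂, hU₂U₁⟩ :=
    X.isBasis_affineOpens.exists_subset_of_mem_open hx' U₁.2
  have hAff : IsAffine U₂ := hU₂
  set q := 𝔸(ULift.{u} (Fin e); Y) ↘ Y with hq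
  let g₂ : U₂.toScheme ⟶ 𝔸(ULift.{u} (Fin e); Y) := U₂.ι ≫ g
  let f₂ : U₂.toScheme ⟶ Y := U₂.ι ≫ f
  have hg₂ : g₂ ≫ q = f₂ := by simp only [g₂, f₂, Category.assoc, hg]
  have hqf₂ : LocallyQuasiFinite g₂ := by
    have : g₂ = X.homOfLE hU₂U₁ ≫ (U₁.ι ≫ g) := by
      simp only [g₂, ← Category.assoc, Scheme.homOfLE_ι]
    rw [this]
    infer_instance
  have hft₂ : LocallyOfFiniteType g₂ := by
    have : LocallyOfFiniteType (g₂ ≫ q) := by rw [hg₂]; infer_instance
    exact locallyOfFiniteType_of_comp g₂ q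
  let u₂ : U₂ := ⟨x', hx'U₂⟩
  rw [← fibreDimAt_ι_comp f U₂ u₂]
  refine (fibreDimAt_le_dim_fiber f₂ u₂).trans ?_
  set y' := f₂.base u₂ with hy'
  have hpb : IsPullback (pullback.fst g₂ (q.fiberι y'))
      (pullback.snd g₂ (q.fiberι y') ≫ q.fiberToSpecResidueField y') (g₂ ≫ q)
      (Y.fromSpecResidueField y') :=
    (IsPullback.of_hasPullback g₂ (q.fiberι y')).paste_vert
      (IsPullback.of_hasPullback q (Y.fromSpecResidueField y'))
  rw [hg₂] at hpb
  let θ : pullback g₂ (q.fiberι y') ≅ f₂.fiber y' := hpb.isoPullback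
  have hAq : IsAffine (q.fiber y') :=
    inferInstanceAs (IsAffine (pullback q (Y.fromSpecResidueField y')))
  rw [← IsHomeomorph.topologicalKrullDim_eq _ θ.hom.homeomorph.isHomeomorph]
  refine (topologicalKrullDim_le_of_locallyQuasiFinite (pullback.snd g₂ (q.fiberι y'))).trans ?_
  rw [Groth.Agent.H17.topologicalKrullDim_of_isAffine, ringKrullDim_Γ_fiber_affineSpace]
  simp

/-- **Chevalley's upper semicontinuity of fibre dimension** (on the source). -/
theorem isOpen_setOf_fibreDimAt_le (f : X ⟶ Y) [LocallyOfFiniteType f] (n : ℕ) :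
    IsOpen {x : X | FlatMor.fibreDimAt f x ≤ n} := by
  rw [isOpen_iff_forall_mem_open]
  intro x₀ hx₀
  obtain ⟨V, U, hUV, hxU, hV, hU, hdim⟩ := exists_affineOpens_dim_fiber_le f x₀ hx₀
  set f' := f.resLE V U hUV with hf'
  have hAU : IsAffine U := hU
  have hAV : IsAffine V := hV
  have hne : Nonempty ↥(f'.fiber (f'.base ⟨x₀, hxU⟩)) := ⟨f'.asFiber ⟨x₀, hxU⟩⟩
  have h0 : 0 ≤ topologicalKrullDim ↥(f'.fiber (f'.base ⟨x₀, hxU⟩)) := by
    have : Nonempty (IrreducibleCloseds ↥(f'.fiber (f'.base ⟨x₀, hxU⟩))) :=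
      ⟨⟨closure {f'.asFiber ⟨x₀, hxU⟩}, isIrreducible_singleton.closure, isClosed_closure⟩⟩
    exact Order.krullDim_nonneg
  obtain ⟨e, he, hen⟩ := exists_nat_eq_of_le h0 hdim
  obtain ⟨N, hxN, hN⟩ := exists_open_fibreDimAt_le_of_isAffine f' ⟨x₀, hxU⟩ e he
  refine ⟨U.ι.base '' (N : Set U), ?_, U.ι.isOpenEmbedding.isOpenMap _ N.2, ⟨⟨x₀, hxU⟩, hxN, rfl⟩⟩
  rintro _ ⟨u, hu, rfl⟩
  change FlatMor.fibreDimAt f u.1 ≤ n
  rw [← fibreDimAt_resLE f V U hUV u]
  exact (hN u hu).trans (by exact_mod_cast hen)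

end Groth.Agent.H17.Chev
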