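import Mathlib
import Groth.Prelude.Def_Flat
import Groth.Agent.H17.Chev.Main
import Groth.Agent.H29.TopDim

/-!
# Fibre dimension is upper semicontinuous on the target for closed morphisms
-/

set_option autoImplicit false
open CategoryTheory CategoryTheory.Limits AlgebraicGeometry TopologicalSpace Topology

universe u
namespace Groth.Agent.H17.Chev

variable {X Y : Scheme.{u}}

theorem exists_le_localDim_of_le_dim {Z : Type*} [TopologicalSpace Z] (n : ℕ)
    (h : (n : WithBot ℕ∞) ≤ topologicalKrullDim Z) : ∃ z : Z, (n : WithBot ℕ∞) ≤ FlatMor.localDim Z z := by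
  obtain ⟨l, hl⟩ := Order.le_krullDim_iff.mp h
  obtain ⟨x, hx⟩ := l.head.isIrreducible.nonempty
  refine ⟨x, ?_⟩
  have := Groth.Agent.H29.length_le_localDim l x hx
  rwa [hl] at this

/-- `n ≤ dim X_y` iff some point of the fibre has local fibre dimension `≥ n`. -/
theorem le_dim_fiber_iff (f : X ⟶ Y) (y : Y) (n : ℕ) :
    (n : WithBot ℕ∞) ≤ topologicalKrullDim ↥(f.fiber y) ↔
      ∃ x : X, f.base x = y ∧ (n : WithBot ℕ∞) ≤ FlatMor.fibreDimAt f x := by
  constructor
  · intro h
    rw [dim_fiber_eq] at h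
    obtain ⟨z, hz⟩ := exists_le_localDim_of_le_dim n h
    obtain ⟨x, hx⟩ := z
    have hx' : f.base x = y := hx
    subst hx'
    exact ⟨x, rfl, by rw [fibreDimAt_eq]; exact hz⟩
  · rintro ⟨x, rfl, hx⟩
    exact hx.trans (fibreDimAt_le_dim_fiber f x)

theorem fibreDimAt_nonneg (f : X ⟶ Y) (x : X) : 0 ≤ FlatMor.fibreDimAt f x := by
  unfold FlatMor.fibreDimAt FlatMor.localDim
  refine le_iInf fun W => ?_
  have : Nonempty (IrreducibleCloseds ↥(W.1 : Set ↥(f.fiber (f.base x)))) :=
    ⟨⟨closure {⟨f.asFiber x, W.2⟩}, isIrreducible_singleton.closure, isClosed_closure⟩⟩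
  exact Order.krullDim_nonneg

theorem isClosed_setOf_le_fibreDimAt (f : X ⟶ Y) [LocallyOfFiniteType f] (n : ℕ) :
    IsClosed {x : X | (n : WithBot ℕ∞) ≤ FlatMor.fibreDimAt f x} := by
  rcases Nat.eq_zero_or_pos n with rfl | hn
  · convert isClosed_univ
    ext x
    simp only [Set.mem_ofPred_eq, Set.mem_univ, iff_true]
    exact_mod_cast fibreDimAt_nonneg f x
  · have h := (isOpen_setOf_fibreDimAt_le f (n - 1)).isClosed_compl
    convert h using 1
    ext x
    simp only [Set.mem_ofPred_eq, Set.mem_compl_iff, not_le]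
    obtain ⟨m, rfl⟩ : ∃ m, n = m + 1 := ⟨n - 1, by omega⟩
    simp only [Nat.add_sub_cancel]
    generalize FlatMor.fibreDimAt f x = d
    induction d with
    | bot => simp
    | coe d =>
      induction d with
      | top =>
        refine ⟨fun _ => ?_, fun _ => ?_⟩
        · exact WithBot.coe_lt_coe.mpr (ENat.natCast_lt_top m)
        · exact WithBot.coe_le_coe.mpr le_top
      | coe k =>
        constructor
        · intro h
          have : m + 1 ≤ k := by exact_mod_cast h
          exact_mod_cast Nat.lt_of_succ_le this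
        · intro h
          have : m < k := by exact_mod_cast h
          exact_mod_cast Nat.succ_le_of_lt this

/-- For a closed morphism locally of finite type, `{y | n ≤ dim X_y}` is closed. -/
theorem isClosed_setOf_le_dim_fiber (f : X ⟶ Y) [LocallyOfFiniteType f]
    (hf : IsClosedMap f.base) (n : ℕ) :
    IsClosed {y : Y | (n : WithBot ℕ∞) ≤ topologicalKrullDim ↥(f.fiber y)} := by
  have : {y : Y | (n : WithBot ℕ∞) ≤ topologicalKrullDim ↥(f.fiber y)} =
      f.base '' {x : X | (n : WithBot ℕ∞) ≤ FlatMor.fibreDimAt f x} := by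
    ext y
    simp only [Set.mem_ofPred_eq, Set.mem_image]
    rw [le_dim_fiber_iff]
    exact ⟨fun ⟨x, hx, h⟩ => ⟨x, h, hx⟩, fun ⟨x, h, hx⟩ => ⟨x, hx, h⟩⟩
  rw [this]
  exact hf _ (isClosed_setOf_le_fibreDimAt f n)

end Groth.Agent.H17.Chev
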