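import Mathlib
import Groth.Agent.H11.FtDim
import Groth.Agent.H17.Chev.Closed

/-!
# Local dimension on irreducible schemes of finite type over a field; generic fibre dimension
-/

set_option autoImplicit false
set_option linter.style.haveILetI false
open CategoryTheory CategoryTheory.Limits AlgebraicGeometry TopologicalSpace Topology

universe u
namespace Groth.Agent.H17.Chev

theorem localDim_le_localDim_of_irreducible {k S : Type u} [Field k] [CommRing S] [Algebra k S]
    [Algebra.FiniteType k S] [IrreducibleSpace (PrimeSpectrum S)] (p p' : PrimeSpectrum S) :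
    FlatMor.localDim (PrimeSpectrum S) p ≤ FlatMor.localDim (PrimeSpectrum S) p' := by
  apply Groth.Agent.H11.FtDim.localDim_le (k := k) p
  intro q hq hqp
  haveI : q.IsPrime := hq.1.1
  set ξ := genericPoint (PrimeSpectrum S) with hξ
  have h1 : ξ.asIdeal ≤ q := by
    have : ξ ⤳ (⟨q, inferInstance⟩ : PrimeSpectrum S) := genericPoint_specializes _
    exact (PrimeSpectrum.le_iff_specializes ξ ⟨q, inferInstance⟩).mpr this
  have h2 : q ≤ ξ.asIdeal := hq.2 ⟨ξ.2, bot_le⟩ h1
  have h3 : ξ.asIdeal ≤ p'.asIdeal :=
    (PrimeSpectrum.le_iff_specializes ξ p').mpr (genericPoint_specializes _)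
  exact Groth.Agent.H11.FtDim.localDim_ge (k := k) p' q (h2.trans h3)

theorem localDim_eq_localDim_of_irreducible {k S : Type u} [Field k] [CommRing S] [Algebra k S]
    [Algebra.FiniteType k S] [IrreducibleSpace (PrimeSpectrum S)] (p p' : PrimeSpectrum S) :
    FlatMor.localDim (PrimeSpectrum S) p = FlatMor.localDim (PrimeSpectrum S) p' :=
  le_antisymm (localDim_le_localDim_of_irreducible (k := k) p p')
    (localDim_le_localDim_of_irreducible (k := k) p' p)

/-- On an irreducible affine scheme of finite type over a field the local dimension is constant. -/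
theorem localDim_eq_of_isAffine_of_irreducible (κ : Type u) [Field κ] {W : Scheme.{u}} [IsAffine W]
    (w : W ⟶ Spec (.of κ)) [LocallyOfFiniteType w] [IrreducibleSpace W] (p p' : W) :
    FlatMor.localDim W p = FlatMor.localDim W p' := by
  have hft : w.appTop.hom.FiniteType :=
    (HasRingHomProperty.iff_of_isAffine (P := @LocallyOfFiniteType)).mp inferInstance
  let φ : κ →+* Γ(W, ⊤) := ((Scheme.ΓSpecIso (.of κ)).inv ≫ w.appTop).hom
  have hφ : φ.FiniteType := by
    have : φ = w.appTop.hom.comp (Scheme.ΓSpecIso (.of κ)).inv.hom := rfl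
    rw [this]
    exact hft.comp (RingHom.FiniteType.of_surjective _
      (ConcreteCategory.bijective_of_isIso (Scheme.ΓSpecIso (.of κ)).inv).2)
  letI := φ.toAlgebra
  haveI : Algebra.FiniteType κ Γ(W, ⊤) := hφ
  have hhomeo := W.isoSpec.hom.homeomorph
  haveI : IrreducibleSpace (PrimeSpectrum Γ(W, ⊤)) := by
    have : IrreducibleSpace ↥(Spec Γ(W, ⊤)) :=
      hhomeo.surjective.irreducibleSpace hhomeo.continuous
    exact this
  rw [localDim_eq_of_isOpenEmbedding hhomeo.isOpenEmbedding p,
    localDim_eq_of_isOpenEmbedding hhomeo.isOpenEmbedding p']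
  exact localDim_eq_localDim_of_irreducible (k := κ) (S := Γ(W, ⊤)) _ _

/-- On an irreducible scheme locally of finite type over a field the local dimension is constant. -/
theorem localDim_eq_of_irreducible (κ : Type u) [Field κ] {Z : Scheme.{u}}
    (z : Z ⟶ Spec (.of κ)) [LocallyOfFiniteType z] [IrreducibleSpace Z] (p p' : Z) :
    FlatMor.localDim Z p = FlatMor.localDim Z p' := by
  suffices h : ∀ p : Z, FlatMor.localDim Z p = FlatMor.localDim Z (genericPoint Z) by
    rw [h p, h p']
  intro p
  obtain ⟨_, ⟨U : Z.Opens, hU, rfl⟩, hpU, -⟩ := Z.isBasis_affineOpens.exists_subset_of_mem_open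
    (Set.mem_univ p) isOpen_univ
  have hξU : genericPoint Z ∈ U :=
    ((genericPoint_spec Z).mem_open_set_iff U.2).mpr ⟨p, Set.mem_univ _, hpU⟩
  have hAff : IsAffine U := hU
  have : Nonempty U := ⟨⟨p, hpU⟩⟩
  have : IrreducibleSpace U := U.ι.isOpenEmbedding.irreducibleSpace
  have h1 := localDim_eq_of_isOpenEmbedding U.ι.isOpenEmbedding (⟨p, hpU⟩ : U)
  have h2 := localDim_eq_of_isOpenEmbedding U.ι.isOpenEmbedding (⟨genericPoint Z, hξU⟩ : U)
  have h3 := localDim_eq_of_isAffine_of_irreducible κ (U.ι ≫ z) (⟨p, hpU⟩ : U)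
    (⟨genericPoint Z, hξU⟩ : U)
  exact h1.symm.trans (h3.trans h2)

theorem topologicalKrullDim_eq_iSup_localDim (X : Type*) [TopologicalSpace X] :
    topologicalKrullDim X = ⨆ x : X, FlatMor.localDim X x := by
  refine le_antisymm ?_ (iSup_le fun x => localDim_le_dim x)
  refine Groth.Agent.H29.topologicalKrullDim_le_of_forall_chain fun l => ?_
  obtain ⟨x, hx⟩ := l.head.isIrreducible.nonempty
  exact le_trans (Groth.Agent.H29.length_le_localDim l x hx)
    (le_iSup (fun x => FlatMor.localDim X x) x)

theorem topologicalKrullDim_eq_localDim_of_irreducible (κ : Type u) [Field κ] {Z : Scheme.{u}}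
    (z : Z ⟶ Spec (.of κ)) [LocallyOfFiniteType z] [IrreducibleSpace Z] (p : Z) :
    topologicalKrullDim Z = FlatMor.localDim Z p := by
  rw [topologicalKrullDim_eq_iSup_localDim]
  refine le_antisymm (iSup_le fun x => (localDim_eq_of_irreducible κ z x p).le) ?_
  exact le_iSup (fun x => FlatMor.localDim Z x) p

/-- A dominant morphism of irreducible schemes maps the generic point to the generic point. -/
theorem map_genericPoint_of_isDominant {X Y : Scheme.{u}} [IrreducibleSpace X] [IrreducibleSpace Y]
    (f : X ⟶ Y) [IsDominant f] : f.base (genericPoint X) = genericPoint Y := by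
  have h : IsGenericPoint (f.base (genericPoint X)) (Set.univ : Set Y) := by
    unfold IsGenericPoint
    rw [← Set.univ_subset_iff, ← f.denseRange.closure_range, ← Set.image_univ,
      ← (genericPoint_spec X).def]
    calc closure (f.base '' closure {genericPoint X})
        ⊆ closure (closure (f.base '' {genericPoint X})) :=
          closure_mono (image_closure_subset_closure_image f.continuous)
      _ = closure {f.base (genericPoint X)} := by rw [closure_closure, Set.image_singleton]
  exact h.eq (genericPoint_spec Y)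

/-- A subspace containing the generic point is irreducible. -/
theorem irreducibleSpace_of_genericPoint_mem {X : Type*} [TopologicalSpace X] [QuasiSober X]
    [IrreducibleSpace X] (A : Set X) (h : genericPoint X ∈ A) : IrreducibleSpace ↥A := by
  have hcl : closure ({⟨genericPoint X, h⟩} : Set ↥A) = Set.univ := by
    rw [IsInducing.subtypeVal.closure_eq_preimage_closure_image, Set.image_singleton,
      (genericPoint_spec X).def, Set.preimage_univ]
  have : IsIrreducible (Set.univ : Set ↥A) := hcl ▸ isIrreducible_singleton.closure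
  exact { isPreirreducible_univ := this.2, toNonempty := ⟨⟨genericPoint X, h⟩⟩ }

theorem exists_nat_eq_of_lt {d D : WithBot ℕ∞} (h0 : 0 ≤ d) (hlt : d < D) : ∃ m : ℕ, d = m := by
  induction d with
  | bot => exact absurd h0 (by simp)
  | coe e =>
    induction e with
    | top => exact absurd hlt (not_lt.mpr le_top)
    | coe m => exact ⟨m, rfl⟩

theorem dim_genericFiber_le_fibreDimAt {X Y : Scheme.{u}} [IrreducibleSpace X] [IrreducibleSpace Y]
    (f : X ⟶ Y) [LocallyOfFiniteType f] [IsDominant f] (x : X) :
    topologicalKrullDim ↥(f.fiber (genericPoint Y)) ≤ FlatMor.fibreDimAt f x := by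
  by_contra hcon
  rw [not_le] at hcon
  obtain ⟨m, hm⟩ := exists_nat_eq_of_lt (fibreDimAt_nonneg f x) hcon
  have hopen := isOpen_setOf_fibreDimAt_le f m
  have hξ : genericPoint X ∈ {x' : X | FlatMor.fibreDimAt f x' ≤ m} :=
    ((genericPoint_spec X).mem_open_set_iff hopen).mpr ⟨x, Set.mem_univ _, hm.le⟩
  have hη := map_genericPoint_of_isDominant f
  set ξ := genericPoint X with hξdef
  have hirr : IrreducibleSpace ↥(f.fiber (f.base ξ)) := by
    have h1 : IrreducibleSpace ↥(f.base ⁻¹' {f.base ξ}) :=
      irreducibleSpace_of_genericPoint_mem _ rfl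
    exact (f.fiberHomeo (f.base ξ)).symm.surjective.irreducibleSpace
      (f.fiberHomeo (f.base ξ)).symm.continuous
  have hlft : LocallyOfFiniteType (f.fiberToSpecResidueField (f.base ξ)) :=
    inferInstanceAs (LocallyOfFiniteType (pullback.snd f (Y.fromSpecResidueField (f.base ξ))))
  have key : topologicalKrullDim ↥(f.fiber (f.base ξ)) ≤ m := by
    rw [topologicalKrullDim_eq_localDim_of_irreducible (Y.residueField (f.base ξ))
      (f.fiberToSpecResidueField (f.base ξ)) (f.asFiber ξ)]
    exact hξ
  rw [hη] at key
  rw [hm] at hcon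
  exact absurd key (not_le.mpr hcon)

end Groth.Agent.H17.Chev
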