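import Mathlib
import Groth.Prelude
import Groth.Agent.H17.Chev.Irreducible
import Groth.Agent.H17.FibreDimBound

/-!
# Generic constancy of the dimension of the irreducible components of the fibres (EGA IV 9.5.6)
-/

set_option autoImplicit false
universe u
open CategoryTheory AlgebraicGeometry Set TopologicalSpace Topology
open scoped Set.Notation

namespace Groth.Agent.H17.Chev

/-- In a space with a generic point `g`, a constructible set either contains an open
neighbourhood of `g` or is disjoint from one. -/
theorem mem_interior_or_of_isConstructible {S : Type*} [TopologicalSpace S] {g : S}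
    (hg : IsGenericPoint g (univ : Set S)) {C : Set S} (hC : IsConstructible C) :
    g ∈ interior C ∨ g ∈ interior Cᶜ := by
  induction hC using IsConstructible.empty_union_induction with
  | open_retrocompact U hU _ =>
    by_cases hgU : g ∈ U
    · exact Or.inl (by rwa [hU.interior_eq])
    · right
      have : U = ∅ := by
        by_contra hne
        exact hgU ((hg.mem_open_set_iff hU).mpr (by simpa [Set.nonempty_iff_ne_empty] using hne))
      simp [this]
  | union s _ t _ hs ht =>
    rcases hs with hs | hs
    · exact Or.inl (interior_mono subset_union_left hs)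
    rcases ht with ht | ht
    · exact Or.inl (interior_mono subset_union_right ht)
    · right
      rw [compl_union, interior_inter]
      exact ⟨hs, ht⟩
  | compl s _ hs =>
    rcases hs with hs | hs
    · right; rwa [compl_compl]
    · left; exact hs

/-- In a space with generic point `g`, a locally constructible set not containing
`g` misses an open neighbourhood of `g`. -/
theorem exists_isOpen_disjoint_of_isLocallyConstructible {S : Type*} [TopologicalSpace S] {g : S}
    (hg : IsGenericPoint g (univ : Set S)) {T : Set S} (hT : IsLocallyConstructible T)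
    (hgT : g ∉ T) : ∃ O : Set S, IsOpen O ∧ g ∈ O ∧ Disjoint O T := by
  obtain ⟨U, hgU, hU, hUT⟩ := hT g
  have hgU' : g ∈ U := mem_of_mem_nhds hgU
  have hg' : IsGenericPoint (⟨g, hgU'⟩ : U) (univ : Set U) := by
    rw [isGenericPoint_def, Set.eq_univ_iff_forall]
    intro y
    rw [← specializes_iff_mem_closure, subtype_specializes_iff]
    exact hg.specializes (Set.mem_univ _)
  rcases mem_interior_or_of_isConstructible hg' hUT with h | h
  · exact absurd (interior_subset h) (by simpa using hgT)
  · refine ⟨((↑) : U → S) '' interior (U ↓∩ T)ᶜ, hU.isOpenMap_subtype_val _ isOpen_interior,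
      ⟨_, h, rfl⟩, ?_⟩
    rw [Set.disjoint_left]
    rintro _ ⟨y, hy, rfl⟩ hyT
    exact interior_subset hy hyT

/-- A closed subset of a Noetherian space is constructible. -/
theorem isConstructible_of_isClosed {X : Type*} [TopologicalSpace X] [NoetherianSpace X]
    {Z : Set X} (hZ : IsClosed Z) : IsConstructible Z := by
  rw [← compl_compl Z, isConstructible_compl]
  exact IsRetrocompact.isConstructible hZ.isOpen_compl
    (fun V _ _ => NoetherianSpace.isCompact _)

/-- The local dimension of the set-theoretic fibre through `x`, at any point of a fibre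
presented as `f ⁻¹' {s}`. -/
theorem localDim_preimage_singleton_eq {X Y : Scheme.{u}} (f : X ⟶ Y) (s : Y)
    (z : ↥(f.base ⁻¹' {s})) :
    FlatMor.localDim ↥(f.base ⁻¹' {s}) z = FlatMor.fibreDimAt f z.1 := by
  obtain ⟨x, hx⟩ := z
  have hx' : f.base x = s := hx
  subst hx'
  rw [fibreDimAt_eq]

/-- Over a Noetherian base, the dimension of the fibres of a finite type morphism is bounded
by the dimension of the generic fibre in a neighbourhood of the generic point. -/
theorem exists_open_forall_fibreDimAt_le {X S : Scheme.{u}} (f : X ⟶ S)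
    [IsNoetherian S] [IrreducibleSpace S] [LocallyOfFiniteType f] [QuasiCompact f] (e : ℕ)
    (he : topologicalKrullDim ↥(f.fiber (genericPoint S)) ≤ e) :
    ∃ U : S.Opens, genericPoint S ∈ U ∧ ∀ x : X, f.base x ∈ U → FlatMor.fibreDimAt f x ≤ e := by
  have : IsLocallyNoetherian X := LocallyOfFiniteType.isLocallyNoetherian f
  have : CompactSpace X := QuasiCompact.compactSpace_of_compactSpace f
  have : IsNoetherian X := ⟨⟩
  have hclosed : IsClosed {x : X | FlatMor.fibreDimAt f x ≤ e}ᶜ :=
    (isOpen_setOf_fibreDimAt_le f e).isClosed_compl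
  have hcons : IsLocallyConstructible (f.base '' {x : X | FlatMor.fibreDimAt f x ≤ e}ᶜ) :=
    f.isLocallyConstructible_image (isConstructible_of_isClosed hclosed).isLocallyConstructible
  have hη : genericPoint S ∉ f.base '' {x : X | FlatMor.fibreDimAt f x ≤ e}ᶜ := by
    rintro ⟨x, hx, hxη⟩
    apply hx
    change FlatMor.fibreDimAt f x ≤ e
    refine (fibreDimAt_le_dim_fiber f x).trans ?_
    rw [hxη]
    exact he
  obtain ⟨O, hO, hηO, hdisj⟩ :=
    exists_isOpen_disjoint_of_isLocallyConstructible (genericPoint_spec S) hcons hη
  refine ⟨⟨O, hO⟩, hηO, fun x hx => ?_⟩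
  by_contra hcon
  exact Set.disjoint_left.mp hdisj hx ⟨x, hcon, rfl⟩

/-- EGA IV 9.5.6 for irreducible source and target. -/
theorem exists_open_forall_irreducibleComponents_dim_eq {X S : Scheme.{u}} (f : X ⟶ S)
    [IsNoetherian S] [IrreducibleSpace S] [IrreducibleSpace X] [IsDominant f]
    [LocallyOfFiniteType f] [QuasiCompact f] :
    ∃ U : S.Opens, genericPoint S ∈ U ∧ ∀ s ∈ U, ∀ T ∈ irreducibleComponents ↥(f.base ⁻¹' {s}),
      topologicalKrullDim ↥T = topologicalKrullDim ↥(f.base ⁻¹' {genericPoint S}) := by
  have : IsLocallyNoetherian X := LocallyOfFiniteType.isLocallyNoetherian f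
  have : CompactSpace X := QuasiCompact.compactSpace_of_compactSpace f
  have : IsNoetherian X := ⟨⟩
  -- the dimension of the generic fibre is a natural number
  obtain ⟨n, hn⟩ := Groth.Agent.H17.exists_fiber_dim_le f
  have hne : Nonempty ↥(f.fiber (genericPoint S)) := by
    rw [← map_genericPoint_of_isDominant f]
    exact ⟨f.asFiber (genericPoint X)⟩
  have h0 : (0 : WithBot ℕ∞) ≤ topologicalKrullDim ↥(f.fiber (genericPoint S)) := by
    obtain ⟨z⟩ := hne
    have : Nonempty (IrreducibleCloseds ↥(f.fiber (genericPoint S))) :=
      ⟨⟨closure {z}, isIrreducible_singleton.closure, isClosed_closure⟩⟩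
    exact Order.krullDim_nonneg
  obtain ⟨e, he, -⟩ := exists_nat_eq_of_le h0 (hn (genericPoint S))
  obtain ⟨U, hηU, hU⟩ := exists_open_forall_fibreDimAt_le f e he.le
  refine ⟨U, hηU, fun s hs T hT => ?_⟩
  rw [← dim_fiber_eq, he]
  apply le_antisymm
  · -- upper bound
    refine (IsInducing.subtypeVal.topologicalKrullDim_le).trans ?_
    rw [topologicalKrullDim_eq_iSup_localDim]
    refine iSup_le fun z => ?_
    rw [localDim_preimage_singleton_eq]
    apply hU
    rw [z.2]
    exact hs
  · -- lower bound
    have : NoetherianSpace ↥(f.base ⁻¹' {s}) := inferInstance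
    obtain ⟨o, ho, ⟨z, hz⟩, hoT⟩ :=
      NoetherianSpace.exists_isOpen_nonempty_subset_irreducibleComponent T hT
    calc (e : WithBot ℕ∞) = topologicalKrullDim ↥(f.fiber (genericPoint S)) := he.symm
      _ ≤ FlatMor.fibreDimAt f z.1 := dim_genericFiber_le_fibreDimAt f z.1
      _ = FlatMor.localDim ↥(f.base ⁻¹' {s}) z := (localDim_preimage_singleton_eq f s z).symm
      _ ≤ topologicalKrullDim ↥o := localDim_le_dim_of_mem z ⟨o, ho⟩ hz
      _ ≤ topologicalKrullDim ↥T :=
        (IsEmbedding.inclusion hoT).isInducing.topologicalKrullDim_le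

end Groth.Agent.H17.Chev
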