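import Groth.Agent.H17.Chev.BC
import Groth.Agent.H62.Caten

set_option autoImplicit false
set_option linter.unusedSectionVars false
set_option linter.style.haveILetI false
universe u
open CategoryTheory CategoryTheory.Limits AlgebraicGeometry Topology Order TopologicalSpace

namespace Groth.Agent.H17.Chev

/-- the dimension of a space is bounded by the dimensions of its irreducible components -/
theorem topologicalKrullDim_le_of_forall_irreducibleComponents {T : Type u} [TopologicalSpace T]
    (D : WithBot ℕ∞) (h : ∀ Z ∈ irreducibleComponents T, topologicalKrullDim ↥Z ≤ D) :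
    topologicalKrullDim T ≤ D := by
  refine Groth.Agent.H29.topologicalKrullDim_le_of_forall_chain fun l => ?_
  obtain ⟨Z, hZ, hlZ⟩ := exists_mem_irreducibleComponents_subset_of_isIrreducible
    (l.last : Set T) l.last.isIrreducible
  have hZc : IsClosed Z := isClosed_of_mem_irreducibleComponents Z hZ
  have hsub : ∀ i, ((l i : IrreducibleCloseds T) : Set T) ⊆ Z := fun i =>
    (show (l i : Set T) ⊆ l.last from l.monotone (Fin.le_last i)).trans hlZ
  obtain ⟨t, ht⟩ := Groth.Agent.H62.exists_map_eq (Groth.Agent.H62.irrMap Z) l (fun i => by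
    obtain ⟨W, hW⟩ := Groth.Agent.H62.exists_irrMap_eq hZc.isLocallyClosed (l i)
      (by
        obtain ⟨x, hx⟩ := (l i).isIrreducible.nonempty
        exact ⟨x, hx, hsub i hx⟩)
      ((hsub i).trans subset_closure)
    exact ⟨W, hW⟩)
  have hlen : l.length = t.length := by rw [← ht]; rfl
  rw [hlen]
  refine le_trans ?_ (h Z hZ)
  exact t.length_le_krullDim

end Groth.Agent.H17.Chev

namespace Groth.Agent.H17.Chev

theorem localDim_univ_eq {B : Type*} [TopologicalSpace B] (b : B) :
    FlatMor.localDim ↥(Set.univ : Set B) ⟨b, Set.mem_univ b⟩ = FlatMor.localDim B b :=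
  (localDim_eq_of_isEmbedding id IsEmbedding.id Set.univ Set.range_id b (Set.mem_univ b)).symm

/-- On a scheme locally of finite type over a field, the dimension of an irreducible
component is the local dimension at its generic point. -/
theorem dim_irreducibleComponent_eq_localDim (κ : Type u) [Field κ] {F : Scheme.{u}}
    (φ : F ⟶ Spec (.of κ)) [LocallyOfFiniteType φ] (Z : Set F)
    (hZ : Z ∈ irreducibleComponents (F : Type u)) (w : F) (hw : IsGenericPoint w Z) :
    topologicalKrullDim ↥Z = FlatMor.localDim F w := by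
  have hZc : IsClosed Z := isClosed_of_mem_irreducibleComponents Z hZ
  have hFN : IsLocallyNoetherian F := LocallyOfFiniteType.isLocallyNoetherian φ
  obtain ⟨o, ho, hwo, hoZ'⟩ := exists_open_subset_closure_of_isMax F w
    (isMax_of_isGenericPoint_irreducibleComponent F Z hZ w hw)
  have hoZ : o ⊆ Z := by rw [← hw.def]; exact hoZ'
  obtain ⟨Z₁, i, hi, hr⟩ := exists_closedImmersion_range F Z hZc
  subst hr
  obtain ⟨w₁, rfl⟩ := hw.mem
  obtain ⟨hirr, -⟩ := irreducibleSpace_of_isEmbedding i.base i.isEmbedding w₁ (by rw [hw.def])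
  have h1 := topologicalKrullDim_eq_localDim_of_irreducible κ (i ≫ φ) w₁
  rw [topologicalKrullDim_eq_of_isEmbedding i.base i.isEmbedding _ rfl,
    localDim_eq_of_isEmbedding i.base i.isEmbedding _ rfl w₁ ⟨w₁, rfl⟩] at h1
  rw [h1, ← localDim_univ_eq (i.base w₁)]
  exact localDim_eq_of_inter_subset Set.univ (Set.range i.base) o ho (Set.subset_univ _)
    (fun t ht => hoZ ht.1) (i.base w₁) ⟨w₁, rfl⟩ hwo

end Groth.Agent.H17.Chev
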