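import Groth.Agent.H17.Chev.CompDim

set_option autoImplicit false
set_option linter.unusedSectionVars false
set_option linter.style.haveILetI false
universe u
open CategoryTheory CategoryTheory.Limits AlgebraicGeometry Topology Order TopologicalSpace

namespace Groth.Agent.H17.Chev

/-- image in `X` of the closure of a point of a fibre -/
theorem range_fiberι_closure {X Y : Scheme.{u}} (f : X ⟶ Y) (y : Y) (w : ↥(f.fiber y)) :
    Set.range (fun t : ↥(closure ({w} : Set ↥(f.fiber y))) => (f.fiberι y).base t.1) =
      closure {(f.fiberι y).base w} ∩ f.base ⁻¹' {y} := by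
  ext x
  constructor
  · rintro ⟨⟨t, ht⟩, rfl⟩
    refine ⟨?_, map_fiberι f y t⟩
    have := image_closure_subset_closure_image (f.fiberι y).continuous ⟨t, ht, rfl⟩
    rwa [Set.image_singleton] at this
  · rintro ⟨hx1, hx2⟩
    have : x ∈ Set.range (f.fiberι y).base := by rw [Scheme.Hom.range_fiberι]; exact hx2
    obtain ⟨t, rfl⟩ := this
    refine ⟨⟨t, ?_⟩, rfl⟩
    rw [(f.fiberι y).isEmbedding.isInducing.closure_eq_preimage_closure_image, Set.image_singleton]
    exact hx1

theorem dim_closure_fiber_eq {X Y : Scheme.{u}} (f : X ⟶ Y) (y : Y) (w : ↥(f.fiber y)) :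
    topologicalKrullDim ↥(closure ({w} : Set ↥(f.fiber y))) =
      topologicalKrullDim ↥(closure {(f.fiberι y).base w} ∩ f.base ⁻¹' {y}) :=
  topologicalKrullDim_eq_of_isEmbedding _
    ((f.fiberι y).isEmbedding.comp IsEmbedding.subtypeVal) _ (range_fiberι_closure f y w)

/-- EGA IV 13.3.x: under condition (b) every irreducible component of the fibre over `y` has the
dimension of some irreducible component of the generic fibre. -/
theorem exists_irreducibleComponent_generic_dim_eq {X Y : Scheme.{u}} [IrreducibleSpace Y]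
    [IsLocallyNoetherian Y] (f : X ⟶ Y) [LocallyOfFiniteType f] (y : Y)
    (hb : ∀ z : X, f.base z = y → (∀ z' : X, f.base z' = y → z ∈ closure {z'} → z' = z) →
      ringKrullDim (X.presheaf.stalk z) = ringKrullDim (Y.presheaf.stalk y))
    (Z : Set ↥(f.fiber y)) (hZ : Z ∈ irreducibleComponents ↥(f.fiber y)) :
    ∃ Z' ∈ irreducibleComponents ↥(f.fiber (genericPoint Y)),
      topologicalKrullDim ↥Z' = topologicalKrullDim ↥Z := by
  have hlft : LocallyOfFiniteType (f.fiberToSpecResidueField y) :=
    inferInstanceAs (LocallyOfFiniteType (pullback.snd f (Y.fromSpecResidueField y)))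
  have : IsLocallyNoetherian (f.fiber y) :=
    LocallyOfFiniteType.isLocallyNoetherian (f.fiberToSpecResidueField y)
  have hZc : IsClosed Z := isClosed_of_mem_irreducibleComponents Z hZ
  have hw := hZ.1.isGenericPoint_genericPoint hZc
  set w := hZ.1.genericPoint
  have hmaxw : IsMax w := isMax_of_isGenericPoint_irreducibleComponent _ Z hZ w hw
  set z := (f.fiberι y).base w with hzdef
  have hfz : f.base z = y := map_fiberι f y w
  have hz0 : ringKrullDim ((f.fiber (f.base z)).presheaf.stalk (f.asFiber z)) = 0 := by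
    rw [ringKrullDim_stalk_asFiber_eq f y z hfz w rfl, ringKrullDim_stalk_eq_coheight,
      coheight_eq_zero.mpr hmaxw]
    rfl
  have hcond : ∀ z' : X, f.base z' = y → z ∈ closure {z'} → z' = z := by
    intro z' hz' hzz'
    have : z' ∈ Set.range (f.fiberι y).base := by rw [Scheme.Hom.range_fiberι]; exact hz'
    obtain ⟨w', rfl⟩ := this
    have h1 : w ∈ closure ({w'} : Set ↥(f.fiber y)) := by
      rw [(f.fiberι y).isEmbedding.isInducing.closure_eq_preimage_closure_image,
        Set.image_singleton]
      exact hzz'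
    have h2 : w' ⤳ w := specializes_iff_mem_closure.mpr h1
    have h3 : w ⤳ w' := hmaxw (show w ≤ w' from h2)
    rw [(h2.antisymm h3).eq]
  have hstalk : ringKrullDim (X.presheaf.stalk z) = ringKrullDim (Y.presheaf.stalk (f.base z)) := by
    rw [hb z hfz hcond, hfz]
  obtain ⟨ξ, hξmax, hsp, hη, hdim⟩ := exists_component_of_stalk_dim_eq f z hz0 hstalk
  -- the corresponding point of the generic fibre
  have : ξ ∈ Set.range (f.fiberι (genericPoint Y)).base := by
    rw [Scheme.Hom.range_fiberι]; exact hη
  obtain ⟨w', rfl⟩ := this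
  have hmaxw' : IsMax w' := by
    intro w'' hw''
    have h1 : (f.fiberι (genericPoint Y)).base w' ≤ (f.fiberι (genericPoint Y)).base w'' :=
      (le_iff_of_isEmbedding _ (f.fiberι (genericPoint Y)).isEmbedding _ _).mpr hw''
    exact (le_iff_of_isEmbedding _ (f.fiberι (genericPoint Y)).isEmbedding _ _).mp (hξmax h1)
  refine ⟨closure {w'}, closure_mem_irreducibleComponents_of_isMax _ w' hmaxw', ?_⟩
  rw [dim_closure_fiber_eq, hdim, ← localDim_fiber_eq_fibreDimAt f y w]
  exact (dim_irreducibleComponent_eq_localDim (Y.residueField y) (f.fiberToSpecResidueField y)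
    Z hZ w hw).symm

end Groth.Agent.H17.Chev
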