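import Groth.Agent.H17.Chev.RedSubMain

set_option autoImplicit false
set_option linter.unusedSectionVars false
set_option linter.style.haveILetI false
universe u
open CategoryTheory CategoryTheory.Limits AlgebraicGeometry Topology Order TopologicalSpace

namespace Groth.Agent.H17.Chev

/-- the closure of a maximal point (for the specialization order) of a scheme is an irreducible
component -/
theorem closure_mem_irreducibleComponents_of_isMax (F : Scheme.{u}) (w : F) (hw : IsMax w) :
    closure ({w} : Set F) ∈ irreducibleComponents (F : Type u) := by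
  refine ⟨isIrreducible_singleton.closure, fun T hT hwT => ?_⟩
  have hTc : IsIrreducible (closure T) := hT.closure
  have ht := hTc.isGenericPoint_genericPoint isClosed_closure
  set t := hTc.genericPoint
  have h1 : t ⤳ w := ht.specializes (subset_closure (hwT (subset_closure rfl)))
  have h2 : w ⤳ t := hw (show w ≤ t from h1)
  calc T ⊆ closure T := subset_closure
    _ = closure {t} := ht.def.symm
    _ ⊆ closure {w} := h2.closure_subset

theorem isMax_of_ringKrullDim_stalk_eq_zero (F : Scheme.{u}) (w : F)
    (hw : ringKrullDim (F.presheaf.stalk w) = 0) : IsMax w := by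
  rw [ringKrullDim_stalk_eq_coheight] at hw
  have : coheight w = 0 := by exact_mod_cast hw
  exact coheight_eq_zero.mp this

theorem closure_mem_irreducibleComponents_of_forall_specializes {T : Type*} [TopologicalSpace T]
    [QuasiSober T] (w : T) (hw : ∀ t : T, t ⤳ w → w ⤳ t) :
    closure ({w} : Set T) ∈ irreducibleComponents T := by
  refine ⟨isIrreducible_singleton.closure, fun S hS hwS => ?_⟩
  have hSc : IsIrreducible (closure S) := hS.closure
  have ht := hSc.isGenericPoint_genericPoint isClosed_closure
  set t := hSc.genericPoint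
  have h1 : t ⤳ w := ht.specializes (subset_closure (hwS (subset_closure rfl)))
  have h2 : w ⤳ t := hw t h1
  calc S ⊆ closure S := subset_closure
    _ = closure {t} := ht.def.symm
    _ ⊆ closure {w} := h2.closure_subset

/-- In a locally Noetherian scheme a maximal point has an open neighbourhood contained in its
closure. -/
theorem exists_open_subset_closure_of_isMax (F : Scheme.{u}) [IsLocallyNoetherian F] (w : F)
    (hw : IsMax w) : ∃ o : Set F, IsOpen o ∧ w ∈ o ∧ o ⊆ closure {w} := by
  obtain ⟨_, ⟨U, hU, rfl⟩, hwU, -⟩ := F.isBasis_affineOpens.exists_subset_of_mem_open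
    (Set.mem_univ w) isOpen_univ
  replace hU : IsAffineOpen U := hU
  have hUN : NoetherianSpace ↥U := by
    have : IsNoetherianRing Γ(F, U) := IsLocallyNoetherian.component_noetherian ⟨U, hU⟩
    exact noetherianSpace_of_isAffineOpen U hU
  have hQS : QuasiSober ↥U := U.isOpen.isOpenEmbedding_subtypeVal.quasiSober
  set w' : ↥U := ⟨w, hwU⟩
  have hmax' : ∀ t : ↥U, t ⤳ w' → w' ⤳ t := by
    intro t ht
    have h1 : t.1 ⤳ w := ht.map continuous_subtype_val
    have h2 : w ⤳ t.1 := hw (show w ≤ t.1 from h1)
    exact IsInducing.subtypeVal.specializes_iff.mp h2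
  have hcomp := closure_mem_irreducibleComponents_of_forall_specializes w' hmax'
  obtain ⟨o', ho', hone, hosub⟩ :=
    NoetherianSpace.exists_isOpen_nonempty_subset_irreducibleComponent _ hcomp
  have hwo : w' ∈ o' := by
    have hgen : IsGenericPoint w' (closure ({w'} : Set ↥U)) := rfl
    rw [hgen.mem_open_set_iff ho']
    obtain ⟨t, ht⟩ := hone
    exact ⟨t, hosub ht, ht⟩
  refine ⟨Subtype.val '' o', U.isOpen.isOpenMap_subtype_val _ ho', ⟨w', hwo, rfl⟩, ?_⟩
  rintro _ ⟨t, ht, rfl⟩
  have h1 := image_closure_subset_closure_image continuous_subtype_val ⟨t, hosub ht, rfl⟩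
  rwa [Set.image_singleton] at h1

/-- the generic point of an irreducible component is a maximal point -/
theorem isMax_of_isGenericPoint_irreducibleComponent (F : Scheme.{u}) (Z : Set F)
    (hZ : Z ∈ irreducibleComponents (F : Type u)) (w : F) (hw : IsGenericPoint w Z) : IsMax w := by
  intro w' hww'
  have h1 : w' ⤳ w := hww'
  have h2 : Z ⊆ closure {w'} := by rw [← hw.def]; exact h1.closure_subset
  have h3 : closure {w'} ⊆ Z := hZ.2 isIrreducible_singleton.closure h2
  have h4 : w' ∈ closure ({w} : Set F) := by rw [hw.def]; exact h3 (subset_closure rfl)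
  exact (specializes_iff_mem_closure.mpr h4 : w ⤳ w')

/-- Around a maximal point `z` of a fibre of a morphism locally of finite type, the fibre is
contained in the closure of `z`. -/
theorem exists_open_inter_fibre_subset_closure {X Y : Scheme.{u}} (f : X ⟶ Y)
    [LocallyOfFiniteType f] (z : X)
    (hz : ringKrullDim ((f.fiber (f.base z)).presheaf.stalk (f.asFiber z)) = 0) :
    ∃ W : Set X, IsOpen W ∧ z ∈ W ∧ W ∩ f.base ⁻¹' {f.base z} ⊆ closure {z} := by
  have hlft : LocallyOfFiniteType (f.fiberToSpecResidueField (f.base z)) :=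
    inferInstanceAs (LocallyOfFiniteType (pullback.snd f (Y.fromSpecResidueField (f.base z))))
  have : IsLocallyNoetherian (f.fiber (f.base z)) :=
    LocallyOfFiniteType.isLocallyNoetherian (f.fiberToSpecResidueField (f.base z))
  set w := f.asFiber z with hwdef
  have hmax := isMax_of_ringKrullDim_stalk_eq_zero _ w hz
  obtain ⟨o, ho, hwo, hosub⟩ := exists_open_subset_closure_of_isMax _ w hmax
  obtain ⟨W, hW, hWo⟩ := (f.fiberι (f.base z)).isEmbedding.isInducing.isOpen_iff.mp ho
  refine ⟨W, hW, ?_, ?_⟩
  · have : w ∈ (f.fiberι (f.base z)).base ⁻¹' W := hWo ▸ hwo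
    rw [Set.mem_preimage, hwdef, f.fiberι_asFiber] at this
    exact this
  · rintro t ⟨htW, htf⟩
    have : t ∈ Set.range (f.fiberι (f.base z)).base := by
      rw [Scheme.Hom.range_fiberι]; exact htf
    obtain ⟨t', rfl⟩ := this
    have ht'o : t' ∈ o := by rw [← hWo]; exact htW
    have h1 : t' ∈ closure ({w} : Set ↥(f.fiber (f.base z))) := hosub ht'o
    have h2 := image_closure_subset_closure_image (f.fiberι (f.base z)).continuous ⟨t', h1, rfl⟩
    rw [Set.image_singleton, hwdef, f.fiberι_asFiber] at h2
    exact h2

end Groth.Agent.H17.Chev
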