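import Groth.Agent.H17.Chev.RedSubMain

set_option autoImplicit false
set_option linter.unusedSectionVars false
set_option linter.style.haveILetI false
universe u
open CategoryTheory CategoryTheory.Limits AlgebraicGeometry Topology Order TopologicalSpace

namespace Groth.Agent.H17.Chev

/-- **Chevalley's semicontinuity for an irreducible closed subset**, in topological form: the
dimension of the generic fibre of `X' → closure (f X')` is at most the local dimension at any point
of its fibre. (No Noetherian hypothesis.) -/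
theorem dim_generic_le_localDim {X Y : Scheme.{u}} (f : X ⟶ Y)
    [LocallyOfFiniteType f] (X' : Set X) (hc : IsClosed X') (ξ : X) (hξ : IsGenericPoint ξ X')
    (x : X) (hx : x ∈ X') :
    topologicalKrullDim ↥(X' ∩ f.base ⁻¹' {f.base ξ}) ≤
      FlatMor.localDim ↥(X' ∩ f.base ⁻¹' {f.base x}) ⟨x, hx, rfl⟩ := by
  obtain ⟨X₁, Y₁, iX, iY, f₁, hiX, hiY, hsq, hrX, hrY⟩ := exists_square f X' hc
  rw [closure_image_eq_of_isGenericPoint f.base f.continuous X' ξ hξ] at hrY
  have hinj : Function.Injective iY.base := iY.isEmbedding.injective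
  obtain ⟨a, rfl⟩ : x ∈ Set.range iX.base := hrX ▸ hx
  obtain ⟨aξ, rfl⟩ : ξ ∈ Set.range iX.base := hrX ▸ hξ.mem
  obtain ⟨hX₁, hclX⟩ := irreducibleSpace_of_isEmbedding iX.base iX.isEmbedding aξ
    (by rw [hrX, hξ.def])
  obtain ⟨hY₁, hclY⟩ := irreducibleSpace_of_isEmbedding iY.base iY.isEmbedding (f₁.base aξ)
    (by rw [hrY, sq_apply f iX iY f₁ hsq])
  have hgen : genericPoint Y₁ = f₁.base aξ := by
    have h1 : IsGenericPoint (f₁.base aξ) (Set.univ : Set Y₁) := hclY
    exact ((genericPoint_spec Y₁).eq h1)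
  have hdom : IsDominant f₁ := by
    constructor
    rw [DenseRange, dense_iff_closure_eq, Set.eq_univ_iff_forall]
    intro t
    have : closure {f₁.base aξ} ⊆ closure (Set.range f₁.base) :=
      closure_mono (Set.singleton_subset_iff.mpr ⟨aξ, rfl⟩)
    exact this (hclY ▸ Set.mem_univ t)
  have hlft : LocallyOfFiniteType (f₁ ≫ iY) := by rw [hsq]; infer_instance
  have hlft₁ : LocallyOfFiniteType f₁ := locallyOfFiniteType_of_comp f₁ iY
  have e2 : topologicalKrullDim ↥(Set.range iX.base ∩ f.base ⁻¹' {iY.base (f₁.base aξ)}) =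
      topologicalKrullDim ↥(Set.range iX.base ∩ f.base ⁻¹' {f.base (iX.base aξ)}) :=
    topologicalKrullDim_subtype_congr (by rw [sq_apply f iX iY f₁ hsq])
  have key := dim_genericFiber_le_fibreDimAt f₁ a
  rw [sq_fibreDimAt f iX iY f₁ hsq hinj a,
    sq_dim_fiber f iX iY f₁ hsq hinj (genericPoint Y₁), hgen] at key
  subst hrX
  rw [e2] at key
  exact key

end Groth.Agent.H17.Chev
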