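import Groth.Agent.H17.Chev.DimIneqScheme
import Groth.Agent.H17.Chev.GenericConst
import Groth.Agent.H51.SpDim2

/-!
# Fibres over a one-dimensional base (EGA IV 5.6.x): no jump of the fibre dimension
-/

set_option autoImplicit false
set_option linter.unusedSectionVars false
set_option linter.style.haveILetI false
universe u
open CategoryTheory CategoryTheory.Limits AlgebraicGeometry Topology Order TopologicalSpace

namespace Groth.Agent.H17.Chev

/-- If `g` is strictly monotone and all its values lie strictly below a fixed element, then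
coheights go up by at least one. -/
theorem coheight_add_one_le_of_strictMono_of_lt {α β : Type*} [Preorder α] [Preorder β]
    (g : α → β) (hg : StrictMono g) (t : β) (ht : ∀ a, g a < t) (a : α) :
    coheight a + 1 ≤ coheight (g a) := by
  have key : ∀ p : LTSeries α, p.head = a → ((p.length + 1 : ℕ) : ℕ∞) ≤ coheight (g a) := by
    intro p hp
    let p' : LTSeries β := (p.map g hg).snoc t (by simpa using ht _)
    have h1 : p'.head = g a := by simp [p', hp]
    have h2 : (p'.length : ℕ∞) ≤ coheight (g a) := length_le_coheight h1.ge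
    have h3 : p'.length = p.length + 1 := by simp [p']
    rwa [h3] at h2
  cases h : coheight (g a) with
  | top => exact le_top
  | coe m =>
    rw [h] at key
    have hm : 1 ≤ m := by
      have := key (RelSeries.singleton _ a) rfl
      norm_cast at this
    have h4 : coheight a ≤ ((m - 1 : ℕ) : ℕ∞) := by
      refine coheight_le fun p hp => ?_
      have := key p hp
      norm_cast at this ⊢
      omega
    calc coheight a + 1 ≤ ((m - 1 : ℕ) : ℕ∞) + 1 := by gcongr
      _ = m := by norm_cast; omega

/-- the image in `X` of a point of the fibre lies over `y` -/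
theorem map_fiberι {X Y : Scheme.{u}} (f : X ⟶ Y) (y : Y) (z : ↥(f.fiber y)) :
    f.base ((f.fiberι y).base z) = y :=
  ((f.fiberHomeo y) z).2

theorem localDim_fiber_eq_fibreDimAt {X Y : Scheme.{u}} (f : X ⟶ Y) (y : Y) (z : ↥(f.fiber y)) :
    FlatMor.localDim ↥(f.fiber y) z = FlatMor.fibreDimAt f ((f.fiberι y).base z) := by
  rw [localDim_eq_of_isOpenEmbedding (f.fiberHomeo y).isOpenEmbedding z,
    localDim_preimage_singleton_eq]
  rfl

theorem strictMono_fiberι {X Y : Scheme.{u}} (f : X ⟶ Y) (y : Y) :
    StrictMono (f.fiberι y).base := by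
  intro a b hab
  rw [lt_iff_le_not_ge] at hab ⊢
  simp only [Scheme.le_iff_specializes] at hab ⊢
  refine ⟨hab.1.map (f.fiberι y).continuous, fun h => hab.2 ?_⟩
  exact (f.fiberι y).isEmbedding.isInducing.specializes_iff.mp h

theorem coheight_fiber_add_one_le {X Y : Scheme.{u}} [IrreducibleSpace X] [IrreducibleSpace Y]
    (f : X ⟶ Y) [IsDominant f] (y : Y) (hy : y ≠ genericPoint Y) (z : ↥(f.fiber y)) :
    coheight z + 1 ≤ coheight ((f.fiberι y).base z) := by
  refine coheight_add_one_le_of_strictMono_of_lt _ (strictMono_fiberι f y) (genericPoint X) ?_ z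
  intro a
  rw [lt_iff_le_not_ge]
  simp only [Scheme.le_iff_specializes]
  refine ⟨genericPoint_specializes _, fun h => hy ?_⟩
  have h1 : f.base ((f.fiberι y).base a) ⤳ f.base (genericPoint X) := h.map f.continuous
  rw [map_fiberι, map_genericPoint_of_isDominant f] at h1
  exact (h1.antisymm (genericPoint_specializes _)).eq

/-- Over a one-dimensional base, the local fibre dimension at points of special fibres is at most
the dimension of the generic fibre. -/
theorem fibreDimAt_le_of_dim_one {X Y : Scheme.{u}} (f : X ⟶ Y) [IsLocallyNoetherian Y]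
    [IrreducibleSpace Y] [IrreducibleSpace X] (hY : topologicalKrullDim Y = 1)
    [LocallyOfFiniteType f] [IsDominant f] (x : X) (hx : f.base x ≠ genericPoint Y) :
    FlatMor.fibreDimAt f x ≤ topologicalKrullDim ↥(f.fiber (genericPoint Y)) := by
  have key := stalk_dim_add_fibreDimAt_le f x
  have : IsLocallyNoetherian X := LocallyOfFiniteType.isLocallyNoetherian f
  obtain ⟨a, ha⟩ := exists_nat_eq_ringKrullDim (X.presheaf.stalk x)
  have hb : ringKrullDim (Y.presheaf.stalk (f.base x)) ≤ 1 := by
    rw [ringKrullDim_stalk_eq_coheight, ← hY,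
      Groth.Agent.H51.topologicalKrullDim_eq_iSup_coheight]
    exact le_iSup (fun y : Y => (Order.coheight y : WithBot ℕ∞)) (f.base x)
  have hc : ringKrullDim ((f.fiber (f.base x)).presheaf.stalk (f.asFiber x)) + 1 ≤
      ringKrullDim (X.presheaf.stalk x) := by
    rw [ringKrullDim_stalk_eq_coheight, ringKrullDim_stalk_eq_coheight]
    have := coheight_fiber_add_one_le f (f.base x) hx (f.asFiber x)
    rw [Scheme.Hom.fiberι_asFiber] at this
    exact_mod_cast this
  rw [ha] at key hc
  refine le_of_natCast_add_le_natCast_add (a := a) (key.trans ?_)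
  gcongr
  calc ringKrullDim (Y.presheaf.stalk (f.base x)) +
        ringKrullDim ((f.fiber (f.base x)).presheaf.stalk (f.asFiber x))
      ≤ 1 + ringKrullDim ((f.fiber (f.base x)).presheaf.stalk (f.asFiber x)) := by gcongr
    _ = ringKrullDim ((f.fiber (f.base x)).presheaf.stalk (f.asFiber x)) + 1 := add_comm _ _
    _ ≤ a := hc

/-- EGA IV 5.6.x / 13.x: over an irreducible locally Noetherian base of dimension one, all
irreducible components of all fibres of a dominant finite type morphism from an irreducible
scheme have the dimension of the generic fibre. -/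
theorem dim_irreducibleComponent_fiber_eq_of_dim_one {X Y : Scheme.{u}} (f : X ⟶ Y)
    [IsLocallyNoetherian Y] [IrreducibleSpace Y] [IrreducibleSpace X]
    (hY : topologicalKrullDim Y = 1) [LocallyOfFiniteType f] [QuasiCompact f] [IsDominant f]
    (y : Y) (Z : Set ↥(f.fiber y)) (hZ : Z ∈ irreducibleComponents ↥(f.fiber y)) :
    topologicalKrullDim Z = topologicalKrullDim ↥(f.fiber (genericPoint Y)) := by
  have hlft : LocallyOfFiniteType (f.fiberToSpecResidueField y) :=
    inferInstanceAs (LocallyOfFiniteType (pullback.snd f (Y.fromSpecResidueField y)))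
  have : IsLocallyNoetherian (f.fiber y) :=
    LocallyOfFiniteType.isLocallyNoetherian (f.fiberToSpecResidueField y)
  have : IsNoetherian (f.fiber y) := ⟨⟩
  have : NoetherianSpace ↥(f.fiber y) := inferInstance
  apply le_antisymm
  · -- upper bound
    refine (IsInducing.subtypeVal.topologicalKrullDim_le).trans ?_
    by_cases hy : y = genericPoint Y
    · rw [hy]
    · rw [topologicalKrullDim_eq_iSup_localDim]
      refine iSup_le fun z => ?_
      rw [localDim_fiber_eq_fibreDimAt]
      apply fibreDimAt_le_of_dim_one f hY
      rw [map_fiberι]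
      exact hy
  · -- lower bound
    obtain ⟨o, ho, ⟨z, hz⟩, hoZ⟩ :=
      NoetherianSpace.exists_isOpen_nonempty_subset_irreducibleComponent Z hZ
    calc topologicalKrullDim ↥(f.fiber (genericPoint Y))
        ≤ FlatMor.fibreDimAt f ((f.fiberι y).base z) := dim_genericFiber_le_fibreDimAt f _
      _ = FlatMor.localDim ↥(f.fiber y) z := (localDim_fiber_eq_fibreDimAt f y z).symm
      _ ≤ topologicalKrullDim ↥o := localDim_le_dim_of_mem z ⟨o, ho⟩ hz
      _ ≤ topologicalKrullDim ↥Z := (IsEmbedding.inclusion hoZ).isInducing.topologicalKrullDim_le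

end Groth.Agent.H17.Chev
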