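import Groth.Agent.H17.Chev.DimEqScheme
import Groth.Agent.H17.Chev.DimOneBase

/-!
# EGA IV 5.6.5: `dim X ≤ dim Y + dim X_η`, with equality criterion over a universally catenary base
-/

set_option autoImplicit false
set_option linter.unusedSectionVars false
set_option linter.style.haveILetI false
universe u
open CategoryTheory CategoryTheory.Limits AlgebraicGeometry Topology Order TopologicalSpace

namespace Groth.Agent.H17.Chev

/-- the dimension of the local ring at a point is at most the local dimension -/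
theorem ringKrullDim_stalk_le_localDim (F : Scheme.{u}) (z : F) :
    ringKrullDim (F.presheaf.stalk z) ≤ FlatMor.localDim ↥F z := by
  rw [ringKrullDim_stalk_eq_coheight]
  unfold FlatMor.localDim
  refine le_iInf fun W => ?_
  change _ ≤ topologicalKrullDim ↥((W.1 : F.Opens) : Set F)
  rw [Groth.Agent.H51.topologicalKrullDim_opens F W.1]
  exact le_iSup_of_le z (le_iSup_of_le W.2 le_rfl)

theorem ringKrullDim_stalk_fiber_le_fibreDimAt {X Y : Scheme.{u}} (f : X ⟶ Y) (x : X) :
    ringKrullDim ((f.fiber (f.base x)).presheaf.stalk (f.asFiber x)) ≤ FlatMor.fibreDimAt f x :=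
  ringKrullDim_stalk_le_localDim _ _

theorem le_of_add_natCast_le_add_natCast {a : ℕ} {F e : WithBot ℕ∞}
    (h : F + (a : WithBot ℕ∞) ≤ e + a) : F ≤ e := by
  rw [add_comm F, add_comm e] at h
  exact le_of_natCast_add_le_natCast_add h

/-- `dim O_{X,x} ≤ dim O_{Y,f x} + dim X_η`. -/
theorem ringKrullDim_stalk_le_add {X Y : Scheme.{u}} [IrreducibleSpace X] [IrreducibleSpace Y]
    [IsLocallyNoetherian Y] (f : X ⟶ Y) [LocallyOfFiniteType f] [IsDominant f] (x : X) :
    ringKrullDim (X.presheaf.stalk x) ≤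
      ringKrullDim (Y.presheaf.stalk (f.base x)) +
        topologicalKrullDim ↥(f.fiber (genericPoint Y)) := by
  have key := stalk_dim_add_fibreDimAt_le f x
  have h1 := ringKrullDim_stalk_fiber_le_fibreDimAt f x
  have hlft : LocallyOfFiniteType (f.fiberToSpecResidueField (f.base x)) :=
    inferInstanceAs (LocallyOfFiniteType (pullback.snd f (Y.fromSpecResidueField (f.base x))))
  have : IsLocallyNoetherian (f.fiber (f.base x)) :=
    LocallyOfFiniteType.isLocallyNoetherian (f.fiberToSpecResidueField (f.base x))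
  obtain ⟨c, hc⟩ := exists_nat_eq_ringKrullDim ((f.fiber (f.base x)).presheaf.stalk (f.asFiber x))
  rw [hc] at key h1
  refine le_of_add_natCast_le_add_natCast (a := c) ?_
  calc ringKrullDim (X.presheaf.stalk x) + (c : WithBot ℕ∞)
      ≤ ringKrullDim (X.presheaf.stalk x) + FlatMor.fibreDimAt f x := by gcongr
    _ ≤ _ := key
    _ = _ := by ring

/-- In every nonempty fibre of a morphism locally of finite type there is a point (closed in an
affine chart of the fibre) at which the local fibre dimension is the dimension of the local ring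
of the fibre. -/
theorem exists_fibre_point_fibreDimAt_eq {X Y : Scheme.{u}} (f : X ⟶ Y) [LocallyOfFiniteType f]
    (x₀ : X) :
    ∃ x : X, f.base x = f.base x₀ ∧ FlatMor.fibreDimAt f x =
      ringKrullDim ((f.fiber (f.base x)).presheaf.stalk (f.asFiber x)) := by
  obtain ⟨_, ⟨V, hV, rfl⟩, hyV, -⟩ := Y.isBasis_affineOpens.exists_subset_of_mem_open
    (Set.mem_univ (f.base x₀)) isOpen_univ
  obtain ⟨_, ⟨U, hU, rfl⟩, hxU, hUV⟩ := X.isBasis_affineOpens.exists_subset_of_mem_open
    (show x₀ ∈ ((f ⁻¹ᵁ V : X.Opens) : Set X) from hyV) (f ⁻¹ᵁ V).isOpen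
  replace hU : IsAffineOpen U := hU
  replace hV : IsAffineOpen V := hV
  letI : Algebra Γ(Y, V) Γ(X, U) := (f.appLE V U hUV).hom.toAlgebra
  have hft : Algebra.FiniteType Γ(Y, V) Γ(X, U) := f.finiteType_appLE hV hU hUV
  have hsq : Spec.map (CommRingCat.ofHom (algebraMap Γ(Y, V) Γ(X, U))) ≫ hV.fromSpec =
      hU.fromSpec ≫ f := IsAffineOpen.SpecMap_appLE_fromSpec f hV hU hUV
  obtain ⟨q₀, hq₀⟩ : ∃ q : ↥(Spec Γ(X, U)), hU.fromSpec.base q = x₀ :=
    ⟨_, hU.fromSpec_primeIdealOf ⟨x₀, hxU⟩⟩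
  subst hq₀
  let pP : PrimeSpectrum Γ(Y, V) := PrimeSpectrum.comap (algebraMap Γ(Y, V) Γ(X, U)) q₀
  let e := PrimeSpectrum.preimageHomeomorphFiber Γ(Y, V) Γ(X, U) pP
  -- a maximal ideal of the fibre ring
  haveI : Nontrivial (pP.asIdeal.Fiber Γ(X, U)) :=
    (PrimeSpectrum.nonempty_iff_nontrivial).mp ⟨e ⟨q₀, rfl⟩⟩
  obtain ⟨M, hM⟩ := Ideal.exists_maximal (pP.asIdeal.Fiber Γ(X, U))
  let Q : PrimeSpectrum (pP.asIdeal.Fiber Γ(X, U)) := ⟨M, hM.isPrime⟩
  let q : PrimeSpectrum Γ(X, U) := (e.symm Q).1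
  have hq : PrimeSpectrum.comap (algebraMap Γ(Y, V) Γ(X, U)) q = pP := (e.symm Q).2
  have heq : e ⟨q, hq⟩ = Q := e.apply_symm_apply Q
  refine ⟨hU.fromSpec.base q, ?_, ?_⟩
  · rw [chart_map_eq f Γ(Y, V) Γ(X, U) hU.fromSpec hV.fromSpec hsq q,
      chart_map_eq f Γ(Y, V) Γ(X, U) hU.fromSpec hV.fromSpec hsq q₀]
    exact congrArg _ hq
  · rw [chart_fibreDimAt f Γ(Y, V) Γ(X, U) hU.fromSpec hV.fromSpec hsq pP q hq q rfl,
      chart_stalk_fibre f Γ(Y, V) Γ(X, U) hU.fromSpec hV.fromSpec hsq pP q hq q rfl, heq,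
      Groth.Agent.H11.FtDim.localDim_eq_height_add_coheight (k := pP.asIdeal.ResidueField) Q,
      PrimeSpectrum.height_eq_orderHeight]
    have h0 : Order.coheight Q = 0 := by
      rw [Order.coheight_eq_zero, PrimeSpectrum.isMax_iff]
      exact hM
    rw [h0, add_zero]

theorem iSup_add_natCast_le {ι : Sort*} (b : ι → WithBot ℕ∞) (n : ℕ) (D : WithBot ℕ∞)
    (h : ∀ i, b i + (n : WithBot ℕ∞) ≤ D) : (⨆ i, b i) + (n : WithBot ℕ∞) ≤ D := by
  by_cases hbot : ∀ i, b i = ⊥
  · have : (⨆ i, b i) = ⊥ := by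
      rw [eq_bot_iff]
      exact iSup_le fun i => (hbot i).le
    rw [this, WithBot.bot_add]
    exact bot_le
  · push Not at hbot
    obtain ⟨i₀, hi₀⟩ := hbot
    induction D with
    | bot =>
      exfalso
      have := h i₀
      rw [le_bot_iff, WithBot.add_eq_bot] at this
      rcases this with h1 | h1
      · exact hi₀ h1
      · exact WithBot.coe_ne_bot h1
    | coe D' =>
      obtain ⟨x₀, hx₀⟩ := WithBot.ne_bot_iff_exists.mp hi₀
      have hnD : (n : ℕ∞) ≤ D' := by
        have := h i₀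
        rw [← hx₀] at this
        have h2 : (x₀ + (n : ℕ∞) : ℕ∞) ≤ D' := by exact_mod_cast this
        exact le_trans le_add_self h2
      have hb : ∀ i, b i ≤ ((D' - (n : ℕ∞) : ℕ∞) : WithBot ℕ∞) := by
        intro i
        have hi := h i
        generalize b i = y at hi
        induction y with
        | bot => exact bot_le
        | coe y =>
          have h2 : (y + (n : ℕ∞) : ℕ∞) ≤ D' := by exact_mod_cast hi
          exact WithBot.coe_le_coe.mpr (ENat.le_sub_of_add_le_right (ENat.natCast_ne_top n) h2)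
      calc (⨆ i, b i) + (n : WithBot ℕ∞)
          ≤ ((D' - (n : ℕ∞) : ℕ∞) : WithBot ℕ∞) + (n : WithBot ℕ∞) := by
            gcongr
            exact iSup_le hb
        _ = ((D' - (n : ℕ∞) + (n : ℕ∞) : ℕ∞) : WithBot ℕ∞) := by push_cast; rfl
        _ = (D' : WithBot ℕ∞) := by rw [tsub_add_cancel_of_le hnD]

theorem exists_nat_eq_dim_genericFiber {X Y : Scheme.{u}} [IrreducibleSpace X]
    [IrreducibleSpace Y] (f : X ⟶ Y) [LocallyOfFiniteType f] [IsDominant f] :
    ∃ n : ℕ, topologicalKrullDim ↥(f.fiber (genericPoint Y)) = n := by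
  rw [dim_genericFiber_eq_fibreDimAt]
  exact exists_nat_eq_fibreDimAt f _

/-- Over every point of the image with universally catenary local ring there is a point `x` with
`dim O_{X,x} = dim O_{Y,y} + dim X_η`. -/
theorem exists_stalk_dim_eq {X Y : Scheme.{u}} [IrreducibleSpace X] [IrreducibleSpace Y]
    [IsLocallyNoetherian Y] (f : X ⟶ Y) [LocallyOfFiniteType f] [IsDominant f] (x₀ : X)
    (hcat : CAlg.IsUniversallyCatenary (Y.presheaf.stalk (f.base x₀))) :
    ∃ x : X, ringKrullDim (X.presheaf.stalk x) =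
      ringKrullDim (Y.presheaf.stalk (f.base x₀)) +
        topologicalKrullDim ↥(f.fiber (genericPoint Y)) := by
  obtain ⟨x, hx, hFd⟩ := exists_fibre_point_fibreDimAt_eq f x₀
  refine ⟨x, ?_⟩
  rw [← hx] at hcat ⊢
  have key := stalk_dim_add_fibreDimAt_eq f x hcat
  rw [hFd] at key
  have hlft : LocallyOfFiniteType (f.fiberToSpecResidueField (f.base x)) :=
    inferInstanceAs (LocallyOfFiniteType (pullback.snd f (Y.fromSpecResidueField (f.base x))))
  have : IsLocallyNoetherian (f.fiber (f.base x)) :=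
    LocallyOfFiniteType.isLocallyNoetherian (f.fiberToSpecResidueField (f.base x))
  obtain ⟨c, hc⟩ := exists_nat_eq_ringKrullDim ((f.fiber (f.base x)).presheaf.stalk (f.asFiber x))
  rw [hc] at key
  refine eq_of_add_natCast_eq_add_natCast (n := c) (key.trans ?_)
  ring

/-- EGA IV 5.6.5: `dim X = sup_{y ∈ f(X)} dim O_{Y,y} + dim X_η` over a universally catenary
base. -/
theorem topologicalKrullDim_eq_iSup_add {X Y : Scheme.{u}} [IrreducibleSpace X]
    [IrreducibleSpace Y] [IsLocallyNoetherian Y] (f : X ⟶ Y) [LocallyOfFiniteType f]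
    [IsDominant f] (hcat : ∀ y : Y, CAlg.IsUniversallyCatenary (Y.presheaf.stalk y)) :
    topologicalKrullDim X = (⨆ y ∈ Set.range f.base, ringKrullDim (Y.presheaf.stalk y)) +
      topologicalKrullDim ↥(f.fiber (genericPoint Y)) := by
  obtain ⟨n, hn⟩ := exists_nat_eq_dim_genericFiber f
  apply le_antisymm
  · rw [Groth.Agent.H51.topologicalKrullDim_eq_iSup_coheight]
    refine iSup_le fun x => ?_
    rw [← ringKrullDim_stalk_eq_coheight]
    refine (ringKrullDim_stalk_le_add f x).trans ?_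
    gcongr
    exact le_iSup₂_of_le (f.base x) ⟨x, rfl⟩ le_rfl
  · rw [hn]
    rw [iSup_subtype']
    refine iSup_add_natCast_le _ n _ ?_
    rintro ⟨y, x₀, rfl⟩
    obtain ⟨x, hx⟩ := exists_stalk_dim_eq f x₀ (hcat _)
    rw [← hn, ← hx, ringKrullDim_stalk_eq_coheight,
      Groth.Agent.H51.topologicalKrullDim_eq_iSup_coheight]
    exact le_iSup (fun x : X => (Order.coheight x : WithBot ℕ∞)) x


/-- EGA IV 5.6.5, first assertion. -/
theorem topologicalKrullDim_le_add {X Y : Scheme.{u}} [IrreducibleSpace X] [IrreducibleSpace Y]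
    [IsLocallyNoetherian Y] (f : X ⟶ Y) [LocallyOfFiniteType f] [IsDominant f] :
    topologicalKrullDim X ≤ topologicalKrullDim Y +
      topologicalKrullDim ↥(f.fiber (genericPoint Y)) := by
  rw [Groth.Agent.H51.topologicalKrullDim_eq_iSup_coheight X]
  refine iSup_le fun x => ?_
  rw [← ringKrullDim_stalk_eq_coheight]
  refine (ringKrullDim_stalk_le_add f x).trans ?_
  gcongr
  rw [ringKrullDim_stalk_eq_coheight, Groth.Agent.H51.topologicalKrullDim_eq_iSup_coheight Y]
  exact le_iSup (fun y : Y => (Order.coheight y : WithBot ℕ∞)) (f.base x)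

/-- EGA IV 5.6.5, second assertion. -/
theorem topologicalKrullDim_eq_add_iff {X Y : Scheme.{u}} [IrreducibleSpace X]
    [IrreducibleSpace Y] [IsLocallyNoetherian Y] (f : X ⟶ Y) [LocallyOfFiniteType f]
    [IsDominant f] (hcat : ∀ y : Y, CAlg.IsUniversallyCatenary (Y.presheaf.stalk y)) :
    topologicalKrullDim X = topologicalKrullDim Y +
        topologicalKrullDim ↥(f.fiber (genericPoint Y)) ↔
      topologicalKrullDim Y = ⨆ y ∈ Set.range f.base, ringKrullDim (Y.presheaf.stalk y) := by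
  rw [topologicalKrullDim_eq_iSup_add f hcat]
  obtain ⟨n, hn⟩ := exists_nat_eq_dim_genericFiber f
  rw [hn]
  constructor
  · intro h
    exact (eq_of_add_natCast_eq_add_natCast h).symm
  · intro h
    rw [← h]

/-- the fibres of a morphism all of whose fibres have dimension `≥ n ≥ 0` are nonempty -/
theorem surjective_of_le_dim_fiber {X Y : Scheme.{u}} (f : X ⟶ Y) (n : ℕ)
    (h : ∀ y : Y, (n : WithBot ℕ∞) ≤ topologicalKrullDim ↥(f.fiber y)) :
    Function.Surjective f.base := by
  intro y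
  by_contra hy
  have hemp : IsEmpty ↥(f.fiber y) := by
    refine ⟨fun z => hy ⟨(f.fiberι y).base z, map_fiberι f y z⟩⟩
  have : IsEmpty (IrreducibleCloseds ↥(f.fiber y)) :=
    ⟨fun Z => let ⟨z, _⟩ := Z.2.nonempty; hemp.false z⟩
  have h1 : topologicalKrullDim ↥(f.fiber y) = ⊥ := Order.krullDim_eq_bot
  have h2 := h y
  rw [h1] at h2
  simp at h2

/-- EGA IV 5.6.6-type statement: `dim X = dim Y + dim X_η` for surjective `f` over a
universally catenary base. -/
theorem topologicalKrullDim_eq_add_of_surjective {X Y : Scheme.{u}} [IrreducibleSpace X]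
    [IsLocallyNoetherian Y] (f : X ⟶ Y) [LocallyOfFiniteType f]
    (hcat : ∀ y : Y, CAlg.IsUniversallyCatenary (Y.presheaf.stalk y))
    (hs : Function.Surjective f.base) :
    haveI : IrreducibleSpace Y := hs.irreducibleSpace f.continuous
    topologicalKrullDim X = topologicalKrullDim Y +
      topologicalKrullDim ↥(f.fiber (genericPoint Y)) := by
  haveI : IrreducibleSpace Y := hs.irreducibleSpace f.continuous
  haveI : IsDominant f := ⟨hs.denseRange⟩
  rw [topologicalKrullDim_eq_iSup_add f hcat]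
  congr 1
  rw [Groth.Agent.H51.topologicalKrullDim_eq_iSup_coheight Y]
  apply le_antisymm
  · refine iSup_le fun y => iSup_le fun _ => ?_
    rw [ringKrullDim_stalk_eq_coheight]
    exact le_iSup (fun y : Y => (Order.coheight y : WithBot ℕ∞)) y
  · refine iSup_le fun y => ?_
    rw [← ringKrullDim_stalk_eq_coheight]
    exact le_iSup₂_of_le y (hs y) le_rfl

end Groth.Agent.H17.Chev
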