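import Mathlib
import Groth.Prelude
import Groth.Agent.H17.Chev.TopLocalDim

/-!
# The open embedding between set-theoretic fibres induced by a chart
-/

set_option autoImplicit false
set_option linter.unusedSectionVars false
universe u
open Topology

namespace Groth.Agent.H17.Chev

section
variable {A A' B B' : Type*} [TopologicalSpace A] [TopologicalSpace A']
  (φ : A → B) (φ' : A' → B') (j : A' → A) (i : B' → B) (hc : ∀ a, i (φ' a) = φ (j a))

/-- The map between set-theoretic fibres induced by a commutative square. -/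
def fibreMap (a' : A') : ↥(φ' ⁻¹' {φ' a'}) → ↥(φ ⁻¹' {φ (j a')}) := fun z => ⟨j z.1, by
  have := z.2
  simp only [Set.mem_preimage, Set.mem_singleton_iff] at this ⊢
  rw [← hc, ← hc, this]⟩

@[simp] theorem fibreMap_coe (a' : A') (z : ↥(φ' ⁻¹' {φ' a'})) :
    (fibreMap φ φ' j i hc a' z).1 = j z.1 := rfl

theorem fibreMap_self (a' : A') : fibreMap φ φ' j i hc a' ⟨a', rfl⟩ = ⟨j a', rfl⟩ := rfl

theorem isOpenEmbedding_fibreMap (hj : IsOpenEmbedding j) (hi : Function.Injective i) (a' : A') :
    IsOpenEmbedding (fibreMap φ φ' j i hc a') := by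
  have hψc : Continuous (fibreMap φ φ' j i hc a') :=
    (hj.continuous.comp continuous_subtype_val).subtype_mk _
  have hψe : IsEmbedding (fibreMap φ φ' j i hc a') := by
    refine IsEmbedding.of_comp hψc continuous_subtype_val ?_
    exact hj.isEmbedding.comp IsEmbedding.subtypeVal
  have hrange : Set.range (fibreMap φ φ' j i hc a') = Subtype.val ⁻¹' (Set.range j) := by
    ext w
    constructor
    · rintro ⟨z, rfl⟩
      exact ⟨z.1, rfl⟩
    · rintro ⟨z, hz⟩
      have hw := w.2
      simp only [Set.mem_preimage, Set.mem_singleton_iff] at hw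
      refine ⟨⟨z, ?_⟩, Subtype.ext hz⟩
      simp only [Set.mem_preimage, Set.mem_singleton_iff]
      apply hi
      rw [hc, hc, hz, hw]
  exact ⟨hψe, by rw [hrange]; exact hj.isOpen_range.preimage continuous_subtype_val⟩

end

end Groth.Agent.H17.Chev
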