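import Groth.Agent.H17.Chev.FibreLocal
import Groth.Agent.H17.Chev.FibreMap

/-!
# Dictionary between a morphism and an affine chart of it: stalk dimensions and local fibre dimension
-/

set_option autoImplicit false
set_option linter.unusedSectionVars false
universe u
open CategoryTheory AlgebraicGeometry Topology

namespace Groth.Agent.H17.Chev

theorem fibreDimAt_specMap (R S : Type u) [CommRing R] [CommRing S] [Algebra R S]
    (p : PrimeSpectrum R) (q : PrimeSpectrum S) (hq : PrimeSpectrum.comap (algebraMap R S) q = p)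
    (x : ↥(Spec (CommRingCat.of S))) (hx : x = q) :
    FlatMor.fibreDimAt (Spec.map (CommRingCat.ofHom (algebraMap R S))) x =
      FlatMor.localDim (PrimeSpectrum (p.asIdeal.Fiber S))
        (PrimeSpectrum.preimageHomeomorphFiber R S p ⟨q, hq⟩) := by
  subst hq hx
  rw [fibreDimAt_eq]
  exact localDim_eq_of_isOpenEmbedding
    (PrimeSpectrum.preimageHomeomorphFiber R S _).isOpenEmbedding ⟨x, rfl⟩

section chart

variable {X Y : Scheme.{u}} (f : X ⟶ Y) (R S : Type u) [CommRing R] [CommRing S] [Algebra R S]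
  (jX : Spec (CommRingCat.of S) ⟶ X) (jY : Spec (CommRingCat.of R) ⟶ Y)
  [IsOpenImmersion jX] [IsOpenImmersion jY]
  (hsq : Spec.map (CommRingCat.ofHom (algebraMap R S)) ≫ jY = jX ≫ f)

include hsq

theorem chart_map_eq (q : ↥(Spec (CommRingCat.of S))) :
    f.base (jX.base q) = jY.base ((Spec.map (CommRingCat.ofHom (algebraMap R S))).base q) := by
  rw [← Scheme.Hom.comp_apply, ← Scheme.Hom.comp_apply, hsq]

theorem chart_stalk_source (q : ↥(Spec (CommRingCat.of S))) :
    ringKrullDim (X.presheaf.stalk (jX.base q)) = (q.asIdeal.height : WithBot ℕ∞) := by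
  rw [ringKrullDim_stalk_eq_coheight, coheight_eq_of_isOpenImmersion jX,
    ← idealHeight_eq_coheight]

theorem chart_stalk_target (q : ↥(Spec (CommRingCat.of S))) :
    ringKrullDim (Y.presheaf.stalk (f.base (jX.base q))) =
      ((((Spec.map (CommRingCat.ofHom (algebraMap R S))).base q).asIdeal.height : ℕ∞) :
        WithBot ℕ∞) := by
  rw [ringKrullDim_stalk_eq_coheight, chart_map_eq f R S jX jY hsq q,
    coheight_eq_of_isOpenImmersion jY, ← idealHeight_eq_coheight]

theorem chart_fibreDimAt (p : PrimeSpectrum R) (q : PrimeSpectrum S)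
    (hq : PrimeSpectrum.comap (algebraMap R S) q = p) (x : ↥(Spec (CommRingCat.of S)))
    (hx : x = q) :
    FlatMor.fibreDimAt f (jX.base x) =
      FlatMor.localDim (PrimeSpectrum (p.asIdeal.Fiber S))
        (PrimeSpectrum.preimageHomeomorphFiber R S p ⟨q, hq⟩) := by
  rw [← fibreDimAt_eq_of_isOpenImmersion f (Spec.map (CommRingCat.ofHom (algebraMap R S))) jX jY
    jY.isOpenEmbedding.injective hsq x]
  exact fibreDimAt_specMap R S p q hq x hx

attribute [local instance] specializationOrder in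
theorem chart_stalk_fibre (p : PrimeSpectrum R) (q : PrimeSpectrum S)
    (hq : PrimeSpectrum.comap (algebraMap R S) q = p) (x : ↥(Spec (CommRingCat.of S)))
    (hx : x = q) :
    ringKrullDim ((f.fiber (f.base (jX.base x))).presheaf.stalk (f.asFiber (jX.base x))) =
      (((PrimeSpectrum.preimageHomeomorphFiber R S p ⟨q, hq⟩).asIdeal.height : ℕ∞) :
        WithBot ℕ∞) := by
  subst hq hx
  rw [ringKrullDim_stalk_eq_coheight]
  -- the open embedding `Spec (κ(p) ⊗ S) → X_y`
  let g := Spec.map (CommRingCat.ofHom (algebraMap R S))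
  let ψ := fibreMap f.base g.base jX.base jY.base
    (fun a => by rw [← Scheme.Hom.comp_apply, ← Scheme.Hom.comp_apply, hsq]) x
  have hψ : IsOpenEmbedding ψ :=
    isOpenEmbedding_fibreMap _ _ _ _ _ jX.isOpenEmbedding jY.isOpenEmbedding.injective x
  let e₁ := PrimeSpectrum.preimageHomeomorphFiber R S (PrimeSpectrum.comap (algebraMap R S) x)
  let e₂ := f.fiberHomeo (f.base (jX.base x))
  let Θ : PrimeSpectrum ((PrimeSpectrum.comap (algebraMap R S) x).asIdeal.Fiber S) →
      ↥(f.fiber (f.base (jX.base x))) := fun z => e₂.symm (ψ (e₁.symm z))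
  have hΘ : IsOpenEmbedding Θ :=
    e₂.symm.isOpenEmbedding.comp (hψ.comp e₁.symm.isOpenEmbedding)
  have hΘx : Θ (e₁ ⟨x, rfl⟩) = f.asFiber (jX.base x) := by
    change e₂.symm (ψ (e₁.symm (e₁ ⟨x, rfl⟩))) = _
    rw [Homeomorph.symm_apply_apply, Homeomorph.symm_apply_eq]
    apply Subtype.ext
    rw [Scheme.Hom.fiberHomeo_apply, Scheme.Hom.fiberι_asFiber]
    rfl
  rw [← hΘx]
  have h1 := hΘ.coheight_eq (x := e₁ ⟨x, rfl⟩) Θ
  have h2 := idealHeight_eq_coheight
    (CommRingCat.of ((PrimeSpectrum.comap (algebraMap R S) x).asIdeal.Fiber S)) (e₁ ⟨x, rfl⟩)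
  rw [h2]
  exact congrArg _ h1

end chart

end Groth.Agent.H17.Chev
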