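import Groth.Agent.H17.Chev.DimIneqScheme
import Groth.Agent.H17.DimEq

set_option autoImplicit false
set_option linter.unusedSectionVars false
set_option linter.style.haveILetI false
universe u
open CategoryTheory CategoryTheory.Limits AlgebraicGeometry Topology

namespace Groth.Agent.H17.Chev

/-- **Dimension formula** (EGA IV 5.6.5) in terms of the local fibre dimension, at a point whose
image has a universally catenary local ring. -/
theorem stalk_dim_add_fibreDimAt_eq {X Y : Scheme.{u}} [IrreducibleSpace X] [IrreducibleSpace Y]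
    [IsLocallyNoetherian Y] (f : X ⟶ Y) [LocallyOfFiniteType f] [IsDominant f] (x : X)
    (hcat : CAlg.IsUniversallyCatenary (Y.presheaf.stalk (f.base x))) :
    ringKrullDim (X.presheaf.stalk x) + FlatMor.fibreDimAt f x =
      ringKrullDim (Y.presheaf.stalk (f.base x)) +
        ringKrullDim ((f.fiber (f.base x)).presheaf.stalk (f.asFiber x)) +
        topologicalKrullDim ↥(f.fiber (genericPoint Y)) := by
  obtain ⟨_, ⟨V, hV, rfl⟩, hyV, -⟩ := Y.isBasis_affineOpens.exists_subset_of_mem_open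
    (Set.mem_univ (f.base x)) isOpen_univ
  obtain ⟨_, ⟨U, hU, rfl⟩, hxU, hUV⟩ := X.isBasis_affineOpens.exists_subset_of_mem_open
    (show x ∈ ((f ⁻¹ᵁ V : X.Opens) : Set X) from hyV) (f ⁻¹ᵁ V).isOpen
  replace hU : IsAffineOpen U := hU
  replace hV : IsAffineOpen V := hV
  have hξU : genericPoint X ∈ U :=
    ((genericPoint_spec X).mem_open_set_iff U.2).mpr ⟨x, Set.mem_univ _, hxU⟩
  letI : Algebra Γ(Y, V) Γ(X, U) := (f.appLE V U hUV).hom.toAlgebra
  have hN : IsNoetherianRing Γ(Y, V) := IsLocallyNoetherian.component_noetherian ⟨V, hV⟩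
  have hft : Algebra.FiniteType Γ(Y, V) Γ(X, U) := f.finiteType_appLE hV hU hUV
  have hsq : Spec.map (CommRingCat.ofHom (algebraMap Γ(Y, V) Γ(X, U))) ≫ hV.fromSpec =
      hU.fromSpec ≫ f := IsAffineOpen.SpecMap_appLE_fromSpec f hV hU hUV
  obtain ⟨q, hq⟩ : ∃ q : ↥(Spec Γ(X, U)), hU.fromSpec.base q = x :=
    ⟨_, hU.fromSpec_primeIdealOf ⟨x, hxU⟩⟩
  obtain ⟨q₀, hq₀⟩ : ∃ q : ↥(Spec Γ(X, U)), hU.fromSpec.base q = genericPoint X :=
    ⟨_, hU.fromSpec_primeIdealOf ⟨genericPoint X, hξU⟩⟩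
  subst hq
  haveI : q.asIdeal.IsPrime := q.isPrime
  haveI : q₀.asIdeal.IsPrime := q₀.isPrime
  have hQ₀nil : q₀.asIdeal ≤ nilradical Γ(X, U) := by
    rw [nilradical_eq_sInf, le_sInf_iff]
    intro J hJ
    let j : ↥(Spec Γ(X, U)) := ⟨J, hJ⟩
    have h1 : hU.fromSpec.base q₀ ⤳ hU.fromSpec.base j := by
      rw [hq₀]
      exact genericPoint_specializes _
    have h2 : q₀ ⤳ j := hU.fromSpec.isOpenEmbedding.isInducing.specializes_iff.mp h1
    exact (PrimeSpectrum.le_iff_specializes q₀ j).mpr h2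
  let pP : PrimeSpectrum Γ(Y, V) := PrimeSpectrum.comap (algebraMap Γ(Y, V) Γ(X, U)) q
  let pP₀ : PrimeSpectrum Γ(Y, V) := PrimeSpectrum.comap (algebraMap Γ(Y, V) Γ(X, U)) q₀
  have hP₀nil : pP₀.asIdeal ≤ nilradical Γ(Y, V) := by
    rw [nilradical_eq_sInf, le_sInf_iff]
    intro J hJ
    let j : ↥(Spec Γ(Y, V)) := ⟨J, hJ⟩
    have h0 : hV.fromSpec.base pP₀ = genericPoint Y :=
      (chart_map_eq f Γ(Y, V) Γ(X, U) hU.fromSpec hV.fromSpec hsq q₀).symm.trans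
        (by rw [hq₀, map_genericPoint_of_isDominant f])
    have h1 : hV.fromSpec.base pP₀ ⤳ hV.fromSpec.base j := by
      rw [h0]
      exact genericPoint_specializes _
    have h2 : pP₀ ⤳ j := hV.fromSpec.isOpenEmbedding.isInducing.specializes_iff.mp h1
    exact (PrimeSpectrum.le_iff_specializes pP₀ j).mpr h2
  haveI : q.asIdeal.LiesOver pP.asIdeal := ⟨rfl⟩
  haveI : q₀.asIdeal.LiesOver pP₀.asIdeal := ⟨rfl⟩
  let Q := PrimeSpectrum.preimageHomeomorphFiber Γ(Y, V) Γ(X, U) pP ⟨q, rfl⟩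
  let Q' := PrimeSpectrum.preimageHomeomorphFiber Γ(Y, V) Γ(X, U) pP₀ ⟨q₀, rfl⟩
  have hQ : Q.asIdeal.comap (Algebra.TensorProduct.includeRight :
      Γ(X, U) →ₐ[Γ(Y, V)] pP.asIdeal.Fiber Γ(X, U)).toRingHom = q.asIdeal :=
    congrArg (fun z => z.1.asIdeal)
      ((PrimeSpectrum.preimageEquivFiber Γ(Y, V) Γ(X, U) pP).symm_apply_apply ⟨q, rfl⟩)
  have hQ' : Q'.asIdeal.comap (Algebra.TensorProduct.includeRight :
      Γ(X, U) →ₐ[Γ(Y, V)] pP₀.asIdeal.Fiber Γ(X, U)).toRingHom = q₀.asIdeal :=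
    congrArg (fun z => z.1.asIdeal)
      ((PrimeSpectrum.preimageEquivFiber Γ(Y, V) Γ(X, U) pP₀).symm_apply_apply ⟨q₀, rfl⟩)
  -- the local ring of `Y` at the image point
  have hpt := chart_map_eq f Γ(Y, V) Γ(X, U) hU.fromSpec hV.fromSpec hsq q
  have hmemV : hV.fromSpec.base pP ∈ V := by
    have : hV.fromSpec.base pP ∈ Set.range hV.fromSpec.base := Set.mem_range_self _
    rwa [hV.range_fromSpec] at this
  have hcat' : CAlg.IsUniversallyCatenary (Y.presheaf.stalk (hV.fromSpec.base pP)) := hpt ▸ hcat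
  letI : Algebra Γ(Y, V) (Y.presheaf.stalk (hV.fromSpec.base pP)) :=
    TopCat.Presheaf.algebra_section_stalk Y.presheaf ⟨hV.fromSpec.base pP, hmemV⟩
  haveI : IsLocalization.AtPrime (Y.presheaf.stalk (hV.fromSpec.base pP)) pP.asIdeal :=
    hV.isLocalization_stalk' pP hmemV
  have key := Groth.Agent.H17.DimIneq.height_add_localDim_fiber_eq Γ(Y, V) Γ(X, U) pP₀.asIdeal
    q₀.asIdeal hP₀nil hQ₀nil pP.asIdeal q.asIdeal (Y.presheaf.stalk (hV.fromSpec.base pP)) hcat'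
    Q hQ Q' hQ'
  rw [chart_stalk_source f Γ(Y, V) Γ(X, U) hU.fromSpec hV.fromSpec hsq q,
    chart_stalk_target f Γ(Y, V) Γ(X, U) hU.fromSpec hV.fromSpec hsq q,
    chart_fibreDimAt f Γ(Y, V) Γ(X, U) hU.fromSpec hV.fromSpec hsq pP q rfl q rfl,
    chart_stalk_fibre f Γ(Y, V) Γ(X, U) hU.fromSpec hV.fromSpec hsq pP q rfl q rfl,
    dim_genericFiber_eq_fibreDimAt, ← hq₀,
    chart_fibreDimAt f Γ(Y, V) Γ(X, U) hU.fromSpec hV.fromSpec hsq pP₀ q₀ rfl q₀ rfl]
  exact key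

/-- The local fibre dimension of a morphism locally of finite type is a natural number. -/
theorem exists_nat_eq_fibreDimAt {X Y : Scheme.{u}} (f : X ⟶ Y) [LocallyOfFiniteType f] (x : X) :
    ∃ n : ℕ, FlatMor.fibreDimAt f x = n := by
  obtain ⟨_, ⟨V, hV, rfl⟩, hyV, -⟩ := Y.isBasis_affineOpens.exists_subset_of_mem_open
    (Set.mem_univ (f.base x)) isOpen_univ
  obtain ⟨_, ⟨U, hU, rfl⟩, hxU, hUV⟩ := X.isBasis_affineOpens.exists_subset_of_mem_open
    (show x ∈ ((f ⁻¹ᵁ V : X.Opens) : Set X) from hyV) (f ⁻¹ᵁ V).isOpen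
  replace hU : IsAffineOpen U := hU
  replace hV : IsAffineOpen V := hV
  letI : Algebra Γ(Y, V) Γ(X, U) := (f.appLE V U hUV).hom.toAlgebra
  have hft : Algebra.FiniteType Γ(Y, V) Γ(X, U) := f.finiteType_appLE hV hU hUV
  have hsq : Spec.map (CommRingCat.ofHom (algebraMap Γ(Y, V) Γ(X, U))) ≫ hV.fromSpec =
      hU.fromSpec ≫ f := IsAffineOpen.SpecMap_appLE_fromSpec f hV hU hUV
  obtain ⟨q, hq⟩ : ∃ q : ↥(Spec Γ(X, U)), hU.fromSpec.base q = x :=
    ⟨_, hU.fromSpec_primeIdealOf ⟨x, hxU⟩⟩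
  subst hq
  haveI : q.asIdeal.IsPrime := q.isPrime
  let pP : PrimeSpectrum Γ(Y, V) := PrimeSpectrum.comap (algebraMap Γ(Y, V) Γ(X, U)) q
  haveI : q.asIdeal.LiesOver pP.asIdeal := ⟨rfl⟩
  let Q := PrimeSpectrum.preimageHomeomorphFiber Γ(Y, V) Γ(X, U) pP ⟨q, rfl⟩
  have hQ : Q.asIdeal.comap (Algebra.TensorProduct.includeRight :
      Γ(X, U) →ₐ[Γ(Y, V)] pP.asIdeal.Fiber Γ(X, U)).toRingHom = q.asIdeal :=
    congrArg (fun z => z.1.asIdeal)
      ((PrimeSpectrum.preimageEquivFiber Γ(Y, V) Γ(X, U) pP).symm_apply_apply ⟨q, rfl⟩)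
  obtain ⟨r, -, hl⟩ := Groth.Agent.H17.DimIneq.localDim_fiber_eq Γ(Y, V) Γ(X, U) pP.asIdeal
    q.asIdeal Q hQ
  rw [chart_fibreDimAt f Γ(Y, V) Γ(X, U) hU.fromSpec hV.fromSpec hsq pP q rfl q rfl, hl]
  haveI : IsNoetherianRing (pP.asIdeal.Fiber Γ(X, U)) :=
    Algebra.FiniteType.isNoetherianRing pP.asIdeal.ResidueField _
  have hfin : Q.asIdeal.height ≠ ⊤ := Ideal.height_ne_top Q.isPrime.ne_top
  obtain ⟨m, hm⟩ := ENat.ne_top_iff_exists.mp hfin
  refine ⟨m + r, ?_⟩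
  rw [← hm]
  push_cast
  rfl

theorem eq_of_add_natCast_eq_add_natCast {x y : WithBot ℕ∞} {n : ℕ}
    (h : x + (n : WithBot ℕ∞) = y + (n : WithBot ℕ∞)) : x = y := by
  induction x with
  | bot =>
    induction y with
    | bot => rfl
    | coe y =>
      exfalso
      rw [WithBot.bot_add] at h
      exact WithBot.bot_ne_coe (h.trans (by push_cast; rfl : ((y : WithBot ℕ∞) + (n : WithBot ℕ∞)) = ((y + n : ℕ∞) : WithBot ℕ∞)))
  | coe x =>
    induction y with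
    | bot =>
      exfalso
      rw [WithBot.bot_add] at h
      exact WithBot.coe_ne_bot ((by push_cast; rfl : ((x + n : ℕ∞) : WithBot ℕ∞) = (x : WithBot ℕ∞) + (n : WithBot ℕ∞)).trans h)
    | coe y =>
      have h' : (x + (n : ℕ∞) : ℕ∞) = y + (n : ℕ∞) := by exact_mod_cast h
      have := ENat.add_left_injective_of_ne_top (ENat.natCast_ne_top n) h'
      rw [this]

theorem stalk_dim_eq_of_fibreDimAt_eq {X Y : Scheme.{u}} [IrreducibleSpace X] [IrreducibleSpace Y]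
    [IsLocallyNoetherian Y] (f : X ⟶ Y) [LocallyOfFiniteType f] [IsDominant f] (x : X)
    (hcat : CAlg.IsUniversallyCatenary (Y.presheaf.stalk (f.base x)))
    (h : FlatMor.fibreDimAt f x = topologicalKrullDim ↥(f.fiber (genericPoint Y))) :
    ringKrullDim (X.presheaf.stalk x) =
      ringKrullDim (Y.presheaf.stalk (f.base x)) +
        ringKrullDim ((f.fiber (f.base x)).presheaf.stalk (f.asFiber x)) := by
  have key := stalk_dim_add_fibreDimAt_eq f x hcat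
  rw [← h] at key
  obtain ⟨n, hn⟩ := exists_nat_eq_fibreDimAt f x
  rw [hn] at key
  exact eq_of_add_natCast_eq_add_natCast key

end Groth.Agent.H17.Chev
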