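import Groth.Agent.H17.Chev.Chart
import Groth.Agent.H17.Chev.Irreducible
import Groth.Agent.H17.DimIneq

set_option autoImplicit false
set_option linter.unusedSectionVars false
set_option linter.style.haveILetI false
universe u
open CategoryTheory CategoryTheory.Limits AlgebraicGeometry Topology

namespace Groth.Agent.H17.Chev

/-- The dimension of the generic fibre is the local fibre dimension at the generic point. -/
theorem dim_genericFiber_eq_fibreDimAt {X Y : Scheme.{u}} [IrreducibleSpace X] [IrreducibleSpace Y]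
    (f : X ⟶ Y) [LocallyOfFiniteType f] [IsDominant f] :
    topologicalKrullDim ↥(f.fiber (genericPoint Y)) = FlatMor.fibreDimAt f (genericPoint X) := by
  have hη := map_genericPoint_of_isDominant f
  set ξ := genericPoint X with hξdef
  have hirr : IrreducibleSpace ↥(f.fiber (f.base ξ)) := by
    have h1 : IrreducibleSpace ↥(f.base ⁻¹' {f.base ξ}) :=
      irreducibleSpace_of_genericPoint_mem _ rfl
    exact (f.fiberHomeo (f.base ξ)).symm.surjective.irreducibleSpace
      (f.fiberHomeo (f.base ξ)).symm.continuous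
  have hlft : LocallyOfFiniteType (f.fiberToSpecResidueField (f.base ξ)) :=
    inferInstanceAs (LocallyOfFiniteType (pullback.snd f (Y.fromSpecResidueField (f.base ξ))))
  rw [← hη]
  exact topologicalKrullDim_eq_localDim_of_irreducible (Y.residueField (f.base ξ))
    (f.fiberToSpecResidueField (f.base ξ)) (f.asFiber ξ)

/-- **Dimension inequality** (EGA IV 5.6.5) in terms of the local fibre dimension. -/
theorem stalk_dim_add_fibreDimAt_le {X Y : Scheme.{u}} [IrreducibleSpace X] [IrreducibleSpace Y]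
    [IsLocallyNoetherian Y] (f : X ⟶ Y) [LocallyOfFiniteType f] [IsDominant f] (x : X) :
    ringKrullDim (X.presheaf.stalk x) + FlatMor.fibreDimAt f x ≤
      ringKrullDim (Y.presheaf.stalk (f.base x)) +
        ringKrullDim ((f.fiber (f.base x)).presheaf.stalk (f.asFiber x)) +
        topologicalKrullDim ↥(f.fiber (genericPoint Y)) := by
  obtain ⟨_, ⟨V, hV, rfl⟩, hyV, -⟩ := Y.isBasis_affineOpens.exists_subset_of_mem_open
    (Set.mem_univ (f.base x)) isOpen_univ
  obtain ⟨_, ⟨U, hU, rfl⟩, hxU, hUV⟩ := X.isBasis_affineOpens.exists_subset_of_mem_open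
    (show x ∈ ((f ⁻¹ᵁ V : X.Opens) : Set X) from hyV) (f ⁻¹ᵁ V).isOpen
  replace hU : IsAffineOpen U := hU
  replace hV : IsAffineOpen V := hV
  have hξU : genericPoint X ∈ U :=
    ((genericPoint_spec X).mem_open_set_iff U.2).mpr ⟨x, Set.mem_univ _, hxU⟩
  letI : Algebra Γ(Y, V) Γ(X, U) := (f.appLE V U hUV).hom.toAlgebra
  have hN : IsNoetherianRing Γ(Y, V) := IsLocallyNoetherian.component_noetherian ⟨V, hV⟩
  have hft : Algebra.FiniteType Γ(Y, V) Γ(X, U) := f.finiteType_appLE hV hU hUV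
  have hsq : Spec.map (CommRingCat.ofHom (algebraMap Γ(Y, V) Γ(X, U))) ≫ hV.fromSpec =
      hU.fromSpec ≫ f := IsAffineOpen.SpecMap_appLE_fromSpec f hV hU hUV
  obtain ⟨q, hq⟩ : ∃ q : ↥(Spec Γ(X, U)), hU.fromSpec.base q = x :=
    ⟨_, hU.fromSpec_primeIdealOf ⟨x, hxU⟩⟩
  obtain ⟨q₀, hq₀⟩ : ∃ q : ↥(Spec Γ(X, U)), hU.fromSpec.base q = genericPoint X :=
    ⟨_, hU.fromSpec_primeIdealOf ⟨genericPoint X, hξU⟩⟩
  subst hq
  haveI : q.asIdeal.IsPrime := q.isPrime
  haveI : q₀.asIdeal.IsPrime := q₀.isPrime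
  have hQ₀nil : q₀.asIdeal ≤ nilradical Γ(X, U) := by
    rw [nilradical_eq_sInf, le_sInf_iff]
    intro J hJ
    let j : ↥(Spec Γ(X, U)) := ⟨J, hJ⟩
    have h1 : hU.fromSpec.base q₀ ⤳ hU.fromSpec.base j := by
      rw [hq₀]
      exact genericPoint_specializes _
    have h2 : q₀ ⤳ j := hU.fromSpec.isOpenEmbedding.isInducing.specializes_iff.mp h1
    exact (PrimeSpectrum.le_iff_specializes q₀ j).mpr h2
  let pP : PrimeSpectrum Γ(Y, V) := PrimeSpectrum.comap (algebraMap Γ(Y, V) Γ(X, U)) q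
  let pP₀ : PrimeSpectrum Γ(Y, V) := PrimeSpectrum.comap (algebraMap Γ(Y, V) Γ(X, U)) q₀
  haveI : q.asIdeal.LiesOver pP.asIdeal := ⟨rfl⟩
  haveI : q₀.asIdeal.LiesOver pP₀.asIdeal := ⟨rfl⟩
  let Q := PrimeSpectrum.preimageHomeomorphFiber Γ(Y, V) Γ(X, U) pP ⟨q, rfl⟩
  let Q' := PrimeSpectrum.preimageHomeomorphFiber Γ(Y, V) Γ(X, U) pP₀ ⟨q₀, rfl⟩
  have hQ : Q.asIdeal.comap (Algebra.TensorProduct.includeRight :
      Γ(X, U) →ₐ[Γ(Y, V)] pP.asIdeal.Fiber Γ(X, U)).toRingHom = q.asIdeal :=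
    congrArg (fun z => z.1.asIdeal)
      ((PrimeSpectrum.preimageEquivFiber Γ(Y, V) Γ(X, U) pP).symm_apply_apply ⟨q, rfl⟩)
  have hQ' : Q'.asIdeal.comap (Algebra.TensorProduct.includeRight :
      Γ(X, U) →ₐ[Γ(Y, V)] pP₀.asIdeal.Fiber Γ(X, U)).toRingHom = q₀.asIdeal :=
    congrArg (fun z => z.1.asIdeal)
      ((PrimeSpectrum.preimageEquivFiber Γ(Y, V) Γ(X, U) pP₀).symm_apply_apply ⟨q₀, rfl⟩)
  have key := Groth.Agent.H17.DimIneq.height_add_localDim_fiber_le Γ(Y, V) Γ(X, U) pP₀.asIdeal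
    q₀.asIdeal hQ₀nil pP.asIdeal q.asIdeal Q hQ Q' hQ'
  rw [chart_stalk_source f Γ(Y, V) Γ(X, U) hU.fromSpec hV.fromSpec hsq q,
    chart_stalk_target f Γ(Y, V) Γ(X, U) hU.fromSpec hV.fromSpec hsq q,
    chart_fibreDimAt f Γ(Y, V) Γ(X, U) hU.fromSpec hV.fromSpec hsq pP q rfl q rfl,
    chart_stalk_fibre f Γ(Y, V) Γ(X, U) hU.fromSpec hV.fromSpec hsq pP q rfl q rfl,
    dim_genericFiber_eq_fibreDimAt, ← hq₀,
    chart_fibreDimAt f Γ(Y, V) Γ(X, U) hU.fromSpec hV.fromSpec hsq pP₀ q₀ rfl q₀ rfl]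
  exact key

theorem le_of_natCast_add_le_natCast_add {a : ℕ} {F e : WithBot ℕ∞}
    (h : (a : WithBot ℕ∞) + F ≤ a + e) : F ≤ e := by
  induction F with
  | bot => exact bot_le
  | coe F =>
    induction e with
    | bot => simp at h
    | coe e =>
      have h' : ((a : ℕ∞) + F : ℕ∞) ≤ (a : ℕ∞) + e := by exact_mod_cast h
      have := (ENat.add_le_add_iff_left (ENat.natCast_ne_top a)).mp h'
      exact_mod_cast this

theorem exists_nat_eq_ringKrullDim (R : Type*) [CommRing R] [IsNoetherianRing R] [IsLocalRing R] :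
    ∃ n : ℕ, ringKrullDim R = n := by
  have h1 := ringKrullDim_ne_top (R := R)
  have h2 := ringKrullDim_ne_bot (R := R)
  generalize ringKrullDim R = d at h1 h2
  induction d with
  | bot => exact absurd rfl h2
  | coe d =>
    induction d with
    | top => exact absurd rfl h1
    | coe n => exact ⟨n, rfl⟩

theorem fibreDimAt_eq_of_stalk_dim_eq {X Y : Scheme.{u}} [IrreducibleSpace X] [IrreducibleSpace Y]
    [IsLocallyNoetherian Y] (f : X ⟶ Y) [LocallyOfFiniteType f] [IsDominant f] (x : X)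
    (h : ringKrullDim (X.presheaf.stalk x) =
        ringKrullDim (Y.presheaf.stalk (f.base x)) +
          ringKrullDim ((f.fiber (f.base x)).presheaf.stalk (f.asFiber x))) :
    FlatMor.fibreDimAt f x = topologicalKrullDim ↥(f.fiber (genericPoint Y)) := by
  refine le_antisymm ?_ (dim_genericFiber_le_fibreDimAt f x)
  have key := stalk_dim_add_fibreDimAt_le f x
  rw [← h] at key
  have : IsLocallyNoetherian X := LocallyOfFiniteType.isLocallyNoetherian f
  obtain ⟨a, ha⟩ := exists_nat_eq_ringKrullDim (X.presheaf.stalk x)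
  rw [ha] at key
  exact le_of_natCast_add_le_natCast_add key

end Groth.Agent.H17.Chev
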