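import Groth.Agent.H17.Chev.Comp
import Groth.Agent.H49.FibreDim

set_option autoImplicit false
set_option linter.unusedSectionVars false
set_option linter.style.haveILetI false
universe u
open CategoryTheory CategoryTheory.Limits AlgebraicGeometry Topology Order TopologicalSpace

namespace Groth.Agent.H17.Chev

/-- local dimension at a maximal point `z` of its fibre, inside a closed set `X'` containing `z` -/
theorem localDim_inter_fibre_eq_fibreDimAt {X Y : Scheme.{u}} (f : X ⟶ Y)
    [LocallyOfFiniteType f] (z : X)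
    (hz : ringKrullDim ((f.fiber (f.base z)).presheaf.stalk (f.asFiber z)) = 0)
    (X' : Set X) (hc : IsClosed X') (hzX' : z ∈ X') :
    FlatMor.localDim ↥(X' ∩ f.base ⁻¹' {f.base z}) ⟨z, hzX', rfl⟩ = FlatMor.fibreDimAt f z := by
  obtain ⟨W, hW, hzW, hWsub⟩ := exists_open_inter_fibre_subset_closure f z hz
  rw [← localDim_univ_inter_eq_fibreDimAt f z]
  refine localDim_eq_of_inter_subset (Set.univ ∩ f.base ⁻¹' {f.base z})
    (X' ∩ f.base ⁻¹' {f.base z}) W hW (Set.inter_subset_inter_left _ (Set.subset_univ _)) ?_ z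
    ⟨hzX', rfl⟩ hzW
  rintro t ⟨htW, -, htf⟩
  exact ⟨hc.closure_subset_iff.mpr (Set.singleton_subset_iff.mpr hzX') (hWsub ⟨htW, htf⟩), htf⟩

theorem coheight_inter_fibre_eq_zero {X Y : Scheme.{u}} (f : X ⟶ Y) (z : X)
    (hz : ringKrullDim ((f.fiber (f.base z)).presheaf.stalk (f.asFiber z)) = 0)
    (X' : Set X) (hzX' : z ∈ X') :
    coheight (⟨z, hzX', rfl⟩ : ↥(X' ∩ f.base ⁻¹' {f.base z})) = 0 := by
  have h1 := coheight_subtype_mono (Z := X' ∩ f.base ⁻¹' {f.base z})
    (Z' := Set.univ ∩ f.base ⁻¹' {f.base z})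
    (Set.inter_subset_inter_left _ (Set.subset_univ _)) z ⟨hzX', rfl⟩
  have h2 := coheight_univ_inter_eq_stalk_fiber f z
  rw [hz] at h2
  have h3 : coheight (⟨z, Set.mem_univ z, rfl⟩ : ↥(Set.univ ∩ f.base ⁻¹' {f.base z})) = 0 := by
    exact_mod_cast h2
  rw [h3] at h1
  exact le_antisymm h1 zero_le

/-- EGA IV 13.3.6 (b) ⇒ (c) at one maximal point of the fibre. -/
theorem exists_component_of_stalk_dim_eq {X Y : Scheme.{u}} [IrreducibleSpace Y]
    [IsLocallyNoetherian Y] (f : X ⟶ Y) [LocallyOfFiniteType f] (z : X)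
    (hz0 : ringKrullDim ((f.fiber (f.base z)).presheaf.stalk (f.asFiber z)) = 0)
    (hz : ringKrullDim (X.presheaf.stalk z) = ringKrullDim (Y.presheaf.stalk (f.base z))) :
    ∃ ξ : X, IsMax ξ ∧ ξ ⤳ z ∧ f.base ξ = genericPoint Y ∧
      topologicalKrullDim ↥(closure {ξ} ∩ f.base ⁻¹' {genericPoint Y}) =
        FlatMor.fibreDimAt f z := by
  have hXN : IsLocallyNoetherian X := LocallyOfFiniteType.isLocallyNoetherian f
  obtain ⟨n, hn⟩ := exists_nat_eq_ringKrullDim (X.presheaf.stalk z)
  have hcz : coheight z = n := by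
    rw [ringKrullDim_stalk_eq_coheight] at hn; exact_mod_cast hn
  have hcy : coheight (f.base z) = n := by
    rw [hz, ringKrullDim_stalk_eq_coheight] at hn; exact_mod_cast hn
  obtain ⟨ξ, hmax, hsp, hco⟩ := exists_isMax_coheight_closure_eq X z n hcz
  have hzX' : z ∈ closure ({ξ} : Set X) := hsp.mem_closure
  have hy : f.base z ∈ closure {f.base ξ} := (hsp.map f.continuous).mem_closure
  have G := (coheight_add_localDim_le_and_eq f (closure {ξ}) isClosed_closure ξ rfl z hzX' hy).1
  have Ch := dim_generic_le_localDim f (closure {ξ}) isClosed_closure ξ rfl z hzX'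
  rw [hco, localDim_inter_fibre_eq_fibreDimAt f z hz0 _ isClosed_closure hzX',
    coheight_inter_fibre_eq_zero f z hz0 _ hzX'] at G
  rw [localDim_inter_fibre_eq_fibreDimAt f z hz0 _ isClosed_closure hzX'] at Ch
  obtain ⟨d, hd⟩ := exists_nat_eq_fibreDimAt f z
  rw [hd] at G Ch
  have hC : coheight (⟨f.base z, hy⟩ : ↥(closure {f.base ξ})) ≤ n := by
    rw [← hcy]; exact coheight_subtype_le _ _ _
  obtain ⟨c, hc⟩ := ENat.ne_top_iff_exists.mp (ne_top_of_le_ne_top (ENat.natCast_ne_top n) hC)
  rw [← hc] at G hC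
  have hcn : c ≤ n := by exact_mod_cast hC
  simp only [WithBot.coe_zero, add_zero] at G
  by_cases hη : f.base ξ = genericPoint Y
  · refine ⟨ξ, hmax, hsp, hη, ?_⟩
    rw [hd, ← hη]
    apply le_antisymm Ch
    refine le_of_natCast_add_le_natCast_add (a := n) ?_
    refine G.trans ?_
    gcongr
    exact_mod_cast hcn
  · exfalso
    have h1 := coheight_closure_add_one_le Y (f.base ξ) (f.base z) hη hy
    rw [hcy, ← hc] at h1
    have h1' : c + 1 ≤ n := by exact_mod_cast h1
    have h2 : ((n : ℕ∞) : WithBot ℕ∞) + ((d : ℕ) : WithBot ℕ∞) ≤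
        ((c : ℕ∞) : WithBot ℕ∞) + ((d : ℕ) : WithBot ℕ∞) := by
      refine G.trans ?_
      gcongr
    have h3 : n + d ≤ c + d := by exact_mod_cast h2
    omega

theorem topologicalKrullDim_eq_bot_of_isEmpty (T : Type*) [TopologicalSpace T] [IsEmpty T] :
    topologicalKrullDim T = ⊥ := by
  unfold topologicalKrullDim
  have : IsEmpty (IrreducibleCloseds T) := ⟨fun Z => by
    obtain ⟨t, -⟩ := Z.isIrreducible.nonempty
    exact isEmptyElim t⟩
  exact Order.krullDim_eq_bot

/-- EGA IV 13.3.6 (c) ⇒ (b) at one maximal point of the fibre. -/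
theorem stalk_dim_eq_of_component {X Y : Scheme.{u}} [IrreducibleSpace Y]
    [IsLocallyNoetherian Y] (f : X ⟶ Y) [LocallyOfFiniteType f] (z : X)
    (hz0 : ringKrullDim ((f.fiber (f.base z)).presheaf.stalk (f.asFiber z)) = 0)
    (hcat : CAlg.IsUniversallyCatenary (Y.presheaf.stalk (f.base z)))
    (X' : Set X) (hX' : X' ∈ irreducibleComponents (X : Type u)) (hzX' : z ∈ X')
    (hdim : topologicalKrullDim ↥(X' ∩ f.base ⁻¹' {genericPoint Y}) = FlatMor.fibreDimAt f z) :
    ringKrullDim (X.presheaf.stalk z) = ringKrullDim (Y.presheaf.stalk (f.base z)) := by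
  have hXN : IsLocallyNoetherian X := LocallyOfFiniteType.isLocallyNoetherian f
  have hc : IsClosed X' := isClosed_of_mem_irreducibleComponents X' hX'
  have hξ := hX'.1.isGenericPoint_genericPoint hc
  set ξ := hX'.1.genericPoint
  -- `X'` dominates `Y`
  have hne : Nonempty ↥(X' ∩ f.base ⁻¹' {genericPoint Y}) := by
    by_contra hcon
    rw [not_nonempty_iff] at hcon
    rw [topologicalKrullDim_eq_bot_of_isEmpty] at hdim
    have := fibreDimAt_nonneg f z
    rw [← hdim] at this
    simp at this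
  obtain ⟨⟨t, htX', htη⟩⟩ := hne
  have hη : f.base ξ = genericPoint Y := by
    have h1 : f.base ξ ⤳ genericPoint Y := by
      rw [← show f.base t = genericPoint Y from htη]
      exact (hξ.specializes htX').map f.continuous
    exact (h1.antisymm (genericPoint_specializes _)).eq
  have hy : f.base z ∈ closure {f.base ξ} := ((hξ.specializes hzX').map f.continuous).mem_closure
  have G := (coheight_add_localDim_le_and_eq f X' hc ξ hξ z hzX' hy).2 hcat
  rw [localDim_inter_fibre_eq_fibreDimAt f z hz0 _ hc hzX',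
    coheight_inter_fibre_eq_zero f z hz0 _ hzX'] at G
  have e1 : topologicalKrullDim ↥(X' ∩ f.base ⁻¹' {f.base ξ}) = FlatMor.fibreDimAt f z := by
    rw [← hdim]
    exact topologicalKrullDim_subtype_congr (by rw [hη])
  have e2 : coheight (⟨f.base z, hy⟩ : ↥(closure {f.base ξ})) = coheight (f.base z) := by
    rw [← coheight_univ_eq (f.base z)]
    refine coheight_subtype_congr ?_ _ _ _
    rw [hη]
    exact (genericPoint_spec Y).def
  rw [e1, e2] at G
  obtain ⟨d, hd⟩ := exists_nat_eq_fibreDimAt f z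
  rw [hd] at G
  simp only [WithBot.coe_zero, add_zero] at G
  have G' := eq_of_add_natCast_eq_add_natCast G
  apply le_antisymm
  · have := Groth.Agent.H49.FibreDim.ringKrullDim_stalk_le_add_fibre f z
    rw [hz0, add_zero] at this
    exact this
  · rw [ringKrullDim_stalk_eq_coheight, ringKrullDim_stalk_eq_coheight, ← G']
    exact_mod_cast coheight_subtype_le X' z hzX'

end Groth.Agent.H17.Chev
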