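import Groth.Agent.H17.Chev.RedSubMain
import Groth.Agent.H62.CatenDim
import Groth.Agent.H62.CatenRing

set_option autoImplicit false
set_option linter.unusedSectionVars false
set_option linter.style.haveILetI false
universe u
open CategoryTheory CategoryTheory.Limits AlgebraicGeometry Topology Order TopologicalSpace

namespace Groth.Agent.H17.Chev

open Groth.Agent.H62

/-- coheight inside a lower interval is the codimension `cod`. -/
theorem coheight_Iic_eq_cod {P : Type*} [PartialOrder P] (a b : P) (hab : a ≤ b) :
    coheight (⟨a, hab⟩ : ↥(Set.Iic b)) = cod a b := by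
  apply le_antisymm
  · refine coheight_le fun p hp => ?_
    have hsm : StrictMono (Subtype.val : ↥(Set.Iic b) → P) := fun _ _ h => h
    refine le_iSup₂_of_le (p.map Subtype.val hsm) ⟨?_, ?_⟩ ?_
    · rw [LTSeries.head_map, hp]
    · rw [LTSeries.last_map]; exact p.last.2
    · rw [LTSeries.map_length]
  · refine iSup₂_le fun s hs => ?_
    have hle : ∀ i, s i ≤ b := fun i => (LTSeries.apply_le_last s i).trans hs.2
    let p : LTSeries ↥(Set.Iic b) :=
      { length := s.length
        toFun := fun i => ⟨s i, hle i⟩
        step := fun i => s.step i }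
    have hp : p.head = ⟨a, hab⟩ := Subtype.ext hs.1
    have := length_le_coheight hp.ge
    exact this

end Groth.Agent.H17.Chev

namespace Groth.Agent.H17.Chev

open Groth.Agent.H62

attribute [local instance] specializationOrder

/-- In the local scheme `Spec A`, the specialization order is catenary if `A` is. -/
theorem catPair_spec (A : CommRingCat.{u}) (hcat : CAlg.IsCatenary A) (a b : ↥(Spec A))
    (hab : a ≤ b) : CatPair a b := by
  rw [catPair_iff_catPair']
  let e : ↥(Spec A) ≃ PrimeSpectrum A := Equiv.refl _
  have he : ∀ x y : ↥(Spec A), e x ≤ e y ↔ y ≤ x := by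
    intro x y
    rw [PrimeSpectrum.le_iff_specializes]
    exact Iff.rfl
  apply catPair'_anti e he
  exact (isCatenary_iff_catPair' A).1 hcat _ _ ((he b a).2 hab)

/-- the catenary condition for pairs of generizations of a point with catenary local ring -/
theorem catPair_of_isCatenary_stalk (S : Scheme.{u}) (s a b : S) (hsa : a ⤳ s) (hab : b ⤳ a)
    (hcat : CAlg.IsCatenary (S.presheaf.stalk s)) : CatPair a b := by
  let φ := S.fromSpecStalk s
  let φ' : ↥(Spec (S.presheaf.stalk s)) ↪o S :=
    OrderEmbedding.ofMapLEIff φ.base (le_iff_of_isEmbedding _ φ.isEmbedding)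
  have hrange : ∀ t : S, t ⤳ s → t ∈ Set.range φ' := by
    intro t ht
    have : t ∈ Set.range φ.base := by rw [Scheme.range_fromSpecStalk]; exact ht
    exact this
  obtain ⟨a', rfl⟩ := hrange a hsa
  obtain ⟨b', rfl⟩ := hrange b (hab.trans hsa)
  rw [catPair_map_iff φ']
  · refine catPair_spec _ hcat a' b' ?_
    rw [← φ'.le_iff_le]
    exact hab
  · intro q hq _
    exact hrange q (Specializes.trans hq hsa)

theorem closure_singleton_eq_Iic (S : Scheme.{u}) (σ : S) :
    closure ({σ} : Set S) = Set.Iic σ := by
  ext t
  rw [← specializes_iff_mem_closure]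
  exact Iff.rfl

theorem coheight_closure_eq_cod (S : Scheme.{u}) (a b : S) (hab : b ⤳ a) :
    coheight (⟨a, hab.mem_closure⟩ : ↥(closure ({b} : Set S))) = cod a b := by
  rw [← coheight_Iic_eq_cod a b hab]
  exact coheight_subtype_congr (closure_singleton_eq_Iic S b) a _ _

/-- **Additivity of codimension** at a point with catenary local ring. -/
theorem coheight_closure_add (S : Scheme.{u}) (s τ σ : S) (h1 : τ ⤳ s) (h2 : σ ⤳ τ)
    (hcat : CAlg.IsCatenary (S.presheaf.stalk s)) :
    coheight (⟨s, (h2.trans h1).mem_closure⟩ : ↥(closure ({σ} : Set S))) =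
      coheight (⟨s, h1.mem_closure⟩ : ↥(closure ({τ} : Set S))) +
      coheight (⟨τ, h2.mem_closure⟩ : ↥(closure ({σ} : Set S))) := by
  rw [coheight_closure_eq_cod S s σ (h2.trans h1), coheight_closure_eq_cod S s τ h1,
    coheight_closure_eq_cod S τ σ h2]
  exact cod_add h1 h2 (catPair_of_isCatenary_stalk S s s τ specializes_rfl h1 hcat)
    (catPair_of_isCatenary_stalk S s τ σ h1 h2 hcat)
    (catPair_of_isCatenary_stalk S s s σ specializes_rfl (h2.trans h1) hcat)

end Groth.Agent.H17.Chev
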