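import Groth.Agent.H17.Chev.DimTotal

set_option autoImplicit false
set_option linter.unusedSectionVars false
set_option linter.style.haveILetI false
universe u
open CategoryTheory CategoryTheory.Limits AlgebraicGeometry Topology Order TopologicalSpace

namespace Groth.Agent.H17.Chev

/-- At a closed point of the source of a morphism locally of finite type, the local fibre dimension
equals the dimension of the local ring of the fibre. -/
theorem fibreDimAt_eq_stalk_of_isClosed {X Y : Scheme.{u}} (f : X ⟶ Y) [LocallyOfFiniteType f]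
    (x₀ : X) (hx₀ : IsClosed ({x₀} : Set X)) :
    FlatMor.fibreDimAt f x₀ =
      ringKrullDim ((f.fiber (f.base x₀)).presheaf.stalk (f.asFiber x₀)) := by
  obtain ⟨_, ⟨V, hV, rfl⟩, hyV, -⟩ := Y.isBasis_affineOpens.exists_subset_of_mem_open
    (Set.mem_univ (f.base x₀)) isOpen_univ
  obtain ⟨_, ⟨U, hU, rfl⟩, hxU, hUV⟩ := X.isBasis_affineOpens.exists_subset_of_mem_open
    (show x₀ ∈ ((f ⁻¹ᵁ V : X.Opens) : Set X) from hyV) (f ⁻¹ᵁ V).isOpen
  replace hU : IsAffineOpen U := hU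
  replace hV : IsAffineOpen V := hV
  letI : Algebra Γ(Y, V) Γ(X, U) := (f.appLE V U hUV).hom.toAlgebra
  have hft : Algebra.FiniteType Γ(Y, V) Γ(X, U) := f.finiteType_appLE hV hU hUV
  have hsq : Spec.map (CommRingCat.ofHom (algebraMap Γ(Y, V) Γ(X, U))) ≫ hV.fromSpec =
      hU.fromSpec ≫ f := IsAffineOpen.SpecMap_appLE_fromSpec f hV hU hUV
  obtain ⟨q₀, hq₀⟩ : ∃ q : ↥(Spec Γ(X, U)), hU.fromSpec.base q = x₀ :=
    ⟨_, hU.fromSpec_primeIdealOf ⟨x₀, hxU⟩⟩
  subst hq₀
  let pP : PrimeSpectrum Γ(Y, V) := PrimeSpectrum.comap (algebraMap Γ(Y, V) Γ(X, U)) q₀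
  let e := PrimeSpectrum.preimageHomeomorphFiber Γ(Y, V) Γ(X, U) pP
  let Q := e ⟨q₀, rfl⟩
  -- `q₀` is a closed point of `Spec Γ(X, U)`
  have hq₀cl : IsClosed ({q₀} : Set ↥(Spec Γ(X, U))) := by
    have : ({q₀} : Set ↥(Spec Γ(X, U))) = hU.fromSpec.base ⁻¹' {hU.fromSpec.base q₀} := by
      ext t
      simp only [Set.mem_singleton_iff, Set.mem_preimage]
      exact ⟨fun h => h ▸ rfl, fun h => hU.fromSpec.isOpenEmbedding.injective h⟩
    rw [this]
    exact hx₀.preimage hU.fromSpec.continuous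
  have hQcl : IsClosed ({Q} : Set (PrimeSpectrum (pP.asIdeal.Fiber Γ(X, U)))) := by
    have h1 : IsClosed ({⟨q₀, rfl⟩} : Set ↥(PrimeSpectrum.comap (algebraMap Γ(Y, V) Γ(X, U)) ⁻¹' {pP})) := by
      have : ({⟨q₀, rfl⟩} : Set ↥(PrimeSpectrum.comap (algebraMap Γ(Y, V) Γ(X, U)) ⁻¹' {pP})) =
          Subtype.val ⁻¹' ({q₀} : Set (PrimeSpectrum Γ(X, U))) := by
        ext t
        simp only [Set.mem_singleton_iff, Set.mem_preimage]
        exact ⟨fun h => h ▸ rfl, fun h => Subtype.ext h⟩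
      rw [this]
      exact hq₀cl.preimage continuous_subtype_val
    have : ({Q} : Set _) = e '' {⟨q₀, rfl⟩} := by rw [Set.image_singleton]
    rw [this]
    exact e.isClosedMap _ h1
  have hmax : Q.asIdeal.IsMaximal := (PrimeSpectrum.isClosed_singleton_iff_isMaximal Q).mp hQcl
  rw [chart_fibreDimAt f Γ(Y, V) Γ(X, U) hU.fromSpec hV.fromSpec hsq pP q₀ rfl q₀ rfl,
    chart_stalk_fibre f Γ(Y, V) Γ(X, U) hU.fromSpec hV.fromSpec hsq pP q₀ rfl q₀ rfl,
    Groth.Agent.H11.FtDim.localDim_eq_height_add_coheight (k := pP.asIdeal.ResidueField) _,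
    PrimeSpectrum.height_eq_orderHeight]
  have h0 : Order.coheight Q = 0 := by
    rw [Order.coheight_eq_zero, PrimeSpectrum.isMax_iff]
    exact hmax
  change ((Order.height Q + Order.coheight Q : ℕ∞) : WithBot ℕ∞) = ((Order.height Q : ℕ∞) : WithBot ℕ∞)
  rw [h0, add_zero]

end Groth.Agent.H17.Chev
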