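import Groth.Agent.H17.Chev.RedSubMain

set_option autoImplicit false
set_option linter.unusedSectionVars false
set_option linter.style.haveILetI false
universe u
open CategoryTheory CategoryTheory.Limits AlgebraicGeometry Topology Order TopologicalSpace

namespace Groth.Agent.H17.Chev

theorem exists_closedImmersion_range (X : Scheme.{u}) (Z : Set X) (hZ : IsClosed Z) :
    ∃ (Z₁ : Scheme.{u}) (i : Z₁ ⟶ X), IsClosedImmersion i ∧ Set.range i.base = Z := by
  obtain ⟨X₁, -, iX, -, -, hiX, -, -, hr, -⟩ := exists_square (𝟙 X) Z hZ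
  exact ⟨X₁, iX, hiX, hr⟩

/-- The dimension of the set of generizations of `s` inside a closed subset `Z` is the coheight
of `s` in `Z`. -/
theorem dim_generizations_inter_eq_coheight (X : Scheme.{u}) (Z : Set X) (hZ : IsClosed Z) (s : X)
    (hs : s ∈ Z) :
    topologicalKrullDim ↥{t : X | t ∈ Z ∧ t ⤳ s} = (coheight (⟨s, hs⟩ : ↥Z) : WithBot ℕ∞) := by
  obtain ⟨Z₁, i, hi, hr⟩ := exists_closedImmersion_range X Z hZ
  subst hr
  obtain ⟨s₁, rfl⟩ := hs
  let ψ := Z₁.fromSpecStalk s₁ ≫ i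
  have hψ : IsEmbedding ψ.base := ψ.isEmbedding
  have hrange : Set.range ψ.base = {t : X | t ∈ Set.range i.base ∧ t ⤳ i.base s₁} := by
    have h1 : Set.range ψ.base = i.base '' Set.range (Z₁.fromSpecStalk s₁).base := by
      rw [← Set.range_comp]; rfl
    rw [h1, Scheme.range_fromSpecStalk]
    ext t
    constructor
    · rintro ⟨t₁, ht₁, rfl⟩
      exact ⟨⟨t₁, rfl⟩, Specializes.map ht₁ i.continuous⟩
    · rintro ⟨⟨t₁, rfl⟩, ht⟩
      exact ⟨t₁, i.isEmbedding.isInducing.specializes_iff.mp ht, rfl⟩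
  rw [← topologicalKrullDim_eq_of_isEmbedding ψ.base hψ _ hrange]
  rw [← stalk_eq_coheight_range i s₁]
  exact PrimeSpectrum.topologicalKrullDim_eq_ringKrullDim _

end Groth.Agent.H17.Chev
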