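import Groth.Agent.H17.Chev.IrrForm
import Groth.Agent.H17.Chev.ClosedPt
import Groth.Agent.H17.Chev.GenzDim
import Groth.Agent.H17.Chev.CatAdd

set_option autoImplicit false
set_option linter.unusedSectionVars false
set_option linter.style.haveILetI false
universe u
open CategoryTheory CategoryTheory.Limits AlgebraicGeometry Topology Order TopologicalSpace

namespace Groth.Agent.H17.Chev

theorem coheight_subtype_le {B : Type*} [Preorder B] (Z : Set B) (b : B) (hb : b ∈ Z) :
    coheight (⟨b, hb⟩ : ↥Z) ≤ coheight b :=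
  coheight_le_coheight_apply_of_strictMono (Subtype.val : ↥Z → B) (fun _ _ h => h) ⟨b, hb⟩

theorem coheight_ne_top_of_isLocallyNoetherian (S : Scheme.{u}) [IsLocallyNoetherian S] (s : S) :
    coheight s ≠ ⊤ := by
  obtain ⟨n, hn⟩ := exists_nat_eq_ringKrullDim (S.presheaf.stalk s)
  rw [ringKrullDim_stalk_eq_coheight] at hn
  intro h
  rw [h] at hn
  have : ((⊤ : ℕ∞) : WithBot ℕ∞) = ((n : ℕ∞) : WithBot ℕ∞) := hn
  exact absurd (WithBot.coe_injective this) (ENat.top_ne_natCast n)

section Base

variable {S : Scheme.{u}} [IsLocallyNoetherian S]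
  (h2 : ∀ s : S, CAlg.IsUniversallyCatenary (S.presheaf.stalk s))
  (h3 : ∀ S' ∈ irreducibleComponents (S : Type u), ∀ s ∈ S', IsClosed ({s} : Set S) →
      topologicalKrullDim (↥S' : Type u) = topologicalKrullDim ↥{t : S | t ∈ S' ∧ t ⤳ s})

include h2 h3 in
/-- closed points of an irreducible closed subset `T` all have the same coheight in `T`. -/
theorem coheight_closure_eq_of_isClosed (τ s s' : S) (hs : τ ⤳ s) (hs' : τ ⤳ s')
    (hsc : IsClosed ({s} : Set S)) (hsc' : IsClosed ({s'} : Set S)) :
    coheight (⟨s, hs.mem_closure⟩ : ↥(closure ({τ} : Set S))) =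
      coheight (⟨s', hs'.mem_closure⟩ : ↥(closure ({τ} : Set S))) := by
  let S' := irreducibleComponent τ
  have hS'mem : S' ∈ irreducibleComponents (S : Type u) :=
    irreducibleComponent_mem_irreducibleComponents τ
  have hS'c : IsClosed S' := isClosed_irreducibleComponent
  have hS'i : IsIrreducible S' := isIrreducible_irreducibleComponent
  let σ := hS'i.genericPoint
  have hσ : IsGenericPoint σ S' := hS'i.isGenericPoint_genericPoint hS'c
  have hτS' : τ ∈ S' := mem_irreducibleComponent
  have hστ : σ ⤳ τ := hσ.specializes hτS'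
  have hcl : closure ({σ} : Set S) = S' := hσ.def
  have key : ∀ t : S, ∀ ht : τ ⤳ t, IsClosed ({t} : Set S) →
      topologicalKrullDim ↥S' =
        ((coheight (⟨t, ht.mem_closure⟩ : ↥(closure ({τ} : Set S))) +
          coheight (⟨τ, hστ.mem_closure⟩ : ↥(closure ({σ} : Set S))) : ℕ∞) : WithBot ℕ∞) := by
    intro t ht htc
    have htS' : t ∈ S' := hcl ▸ (hστ.trans ht).mem_closure
    rw [h3 S' hS'mem t htS' htc, dim_generizations_inter_eq_coheight S S' hS'c t htS',
      ← coheight_closure_add S t τ σ ht hστ ((h2 t).2 _ inferInstance)]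
    exact congrArg _ (coheight_subtype_congr hcl.symm t _ _)
  have h1 := key s hs hsc
  have h1' := key s' hs' hsc'
  rw [h1] at h1'
  have h4 := WithBot.coe_injective h1'
  have hk : coheight (⟨τ, hστ.mem_closure⟩ : ↥(closure ({σ} : Set S))) ≠ ⊤ := by
    intro h
    have := coheight_subtype_le (closure ({σ} : Set S)) τ hστ.mem_closure
    rw [h, top_le_iff] at this
    exact coheight_ne_top_of_isLocallyNoetherian S τ this
  exact ENat.add_left_injective_of_ne_top hk h4

include h2 in
/-- at a closed point `w` of an irreducible `W` locally of finite type over `S`: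
`dim O_{W,w} = codim of r(w) in the closure of the image + dim of the generic fibre`. -/
theorem stalk_dim_eq_coheight_add_of_isClosed {W : Scheme.{u}} [IrreducibleSpace W] (r : W ⟶ S)
    [LocallyOfFiniteType r] (w : W) (hw : IsClosed ({w} : Set W))
    (hy : r.base w ∈ closure {r.base (genericPoint W)}) :
    ringKrullDim (W.presheaf.stalk w) =
      (coheight (⟨r.base w, hy⟩ : ↥(closure {r.base (genericPoint W)})) : WithBot ℕ∞) +
        topologicalKrullDim ↥(r.fiber (r.base (genericPoint W))) := by
  have key := (stalk_dim_add_fibreDimAt_le_and_eq_of_irreducibleSpace r w hy).2 (h2 _)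
  rw [fibreDimAt_eq_stalk_of_isClosed r w hw] at key
  have hlft : LocallyOfFiniteType (r.fiberToSpecResidueField (r.base w)) :=
    inferInstanceAs (LocallyOfFiniteType (pullback.snd r (S.fromSpecResidueField (r.base w))))
  have : IsLocallyNoetherian (r.fiber (r.base w)) :=
    LocallyOfFiniteType.isLocallyNoetherian (r.fiberToSpecResidueField (r.base w))
  obtain ⟨n, hn⟩ := exists_nat_eq_ringKrullDim ((r.fiber (r.base w)).presheaf.stalk (r.asFiber w))
  rw [hn] at key
  refine eq_of_add_natCast_eq_add_natCast (n := n) ?_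
  rw [key]
  ring

variable [JacobsonSpace S]

include h2 h3 in
theorem stalk_dim_eq_of_isClosed {W : Scheme.{u}} [IrreducibleSpace W] (r : W ⟶ S)
    [LocallyOfFiniteType r] (w w' : W) (hw : IsClosed ({w} : Set W))
    (hw' : IsClosed ({w'} : Set W)) :
    ringKrullDim (W.presheaf.stalk w) = ringKrullDim (W.presheaf.stalk w') := by
  have hs : r.base (genericPoint W) ⤳ r.base w :=
    (genericPoint_specializes w).map r.continuous
  have hs' : r.base (genericPoint W) ⤳ r.base w' :=
    (genericPoint_specializes w').map r.continuous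
  have hc : IsClosed ({r.base w} : Set S) := r.closePoints_subset_preimage_closedPoints hw
  have hc' : IsClosed ({r.base w'} : Set S) := r.closePoints_subset_preimage_closedPoints hw'
  rw [stalk_dim_eq_coheight_add_of_isClosed h2 r w hw hs.mem_closure,
    stalk_dim_eq_coheight_add_of_isClosed h2 r w' hw' hs'.mem_closure,
    coheight_closure_eq_of_isClosed h2 h3 _ _ _ hs hs' hc hc']

include h2 h3 in
theorem topologicalKrullDim_eq_stalk_dim_of_isClosed {W : Scheme.{u}} [IrreducibleSpace W]
    (r : W ⟶ S) [LocallyOfFiniteType r] (w₀ : W) (hw₀ : IsClosed ({w₀} : Set W)) :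
    topologicalKrullDim W = ringKrullDim (W.presheaf.stalk w₀) := by
  have hJ : JacobsonSpace W := LocallyOfFiniteType.jacobsonSpace r
  rw [Groth.Agent.H51.topologicalKrullDim_eq_iSup_coheight W]
  apply le_antisymm
  · refine iSup_le fun w => ?_
    obtain ⟨w', hw'1, hw'2⟩ := nonempty_inter_closedPoints (X := W) (Z := closure {w})
      ⟨w, subset_closure rfl⟩ isClosed_closure.isLocallyClosed
    have hsp : w ⤳ w' := specializes_iff_mem_closure.mpr hw'1
    rw [← stalk_dim_eq_of_isClosed h2 h3 r w' w₀ hw'2 hw₀, ringKrullDim_stalk_eq_coheight]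
    exact_mod_cast coheight_anti (show w' ≤ w from hsp)
  · rw [ringKrullDim_stalk_eq_coheight]
    exact le_iSup (fun w : W => (coheight w : WithBot ℕ∞)) w₀

end Base

end Groth.Agent.H17.Chev
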