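import Groth.Agent.H17.Chev.RedSubMain

set_option autoImplicit false
set_option linter.unusedSectionVars false
set_option linter.style.haveILetI false
universe u
open CategoryTheory CategoryTheory.Limits AlgebraicGeometry Topology Order TopologicalSpace

namespace Groth.Agent.H17.Chev

theorem localDim_subtype_congr' {B : Type*} [TopologicalSpace B] {S S' : Set B} (h : S = S')
    {b b' : B} (hbb : b = b') (hb : b ∈ S) (hb' : b' ∈ S') :
    FlatMor.localDim ↥S ⟨b, hb⟩ = FlatMor.localDim ↥S' ⟨b', hb'⟩ := by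
  subst h; subst hbb; rfl

theorem coheight_univ_eq {B : Type*} [Preorder B] (b : B) :
    coheight (⟨b, Set.mem_univ b⟩ : ↥(Set.univ : Set B)) = coheight b :=
  (coheight_eq_coheight_subtype id (fun _ _ => Iff.rfl) Set.univ Set.range_id b
    (Set.mem_univ b)).symm

theorem range_fiberι_eq_univ_inter {X Y : Scheme.{u}} (f : X ⟶ Y) (y : Y) :
    Set.range (f.fiberι y).base = Set.univ ∩ f.base ⁻¹' {y} := by
  rw [Set.univ_inter, Scheme.Hom.range_fiberι]

theorem localDim_univ_inter_eq_fibreDimAt {X Y : Scheme.{u}} (f : X ⟶ Y) (x : X) :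
    FlatMor.localDim ↥(Set.univ ∩ f.base ⁻¹' {f.base x}) ⟨x, Set.mem_univ x, rfl⟩ =
      FlatMor.fibreDimAt f x := by
  unfold FlatMor.fibreDimAt
  have hmem : (f.fiberι (f.base x)).base (f.asFiber x) ∈ Set.univ ∩ f.base ⁻¹' {f.base x} := by
    rw [← range_fiberι_eq_univ_inter]; exact ⟨_, rfl⟩
  rw [localDim_eq_of_isEmbedding _ (f.fiberι (f.base x)).isEmbedding _
    (range_fiberι_eq_univ_inter f (f.base x)) (f.asFiber x) hmem]
  exact localDim_subtype_congr' rfl (f.fiberι_asFiber x).symm _ _

theorem coheight_univ_inter_eq_stalk_fiber {X Y : Scheme.{u}} (f : X ⟶ Y) (x : X) :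
    (coheight (⟨x, Set.mem_univ x, rfl⟩ : ↥(Set.univ ∩ f.base ⁻¹' {f.base x})) : WithBot ℕ∞) =
      ringKrullDim ((f.fiber (f.base x)).presheaf.stalk (f.asFiber x)) := by
  have hmem : (f.fiberι (f.base x)).base (f.asFiber x) ∈ Set.univ ∩ f.base ⁻¹' {f.base x} := by
    rw [← range_fiberι_eq_univ_inter]; exact ⟨_, rfl⟩
  rw [ringKrullDim_stalk_eq_coheight,
    coheight_eq_coheight_subtype _ (le_iff_of_isEmbedding _ (f.fiberι (f.base x)).isEmbedding) _
      (range_fiberι_eq_univ_inter f (f.base x)) (f.asFiber x) hmem]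
  exact congrArg _ (coheight_subtype_congr' rfl (f.fiberι_asFiber x).symm _ _)

theorem dim_univ_inter_eq_dim_fiber {X Y : Scheme.{u}} (f : X ⟶ Y) (y : Y) :
    topologicalKrullDim ↥(Set.univ ∩ f.base ⁻¹' {y}) = topologicalKrullDim ↥(f.fiber y) :=
  (topologicalKrullDim_eq_of_isEmbedding _ (f.fiberι y).isEmbedding _
    (range_fiberι_eq_univ_inter f y)).symm

/-- **Dimension inequality / formula for an irreducible source and an arbitrary locally Noetherian
target**: the target local ring is replaced by the coheight in the closure of the image. -/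
theorem stalk_dim_add_fibreDimAt_le_and_eq_of_irreducibleSpace {X Y : Scheme.{u}}
    [IsLocallyNoetherian Y] [IrreducibleSpace X] (f : X ⟶ Y) [LocallyOfFiniteType f] (x : X)
    (hy : f.base x ∈ closure {f.base (genericPoint X)}) :
    (ringKrullDim (X.presheaf.stalk x) + FlatMor.fibreDimAt f x ≤
      (coheight (⟨f.base x, hy⟩ : ↥(closure {f.base (genericPoint X)})) : WithBot ℕ∞) +
        ringKrullDim ((f.fiber (f.base x)).presheaf.stalk (f.asFiber x)) +
        topologicalKrullDim ↥(f.fiber (f.base (genericPoint X)))) ∧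
    (CAlg.IsUniversallyCatenary (Y.presheaf.stalk (f.base x)) →
      ringKrullDim (X.presheaf.stalk x) + FlatMor.fibreDimAt f x =
      (coheight (⟨f.base x, hy⟩ : ↥(closure {f.base (genericPoint X)})) : WithBot ℕ∞) +
        ringKrullDim ((f.fiber (f.base x)).presheaf.stalk (f.asFiber x)) +
        topologicalKrullDim ↥(f.fiber (f.base (genericPoint X)))) := by
  have key := coheight_add_localDim_le_and_eq f Set.univ isClosed_univ (genericPoint X)
    (genericPoint_spec X) x (Set.mem_univ x) hy
  rw [coheight_univ_eq, localDim_univ_inter_eq_fibreDimAt, coheight_univ_inter_eq_stalk_fiber,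
    dim_univ_inter_eq_dim_fiber, ← ringKrullDim_stalk_eq_coheight] at key
  exact key

end Groth.Agent.H17.Chev
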