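import Groth.Agent.H17.Chev.RedSubMain

set_option autoImplicit false
set_option linter.unusedSectionVars false
set_option linter.style.haveILetI false
universe u
open CategoryTheory CategoryTheory.Limits AlgebraicGeometry Topology Order TopologicalSpace

namespace Groth.Agent.H17.Chev

/-- local dimension of a subspace only depends on the subspace near the point -/
theorem localDim_inter_open_eq {B : Type*} [TopologicalSpace B] (F W : Set B) (hW : IsOpen W)
    (z : B) (hzF : z ∈ F) (hzW : z ∈ W) :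
    FlatMor.localDim ↥(W ∩ F) ⟨z, hzW, hzF⟩ = FlatMor.localDim ↥F ⟨z, hzF⟩ := by
  have hsub : W ∩ F ⊆ F := Set.inter_subset_right
  have hemb : IsOpenEmbedding (Set.inclusion hsub) := by
    refine IsOpenEmbedding.inclusion hsub ?_
    have : ((Subtype.val : ↥F → B) ⁻¹' (W ∩ F)) = (Subtype.val : ↥F → B) ⁻¹' W := by
      ext t
      simp only [Set.mem_preimage, Set.mem_inter_iff]
      exact ⟨fun h => h.1, fun h => ⟨h, t.2⟩⟩
    rw [this]
    exact hW.preimage continuous_subtype_val
  exact localDim_eq_of_isOpenEmbedding hemb ⟨z, hzW, hzF⟩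

theorem localDim_eq_of_inter_subset {B : Type*} [TopologicalSpace B] (F F' W : Set B)
    (hW : IsOpen W) (hF'F : F' ⊆ F) (hWF : W ∩ F ⊆ F') (z : B) (hzF' : z ∈ F') (hzW : z ∈ W) :
    FlatMor.localDim ↥F' ⟨z, hzF'⟩ = FlatMor.localDim ↥F ⟨z, hF'F hzF'⟩ := by
  rw [← localDim_inter_open_eq F W hW z (hF'F hzF') hzW,
    ← localDim_inter_open_eq F' W hW z hzF' hzW]
  have h : W ∩ F' = W ∩ F := by
    apply subset_antisymm
    · exact Set.inter_subset_inter_right _ hF'F
    · exact fun t ht => ⟨ht.1, hWF ht⟩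
  exact localDim_subtype_congr h z _ _

/-- coheight in a smaller subset is at most the coheight in a bigger one -/
theorem coheight_subtype_mono {B : Type*} [Preorder B] {Z Z' : Set B} (h : Z ⊆ Z') (b : B)
    (hb : b ∈ Z) : coheight (⟨b, hb⟩ : ↥Z) ≤ coheight (⟨b, h hb⟩ : ↥Z') :=
  coheight_le_coheight_apply_of_strictMono (Set.inclusion h) (fun _ _ hab => hab) ⟨b, hb⟩

end Groth.Agent.H17.Chev
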