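import Groth.Agent.H17.Chev.RedSubChev
import Groth.Agent.H17.Chev.TopAux
import Groth.Agent.H17.Chev.MaxPt
import Groth.Agent.H17.Chev.IrrForm
import Groth.Agent.H17.Chev.EquiCodim

set_option autoImplicit false
set_option linter.unusedSectionVars false
set_option linter.style.haveILetI false
universe u
open CategoryTheory CategoryTheory.Limits AlgebraicGeometry Topology Order TopologicalSpace

namespace Groth.Agent.H17.Chev

/-- (D1) a point of finite coheight lies on the closure of a maximal point in which it has the same
coheight. -/
theorem exists_isMax_coheight_closure_eq (X : Scheme.{u}) (z : X) (n : ℕ) (hn : coheight z = n) :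
    ∃ ξ : X, IsMax ξ ∧ ∃ h : ξ ⤳ z,
      coheight (⟨z, h.mem_closure⟩ : ↥(closure ({ξ} : Set X))) = n := by
  obtain ⟨p, hp, hpl⟩ := exists_series_of_coheight_eq_coe _ hn
  have h1 := coheight_last_add_length_le p
  rw [hp, hn, hpl] at h1
  have h0 : coheight p.last = 0 := by
    cases hc : coheight p.last with
    | top => rw [hc] at h1; simp at h1
    | coe c =>
      rw [hc] at h1
      have : c + n ≤ n := by exact_mod_cast h1
      have : c = 0 := by omega
      simp [this]
  have hle : ∀ i, p i ≤ p.last := fun i => p.monotone (Fin.le_last i)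
  have hsp : p.last ⤳ z := by
    have := hle 0
    rw [show p 0 = z from hp] at this
    exact this
  refine ⟨p.last, coheight_eq_zero.mp h0, hsp, ?_⟩
  apply le_antisymm
  · rw [← hn]; exact coheight_subtype_le _ _ _
  · let q : LTSeries ↥(closure ({p.last} : Set X)) :=
      { length := p.length
        toFun := fun i => ⟨p i, (show p.last ⤳ p i from hle i).mem_closure⟩
        step := fun i => p.step i }
    have hq : q.head = ⟨z, hsp.mem_closure⟩ := Subtype.ext hp
    have := length_le_coheight hq.ge
    rw [← hpl]
    exact this

/-- if `a ≠ η` then coheights in `closure {a}` are smaller than in the irreducible space -/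
theorem coheight_closure_add_one_le (Y : Scheme.{u}) [IrreducibleSpace Y] (a y : Y)
    (ha : a ≠ genericPoint Y) (hy : y ∈ closure ({a} : Set Y)) :
    coheight (⟨y, hy⟩ : ↥(closure ({a} : Set Y))) + 1 ≤ coheight y := by
  refine coheight_add_one_le_of_strictMono_of_lt (Subtype.val : ↥(closure ({a} : Set Y)) → Y)
    (fun _ _ h => h) (genericPoint Y) ?_ ⟨y, hy⟩
  intro t
  have h1 : a ⤳ t.1 := specializes_iff_mem_closure.mpr t.2
  have h2 : genericPoint Y ⤳ a := genericPoint_specializes a
  rw [lt_iff_le_not_ge]
  simp only [Scheme.le_iff_specializes]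
  refine ⟨h2.trans h1, fun h => ha ?_⟩
  exact ((h1.trans h).antisymm h2).eq

end Groth.Agent.H17.Chev
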