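import Groth.Agent.H17.Chev.QFin3
import Groth.Agent.H6.IsolatedSplit
import Groth.Agent.H6.FinFibreSubm

set_option autoImplicit false
set_option linter.unusedSectionVars false
set_option linter.style.haveILetI false
universe u
open CategoryTheory CategoryTheory.Limits AlgebraicGeometry Topology Order TopologicalSpace

namespace Groth.Agent.H17.Chev

/-- EGA IV 14.5.3 -/
theorem hasQFSection_of_isEquidimAt {X Y : Scheme.{u}} [IrreducibleSpace Y]
    [IsLocallyNoetherian Y] (f : X ⟶ Y) [LocallyOfFiniteType f] (x : X) (hf : EGA43.IsEquidimAt f x)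
    (hcl : ∀ x' : X, f.base x' = f.base x → x ⤳ x' → x' = x) : HasQFSection f x := by
  have key : ∀ (e : ℕ) (X : Scheme.{u}) (f : X ⟶ Y) [LocallyOfFiniteType f] (x : X),
      EGA43.IsEquidimAt f x → (∀ x' : X, f.base x' = f.base x → x ⤳ x' → x' = x) →
      FlatMor.fibreDimAt f x = e → HasQFSection f x := by
    intro e
    induction e with
    | zero =>
      intro X f _ x hf _ he
      exact exists_immersion_quasiFinite_of_fibreDimAt_zero f x hf (by exact_mod_cast he)
    | succ e IH =>
      intro X f _ x hf hcl he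
      exact hasQFSection_step e IH X f x hf hcl he
  obtain ⟨e, he⟩ := exists_nat_eq_fibreDimAt f x
  exact key e X f x hf hcl he

/-- the section can be taken affine -/
theorem HasQFSection.exists_affine {X Y : Scheme.{u}} (f : X ⟶ Y) (x : X)
    (h : HasQFSection f x) :
    ∃ (T : Scheme.{u}) (i : T ⟶ X), IsAffine T ∧ IsImmersion i ∧ IrreducibleSpace ↥T ∧
      IsReduced T ∧ x ∈ Set.range i.base ∧ LocallyOfFiniteType (i ≫ f) ∧
      LocallyQuasiFinite (i ≫ f) ∧ IsDominant (i ≫ f) := by
  obtain ⟨T, i, h1, h2, h3, ⟨t, ht⟩, h5, h6, h7, h8⟩ := h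
  obtain ⟨_, ⟨(T' : T.Opens), hT', rfl⟩, htT', -⟩ := T.isBasis_affineOpens.exists_subset_of_mem_open
    (Set.mem_univ t) isOpen_univ
  replace hT' : IsAffineOpen T' := hT'
  have hη : genericPoint ↥T ∈ T' :=
    (genericPoint_specializes t).mem_open T'.isOpen htT'
  have hirr : IrreducibleSpace ↥(T' : Scheme.{u}) := by
    refine (irreducibleSpace_of_isEmbedding T'.ι.base T'.ι.isEmbedding
      (⟨genericPoint ↥T, hη⟩ : ↥(T' : Scheme.{u})) ?_).1
    intro s _
    have : s ∈ closure ({genericPoint ↥T} : Set ↥T) := (genericPoint_specializes s).mem_closure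
    exact this
  refine ⟨T', T'.ι ≫ i, hT', inferInstance, hirr, isReduced_of_isOpenImmersion T'.ι,
    ⟨⟨t, htT'⟩, ?_⟩, ?_, ?_, ?_⟩
  · change i.base (T'.ι.base ⟨t, htT'⟩) = x
    exact ht
  · rw [Category.assoc]; infer_instance
  · rw [Category.assoc]; infer_instance
  · rw [Category.assoc]
    refine ⟨?_⟩
    have hmem : (i ≫ f).base (genericPoint ↥T) ∈ Set.range (T'.ι ≫ i ≫ f).base :=
      ⟨⟨genericPoint ↥T, hη⟩, rfl⟩
    intro y
    have h9 : y ∈ closure (Set.range (i ≫ f).base) := h8.denseRange y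
    have h10 : Set.range (i ≫ f).base ⊆ closure {(i ≫ f).base (genericPoint ↥T)} := by
      rintro _ ⟨s, rfl⟩
      exact ((genericPoint_specializes s).map (i ≫ f).continuous).mem_closure
    have h11 : y ∈ closure {(i ≫ f).base (genericPoint ↥T)} :=
      (closure_minimal h10 isClosed_closure) h9
    exact closure_mono (Set.singleton_subset_iff.mpr hmem) h11

end Groth.Agent.H17.Chev
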