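import Groth.Agent.H17.Chev.CompleteSec

set_option autoImplicit false
set_option linter.unusedSectionVars false
set_option linter.style.haveILetI false
universe u
open CategoryTheory CategoryTheory.Limits AlgebraicGeometry Topology Order TopologicalSpace

namespace Groth.Agent.H17.Chev

theorem fromSpecStalk_comp_eq_SpecMap {T : Scheme.{u}} {A : CommRingCat.{u}} (g : T ⟶ Spec A) (t : T) :
    T.fromSpecStalk t ≫ g =
      Spec.map ((Scheme.ΓSpecIso A).inv ≫ g.appTop ≫ T.presheaf.germ ⊤ t trivial) := by
  apply ext_of_isAffine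
  rw [Scheme.Hom.comp_appTop, Scheme.fromSpecStalk_appTop]
  rw [← cancel_mono (Scheme.ΓSpecIso (T.presheaf.stalk t)).hom]
  rw [Scheme.ΓSpecIso_naturality]
  simp only [Category.assoc, Iso.hom_inv_id_assoc]
  congr 2
  have : (Spec (T.presheaf.stalk t)).presheaf.map (homOfLE (le_top : (⊤ : (Spec (T.presheaf.stalk t)).Opens) ≤ ⊤)).op = 𝟙 _ := by
    exact (Spec (T.presheaf.stalk t)).presheaf.map_id _
  rw [this, Category.id_comp, Iso.inv_hom_id, Category.comp_id]


open IsLocalRing in
theorem exists_finite_local_domain_section {A : Type u} [CommRing A] [IsDomain A]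
    [IsNoetherianRing A] [IsLocalRing A] [IsAdicComplete (IsLocalRing.maximalIdeal A) A]
    {X : Scheme.{u}} (f : X ⟶ Spec (CommRingCat.of A)) [LocallyOfFiniteType f] (x : X)
    (hx : f.base x = IsLocalRing.closedPoint A)
    (hf : EGA43.IsEquidimAt f x) (hcl : ∀ x' : X, f.base x' = f.base x → x ⤳ x' → x' = x) :
    ∃ (A' : Type u) (_ : CommRing A') (_ : IsDomain A') (_ : IsLocalRing A') (_ : Algebra A A')
      (_ : Module.Finite A A'),
      Function.Injective (algebraMap A A') ∧
      ∃ h : Spec (CommRingCat.of A') ⟶ X,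
        h ≫ f = Spec.map (CommRingCat.ofHom (algebraMap A A')) ∧
        IsImmersion h ∧ x ∈ Set.range h.base := by
  haveI : IrreducibleSpace ↥(Spec (CommRingCat.of A)) :=
    inferInstanceAs (IrreducibleSpace (PrimeSpectrum A))
  haveI : IsLocallyNoetherian (Spec (CommRingCat.of A)) := inferInstance
  have hq := hasQFSection_of_isEquidimAt f x hf hcl
  obtain ⟨T, i, hTaff, hi, hTirr, hTred, ⟨t, ht⟩, hlft, hlqf, hdom⟩ :=
    HasQFSection.exists_affine f x hq
  haveI : HenselianLocalRing A := Groth.Agent.H6.FinFibreSubm.henselianLocalRing_of_complete A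
  have hgt : (i ≫ f).base t = closedPoint A := by
    change f.base (i.base t) = _
    rw [ht, hx]
  have hsep : IsSeparated (i ≫ f) := inferInstance
  have hdisc := (i ≫ f).isDiscrete_preimage_singleton (closedPoint A)
  have hisol : IsOpen ((Subtype.val : ((i ≫ f) ⁻¹' {closedPoint A}) → T) ⁻¹' {t}) := by
    haveI := hdisc.to_subtype
    exact isOpen_discrete _
  obtain ⟨hfin, hopen, -⟩ :=
    Groth.Agent.H6.IsolatedSplit.isolated_point_splits A T (i ≫ f) t hgt hisol
  haveI : IsIntegral T := isIntegral_of_irreducibleSpace_of_isReduced T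
  let φ : CommRingCat.of A ⟶ T.presheaf.stalk t :=
    (Scheme.ΓSpecIso (CommRingCat.of A)).inv ≫ (i ≫ f).appTop ≫ T.presheaf.germ ⊤ t trivial
  letI alg : Algebra A ↑(T.presheaf.stalk t) := φ.hom.toAlgebra
  have hcomp : T.fromSpecStalk t ≫ (i ≫ f) = Spec.map φ := fromSpecStalk_comp_eq_SpecMap (i ≫ f) t
  -- the generic point of T lies in the image of Spec O_{T,t}
  obtain ⟨q, hq⟩ : genericPoint ↥T ∈ Set.range (T.fromSpecStalk t).base := by
    have hop : IsOpen (Set.range (T.fromSpecStalk t).base) :=
      (T.fromSpecStalk t).isOpenEmbedding.isOpen_range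
    exact (genericPoint_specializes t).mem_open hop ⟨closedPoint _, T.fromSpecStalk_closedPoint⟩
  have hdense : DenseRange (Spec.map φ).base := by
    rw [← hcomp]
    intro y
    have h9 : y ∈ closure (Set.range (i ≫ f).base) := hdom.denseRange y
    have h10 : Set.range (i ≫ f).base ⊆ closure {(i ≫ f).base (genericPoint ↥T)} := by
      rintro _ ⟨s, rfl⟩
      exact ((genericPoint_specializes s).map (i ≫ f).continuous).mem_closure
    have h11 : y ∈ closure {(i ≫ f).base (genericPoint ↥T)} :=
      (closure_minimal h10 isClosed_closure) h9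
    have hmem : (i ≫ f).base (genericPoint ↥T) ∈
        Set.range (T.fromSpecStalk t ≫ (i ≫ f)).base := ⟨q, by
      change (i ≫ f).base ((T.fromSpecStalk t).base q) = _
      rw [hq]⟩
    exact closure_mono (Set.singleton_subset_iff.mpr hmem) h11
  have hinj : Function.Injective (algebraMap A ↑(T.presheaf.stalk t)) := by
    have h1 : DenseRange (PrimeSpectrum.comap φ.hom) := hdense
    rw [PrimeSpectrum.denseRange_comap_iff_ker_le_nilRadical, nilradical_eq_zero] at h1
    rw [RingHom.injective_iff_ker_eq_bot]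
    exact le_bot_iff.mp h1
  refine ⟨↑(T.presheaf.stalk t), inferInstance, inferInstance, inferInstance, alg, hfin, hinj,
    T.fromSpecStalk t ≫ i, ?_, inferInstance, ⟨closedPoint _, ?_⟩⟩
  · rw [Category.assoc, hcomp]
    rfl
  · change i.base ((T.fromSpecStalk t).base (closedPoint _)) = x
    rw [T.fromSpecStalk_closedPoint, ht]

end Groth.Agent.H17.Chev
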