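import Groth.Agent.H17.Chev.DimTotal
import Groth.Agent.H49.FibreDim

set_option autoImplicit false
set_option linter.unusedSectionVars false
set_option linter.style.haveILetI false
universe u
open CategoryTheory CategoryTheory.Limits AlgebraicGeometry Topology Order TopologicalSpace

namespace Groth.Agent.H17.Chev

/-- coheights along a chain: `coheight (last) + length ≤ coheight (head)`. -/
theorem coheight_last_add_length_le {α : Type*} [Preorder α] (p : LTSeries α) :
    coheight p.last + p.length ≤ coheight p.head := by
  cases h : coheight p.head with
  | top => exact le_top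
  | coe m =>
    have key : ∀ q : LTSeries α, q.head = p.last → p.length + q.length ≤ m := by
      intro q hq
      have h2 : ((p.smash q hq.symm).length : ℕ∞) ≤ coheight p.head :=
        length_le_coheight (by simp)
      rw [h] at h2
      have h3 : (p.smash q hq.symm).length = p.length + q.length := by simp
      rw [h3] at h2
      exact_mod_cast h2
    have hm : p.length ≤ m := by
      have := key (RelSeries.singleton _ p.last) rfl
      simpa using this
    have h4 : coheight p.last ≤ ((m - p.length : ℕ) : ℕ∞) := by
      refine coheight_le fun q hq => ?_
      have := key q hq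
      norm_cast
      omega
    calc coheight p.last + p.length ≤ ((m - p.length : ℕ) : ℕ∞) + p.length := by gcongr
      _ = m := by norm_cast; omega

/-- the stalk of the fibre at `asFiber z` in terms of any point of the fibre over `y = f z`
mapping to `z`. -/
theorem ringKrullDim_stalk_asFiber_eq {X Y : Scheme.{u}} (f : X ⟶ Y) (y : Y) (z : X)
    (h : f.base z = y) (w : ↥(f.fiber y)) (hw : (f.fiberι y).base w = z) :
    ringKrullDim ((f.fiber (f.base z)).presheaf.stalk (f.asFiber z)) =
      ringKrullDim ((f.fiber y).presheaf.stalk w) := by
  subst h
  have : w = f.asFiber z := by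
    apply (f.fiberι (f.base z)).isEmbedding.injective
    rw [hw]
    exact (f.fiberι_asFiber z).symm
  rw [this]

/-- Every point `x` of a fibre is a specialization (in the fibre) of a generic point `z` of an
irreducible component of the fibre with `dim O_{X_y,x}` equal to the length of a chain from `z`
to `x`; hence `dim O_{X,z} + dim O_{X_y,x} ≤ dim O_{X,x}`. -/
theorem exists_generic_fibre_point {X Y : Scheme.{u}} (f : X ⟶ Y) [LocallyOfFiniteType f] (x : X) :
    ∃ z : X, f.base z = f.base x ∧
      ringKrullDim ((f.fiber (f.base z)).presheaf.stalk (f.asFiber z)) = 0 ∧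
      ringKrullDim (X.presheaf.stalk z) +
        ringKrullDim ((f.fiber (f.base x)).presheaf.stalk (f.asFiber x)) ≤
        ringKrullDim (X.presheaf.stalk x) := by
  have hlft : LocallyOfFiniteType (f.fiberToSpecResidueField (f.base x)) :=
    inferInstanceAs (LocallyOfFiniteType (pullback.snd f (Y.fromSpecResidueField (f.base x))))
  have : IsLocallyNoetherian (f.fiber (f.base x)) :=
    LocallyOfFiniteType.isLocallyNoetherian (f.fiberToSpecResidueField (f.base x))
  obtain ⟨n, hn⟩ := exists_nat_eq_ringKrullDim ((f.fiber (f.base x)).presheaf.stalk (f.asFiber x))
  have hn' : coheight (f.asFiber x) = n := by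
    have := hn
    rw [ringKrullDim_stalk_eq_coheight] at this
    exact_mod_cast this
  obtain ⟨p, hp, hpl⟩ := exists_series_of_coheight_eq_coe _ hn'
  have h1 := coheight_last_add_length_le p
  rw [hp, hn', hpl] at h1
  have h0 : coheight p.last = 0 := by
    cases hc : coheight p.last with
    | top => rw [hc] at h1; simp at h1
    | coe c =>
      rw [hc] at h1
      have : c + n ≤ n := by exact_mod_cast h1
      have : c = 0 := by omega
      simp [this]
  let z : X := (f.fiberι (f.base x)).base p.last
  have hz : f.base z = f.base x := map_fiberι f _ _
  refine ⟨z, hz, ?_, ?_⟩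
  · rw [ringKrullDim_stalk_asFiber_eq f (f.base x) z hz p.last rfl, ringKrullDim_stalk_eq_coheight,
      h0]
    rfl
  · rw [hn, ringKrullDim_stalk_eq_coheight, ringKrullDim_stalk_eq_coheight]
    let q : LTSeries X := p.map (f.fiberι (f.base x)).base (strictMono_fiberι f _)
    have h2 := coheight_last_add_length_le q
    have hq1 : q.last = z := by simp [q, z]
    have hq2 : q.head = x := by
      simp only [q, LTSeries.head_map, hp]
      exact f.fiberι_asFiber x
    have hq3 : q.length = n := by simp [q, hpl]
    rw [hq1, hq2, hq3] at h2
    exact_mod_cast h2

end Groth.Agent.H17.Chev
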