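import Groth.Agent.H17.Chev.OpenAt
import Groth.Agent.H17.Chev.FibGen

set_option autoImplicit false
set_option linter.unusedSectionVars false
set_option linter.style.haveILetI false
universe u
open CategoryTheory CategoryTheory.Limits AlgebraicGeometry Topology Order TopologicalSpace

namespace Groth.Agent.H17.Chev

/-- EGA IV 14.2.1-type: if `f` is open at a maximal point `ζ` of its fibre then
`dim O_{X,ζ} = dim O_{Y,f ζ}`. -/
theorem stalk_dim_eq_of_isOpenAt' {X Y : Scheme.{u}} [IsLocallyNoetherian X]
    [IsLocallyNoetherian Y] (f : X ⟶ Y) (ζ : X)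
    (hz0 : ringKrullDim ((f.fiber (f.base ζ)).presheaf.stalk (f.asFiber ζ)) = 0)
    (hopen : EGA43.IsOpenAt f.base ζ) :
    ringKrullDim (X.presheaf.stalk ζ) = ringKrullDim (Y.presheaf.stalk (f.base ζ)) := by
  apply le_antisymm
  · have := Groth.Agent.H49.FibreDim.ringKrullDim_stalk_le_add_fibre f ζ
    rw [hz0, add_zero] at this
    exact this
  · have hsq := Scheme.SpecMap_stalkMap_fromSpecStalk (f := f) (x := ζ)
    have hsq' : ∀ q : ↥(Spec (X.presheaf.stalk ζ)),
        (Y.fromSpecStalk (f.base ζ)).base ((Spec.map (f.stalkMap ζ)).base q) =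
          f.base ((X.fromSpecStalk ζ).base q) := by
      intro q
      exact congrArg (fun g => g.base q) hsq
    have hinjY : Function.Injective (Y.fromSpecStalk (f.base ζ)).base :=
      (Y.fromSpecStalk (f.base ζ)).isEmbedding.injective
    have hinjX : Function.Injective (X.fromSpecStalk ζ).base :=
      (X.fromSpecStalk ζ).isEmbedding.injective
    refine Groth.Agent.H17.SurjDim.ringKrullDim_le_of_comap_surjective'
      (Y.presheaf.stalk (f.base ζ)) (X.presheaf.stalk ζ) (f.stalkMap ζ).hom ?_ ?_
    · intro 𝔭
      set y' := (Y.fromSpecStalk (f.base ζ)).base 𝔭 with hy'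
      have hy's : y' ⤳ f.base ζ := by
        have : y' ∈ Set.range (Y.fromSpecStalk (f.base ζ)).base := ⟨𝔭, rfl⟩
        rw [Scheme.range_fromSpecStalk] at this
        exact this
      obtain ⟨x', hx's, hx'y⟩ := exists_generization_of_isOpenAt f ζ hopen y' hy's
      have : x' ∈ Set.range (X.fromSpecStalk ζ).base := by
        rw [Scheme.range_fromSpecStalk]; exact hx's
      obtain ⟨q, rfl⟩ := this
      refine ⟨q, hinjY ?_⟩
      change (Y.fromSpecStalk (f.base ζ)).base ((Spec.map (f.stalkMap ζ)).base q) = _
      rw [hsq', hx'y]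
    · intro q hq
      apply hinjX
      have h1 : (X.fromSpecStalk ζ).base (IsLocalRing.closedPoint (X.presheaf.stalk ζ)) = ζ :=
        Scheme.fromSpecStalk_closedPoint
      rw [h1]
      set x' := (X.fromSpecStalk ζ).base q with hx'
      have hx's : x' ⤳ ζ := by
        have : x' ∈ Set.range (X.fromSpecStalk ζ).base := ⟨q, rfl⟩
        rw [Scheme.range_fromSpecStalk] at this
        exact this
      have hfx' : f.base x' = f.base ζ := by
        have e1 : (Spec.map (f.stalkMap ζ)).base q =
            IsLocalRing.closedPoint (Y.presheaf.stalk (f.base ζ)) := hq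
        calc f.base x' = (Y.fromSpecStalk (f.base ζ)).base ((Spec.map (f.stalkMap ζ)).base q) :=
              (hsq' q).symm
          _ = (Y.fromSpecStalk (f.base ζ)).base
              (IsLocalRing.closedPoint (Y.presheaf.stalk (f.base ζ))) := congrArg _ e1
          _ = f.base ζ := Scheme.fromSpecStalk_closedPoint
      have : x' ∈ Set.range (f.fiberι (f.base ζ)).base := by
        rw [Scheme.Hom.range_fiberι]; exact hfx'
      obtain ⟨w', hw'⟩ := this
      have hmax := isMax_of_ringKrullDim_stalk_eq_zero _ (f.asFiber ζ) hz0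
      have h2 : w' ⤳ f.asFiber ζ := by
        rw [← (f.fiberι (f.base ζ)).isEmbedding.isInducing.specializes_iff, hw', f.fiberι_asFiber]
        exact hx's
      have h3 : f.asFiber ζ ⤳ w' := hmax (show f.asFiber ζ ≤ w' from h2)
      have h4 : w' = f.asFiber ζ := (h2.antisymm h3).eq
      rw [← hw', h4, f.fiberι_asFiber]


/-- general version of `exists_generic_fibre_point` (no finite type hypothesis). -/
theorem exists_generic_fibre_point_of_isNoetherianRing {X Y : Scheme.{u}} (f : X ⟶ Y) (x : X)
    [IsNoetherianRing (X.presheaf.stalk x)] :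
    ∃ w : ↥(f.fiber (f.base x)), w ⤳ f.asFiber x ∧ coheight w = 0 ∧
      ringKrullDim (X.presheaf.stalk ((f.fiberι (f.base x)).base w)) +
        ringKrullDim ((f.fiber (f.base x)).presheaf.stalk (f.asFiber x)) ≤
        ringKrullDim (X.presheaf.stalk x) := by
  haveI : IsNoetherianRing ((f.fiber (f.base x)).presheaf.stalk (f.asFiber x)) :=
    isNoetherianRing_of_ringEquiv _ (Groth.Agent.H49.FibreStalk.quotientEquivStalkAsFiber f x)
  obtain ⟨n, hn⟩ := exists_nat_eq_ringKrullDim ((f.fiber (f.base x)).presheaf.stalk (f.asFiber x))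
  have hn' : coheight (f.asFiber x) = n := by
    have := hn
    rw [ringKrullDim_stalk_eq_coheight] at this
    exact_mod_cast this
  obtain ⟨p, hp, hpl⟩ := exists_series_of_coheight_eq_coe _ hn'
  have h1 := coheight_last_add_length_le p
  rw [hp, hn', hpl] at h1
  have h0 : coheight p.last = 0 := by
    cases hc : coheight p.last with
    | top => rw [hc] at h1; simp at h1
    | coe c =>
      rw [hc] at h1
      have : c + n ≤ n := by exact_mod_cast h1
      have : c = 0 := by omega
      simp [this]
  let q : LTSeries X := p.map (f.fiberι (f.base x)).base (strictMono_fiberι f _)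
  have hq1 : q.last = (f.fiberι (f.base x)).base p.last := by simp [q]
  have hq2 : q.head = x := by
    simp only [q, LTSeries.head_map, hp]
    exact f.fiberι_asFiber x
  have hq3 : q.length = n := by simp [q, hpl]
  refine ⟨p.last, ?_, h0, ?_⟩
  · have := LTSeries.head_le_last p
    rw [hp] at this
    exact this
  · rw [hn, ringKrullDim_stalk_eq_coheight, ringKrullDim_stalk_eq_coheight]
    have h2 := coheight_last_add_length_le q
    rw [hq1, hq2, hq3] at h2
    exact_mod_cast h2

/-- **EGA IV 14.2.1**: if `f` is open at the generic points of the components of the fibre through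
`x`, the dimension formula holds at `x`. -/
theorem stalk_dim_eq_add_of_isOpenAt {X Y : Scheme.{u}} [IsLocallyNoetherian X]
    [IsLocallyNoetherian Y] (f : X ⟶ Y) (x : X)
    (h : ∀ z : ↥(f.fiber (f.base x)), f.asFiber x ∈ closure {z} →
      (∀ z' : ↥(f.fiber (f.base x)), z ∈ closure {z'} → z' = z) →
      EGA43.IsOpenAt f.base ((f.fiberι (f.base x)).base z)) :
    ringKrullDim (X.presheaf.stalk x) =
      ringKrullDim (Y.presheaf.stalk (f.base x)) +
        ringKrullDim ((f.fiber (f.base x)).presheaf.stalk (f.asFiber x)) := by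
  apply le_antisymm
  · exact Groth.Agent.H49.FibreDim.ringKrullDim_stalk_le_add_fibre f x
  · obtain ⟨w, hwx, hw0, hle⟩ := exists_generic_fibre_point_of_isNoetherianRing f x
    have hmaxw : IsMax w := coheight_eq_zero.mp hw0
    have hopen := h w hwx.mem_closure (fun z' hz' => by
      have h1 : z' ⤳ w := specializes_iff_mem_closure.mpr hz'
      have h2 : w ⤳ z' := hmaxw (show w ≤ z' from h1)
      exact (h1.antisymm h2).eq)
    have hz : f.base ((f.fiberι (f.base x)).base w) = f.base x := map_fiberι f _ _
    have hz0 : ringKrullDim ((f.fiber (f.base ((f.fiberι (f.base x)).base w))).presheaf.stalk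
        (f.asFiber ((f.fiberι (f.base x)).base w))) = 0 := by
      rw [ringKrullDim_stalk_asFiber_eq f (f.base x) _ hz w rfl, ringKrullDim_stalk_eq_coheight,
        hw0]
      rfl
    have h3 := stalk_dim_eq_of_isOpenAt' f _ hz0 hopen
    refine le_trans ?_ hle
    refine add_le_add ?_ le_rfl
    rw [h3, hz]

end Groth.Agent.H17.Chev
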