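import Groth.Agent.H17.Chev.Equidim10
import Groth.Agent.H17.Chev.OpenAt4

set_option autoImplicit false
set_option linter.unusedSectionVars false
set_option linter.style.haveILetI false
universe u
open CategoryTheory CategoryTheory.Limits AlgebraicGeometry Topology Order TopologicalSpace

namespace Groth.Agent.H17.Chev

/-- `codim(z) + codim(x, closure z) ≤ codim(x)`. -/
theorem coheight_add_coheight_closure_le (X : Scheme.{u}) (z x : X) (h : z ⤳ x) :
    coheight z + coheight (⟨x, h.mem_closure⟩ : ↥(closure ({z} : Set X))) ≤ coheight x := by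
  cases hx : coheight x with
  | top => exact le_top
  | coe m =>
    have h1 := coheight_subtype_le (closure ({z} : Set X)) x h.mem_closure
    rw [hx] at h1
    obtain ⟨k, hk⟩ := exists_nat_eq_of_le_natCast' _ m h1
    obtain ⟨p, hp, hpl⟩ := exists_series_of_coheight_eq_coe _ hk
    have hsm : StrictMono (Subtype.val : ↥(closure ({z} : Set X)) → X) := fun _ _ hab => hab
    let q : LTSeries X := p.map Subtype.val hsm
    have h2 := coheight_last_add_length_le q
    have hq1 : q.head = x := by
      change (p.map Subtype.val hsm).head = x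
      rw [LTSeries.head_map, hp]
    have hq2 : q.length = k := by
      change (p.map Subtype.val hsm).length = k
      rw [LTSeries.map_length, hpl]
    have hq3 : q.last ≤ z := by
      have : q.last = p.last.1 := LTSeries.last_map _ _ _
      rw [this]
      exact (show z ⤳ p.last.1 from specializes_iff_mem_closure.mpr p.last.2)
    rw [hq1, hq2, hx] at h2
    rw [hk]
    exact le_trans (add_le_add (coheight_anti hq3) le_rfl) h2

/-- codimension in the fibre versus codimension in the ambient scheme for closures of points. -/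
theorem coheight_closure_fiber_le {X Y : Scheme.{u}} (f : X ⟶ Y) (y : Y) (t' w' : ↥(f.fiber y))
    (h : t' ⤳ w') :
    coheight (⟨w', h.mem_closure⟩ : ↥(closure ({t'} : Set ↥(f.fiber y)))) ≤
      coheight (⟨(f.fiberι y).base w', (h.map (f.fiberι y).continuous).mem_closure⟩ :
        ↥(closure ({(f.fiberι y).base t'} : Set X))) := by
  let g : ↥(closure ({t'} : Set ↥(f.fiber y))) →
      ↥(closure ({(f.fiberι y).base t'} : Set X)) := fun s =>
    ⟨(f.fiberι y).base s.1,
      ((specializes_iff_mem_closure.mpr s.2).map (f.fiberι y).continuous).mem_closure⟩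
  have hg : StrictMono g := fun a b hab => strictMono_fiberι f _ hab
  exact coheight_le_coheight_apply_of_strictMono g hg ⟨w', h.mem_closure⟩

/-- (⇐) of EGA IV 13.3.x. -/
theorem stalk_dim_eq_add_of_exists_generic {X Y : Scheme.{u}} [IsLocallyNoetherian Y]
    (f : X ⟶ Y) [LocallyOfFiniteType f] (x z : X) (hz : f.base z = f.base x) (hzx : z ⤳ x)
    (hzmax : ∀ z' : X, f.base z' = f.base x → z' ⤳ z → z' = z)
    (hfd : FlatMor.fibreDimAt f z = FlatMor.fibreDimAt f x)
    (hdz : ringKrullDim (X.presheaf.stalk z) = ringKrullDim (Y.presheaf.stalk (f.base z))) :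
    ringKrullDim (X.presheaf.stalk x) =
      ringKrullDim (Y.presheaf.stalk (f.base x)) +
        ringKrullDim ((f.fiber (f.base x)).presheaf.stalk (f.asFiber x)) := by
  have hXN : IsLocallyNoetherian X := LocallyOfFiniteType.isLocallyNoetherian f
  have hlft : LocallyOfFiniteType (f.fiberToSpecResidueField (f.base x)) :=
    inferInstanceAs (LocallyOfFiniteType (pullback.snd f (Y.fromSpecResidueField (f.base x))))
  have hFN : IsLocallyNoetherian (f.fiber (f.base x)) :=
    LocallyOfFiniteType.isLocallyNoetherian (f.fiberToSpecResidueField (f.base x))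
  apply le_antisymm
  · exact Groth.Agent.H49.FibreDim.ringKrullDim_stalk_le_add_fibre f x
  · obtain ⟨z₀, hz₀⟩ : z ∈ Set.range (f.fiberι (f.base x)).base := by
      rw [Scheme.Hom.range_fiberι]; exact hz
    have hsp : z₀ ⤳ f.asFiber x := by
      rw [← (f.fiberι (f.base x)).isEmbedding.isInducing.specializes_iff, hz₀, f.fiberι_asFiber]
      exact hzx
    have hmax₀ : IsMax z₀ := by
      intro b hb
      have h1 : b ⤳ z₀ := hb
      have h2 := h1.map (f.fiberι (f.base x)).continuous
      rw [hz₀] at h2
      have h3 := hzmax _ (map_fiberι f _ b) h2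
      have h4 : b = z₀ := (f.fiberι (f.base x)).isEmbedding.injective (h3.trans hz₀.symm)
      rw [h4]
    obtain ⟨nF, hnF⟩ := exists_nat_eq_ringKrullDim
      ((f.fiber (f.base x)).presheaf.stalk (f.asFiber x))
    obtain ⟨d, hd⟩ := exists_nat_eq_dim_closure_asFiber f x
    have hK₀ := fibreDimAt_eq_stalk_add f x
    rw [hnF, hd] at hK₀
    have hA := dim_closure_eq_coheight_add (Y.residueField (f.base x))
      (f.fiberToSpecResidueField (f.base x)) z₀ (f.asFiber x) hsp
    rw [hd, dim_irreducibleComponent_eq_localDim (Y.residueField (f.base x))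
      (f.fiberToSpecResidueField (f.base x)) _
      (closure_mem_irreducibleComponents_of_isMax _ z₀ hmax₀) z₀ isGenericPoint_closure,
      localDim_fiber_eq_fibreDimAt f _ z₀, hz₀, hfd, hK₀] at hA
    have hcF : (coheight (⟨f.asFiber x, hsp.mem_closure⟩ :
        ↥(closure ({z₀} : Set ↥(f.fiber (f.base x))))) : WithBot ℕ∞) = nF :=
      (eq_of_add_natCast_eq_add_natCast hA).symm
    have hcF' : coheight (⟨f.asFiber x, hsp.mem_closure⟩ :
        ↥(closure ({z₀} : Set ↥(f.fiber (f.base x))))) = (nF : ℕ∞) := by exact_mod_cast hcF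
    have h1 := coheight_closure_fiber_le f (f.base x) z₀ (f.asFiber x) hsp
    rw [hcF'] at h1
    have h2 : (nF : ℕ∞) ≤ coheight (⟨x, hzx.mem_closure⟩ : ↥(closure ({z} : Set X))) := by
      refine h1.trans (le_of_eq ?_)
      exact coheight_subtype_congr' (by rw [hz₀]) (f.fiberι_asFiber x) _ _
    have h3 := coheight_add_coheight_closure_le X z x hzx
    have h5 : ringKrullDim (Y.presheaf.stalk (f.base x)) =
        ringKrullDim (Y.presheaf.stalk (f.base z)) := by rw [hz]
    rw [hnF, h5, ← hdz, ringKrullDim_stalk_eq_coheight, ringKrullDim_stalk_eq_coheight]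
    have h4 : coheight z + (nF : ℕ∞) ≤ coheight x := (add_le_add le_rfl h2).trans h3
    exact_mod_cast h4

end Groth.Agent.H17.Chev
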