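import Groth.Agent.H17.Chev.DimFormIff

set_option autoImplicit false
set_option linter.unusedSectionVars false
set_option linter.style.haveILetI false
universe u
open CategoryTheory CategoryTheory.Limits AlgebraicGeometry Topology Order TopologicalSpace

namespace Groth.Agent.H17.Chev

/-- A chain of maximal length in a subset ends at a point in whose closure the chain lives. -/
theorem exists_mem_coheight_closure_ge (F : Scheme.{u}) (S₀ : Set F) (a : F) (ha : a ∈ S₀) (n : ℕ)
    (hn : coheight (⟨a, ha⟩ : ↥S₀) = n) :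
    ∃ z ∈ S₀, ∃ h : z ⤳ a, (n : ℕ∞) ≤ coheight (⟨a, h.mem_closure⟩ : ↥(closure ({z} : Set F))) := by
  obtain ⟨p, hp, hpl⟩ := exists_series_of_coheight_eq_coe _ hn
  have hmem : ∀ i, (p i).1 ∈ closure ({p.last.1} : Set F) := fun i => by
    have h1 : p i ≤ p.last := p.monotone (Fin.le_last i)
    have h2 : p.last.1 ⤳ (p i).1 := h1
    exact h2.mem_closure
  have hza : p.last.1 ⤳ a := by
    have h1 : p.head ≤ p.last := LTSeries.head_le_last p
    rw [hp] at h1
    exact h1
  refine ⟨p.last.1, p.last.2, hza, ?_⟩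
  let q : LTSeries ↥(closure ({p.last.1} : Set F)) :=
    { length := p.length
      toFun := fun i => ⟨(p i).1, hmem i⟩
      step := fun i => p.step i }
  have hq : q.head = ⟨a, hza.mem_closure⟩ := by
    apply Subtype.ext
    change (p.head).1 = a
    rw [hp]
  have := length_le_coheight (x := (⟨a, hza.mem_closure⟩ : ↥(closure ({p.last.1} : Set F))))
    (p := q) (le_of_eq hq.symm)
  have hql : q.length = n := hpl
  rw [hql] at this
  exact this

/-- (⇒) of EGA IV 13.3.x. -/
theorem exists_generic_of_stalk_dim_eq_add {X Y : Scheme.{u}} [IsLocallyNoetherian Y]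
    (f : X ⟶ Y) [LocallyOfFiniteType f] (x : X)
    (hcat : CAlg.IsUniversallyCatenary (Y.presheaf.stalk (f.base x)))
    (h : ringKrullDim (X.presheaf.stalk x) =
      ringKrullDim (Y.presheaf.stalk (f.base x)) +
        ringKrullDim ((f.fiber (f.base x)).presheaf.stalk (f.asFiber x))) :
    ∃ z : X, f.base z = f.base x ∧ z ⤳ x ∧
      (∀ z' : X, f.base z' = f.base x → z' ⤳ z → z' = z) ∧
      FlatMor.fibreDimAt f z = FlatMor.fibreDimAt f x ∧
      ringKrullDim (X.presheaf.stalk z) = ringKrullDim (Y.presheaf.stalk (f.base z)) := by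
  have hXN : IsLocallyNoetherian X := LocallyOfFiniteType.isLocallyNoetherian f
  have hlft : LocallyOfFiniteType (f.fiberToSpecResidueField (f.base x)) :=
    inferInstanceAs (LocallyOfFiniteType (pullback.snd f (Y.fromSpecResidueField (f.base x))))
  have hFN : IsLocallyNoetherian (f.fiber (f.base x)) :=
    LocallyOfFiniteType.isLocallyNoetherian (f.fiberToSpecResidueField (f.base x))
  obtain ⟨e, he⟩ := exists_nat_eq_fibreDimAt f x
  obtain ⟨nX, hnX⟩ := exists_nat_eq_ringKrullDim (X.presheaf.stalk x)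
  obtain ⟨nY, hnY⟩ := exists_nat_eq_ringKrullDim (Y.presheaf.stalk (f.base x))
  obtain ⟨nF, hnF⟩ := exists_nat_eq_ringKrullDim
    ((f.fiber (f.base x)).presheaf.stalk (f.asFiber x))
  obtain ⟨d, hd⟩ := exists_nat_eq_dim_closure_asFiber f x
  have hK₀ := fibreDimAt_eq_stalk_add f x
  rw [he, hnF, hd] at hK₀
  have hK₀' : e = nF + d := by exact_mod_cast hK₀
  rw [hnX, hnY, hnF] at h
  have h' : nX = nY + nF := by exact_mod_cast h
  have hcx : coheight x = (nX : ℕ∞) := by
    rw [ringKrullDim_stalk_eq_coheight] at hnX; exact_mod_cast hnX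
  have hcy : coheight (f.base x) = (nY : ℕ∞) := by
    rw [ringKrullDim_stalk_eq_coheight] at hnY; exact_mod_cast hnY
  have hcF : coheight (f.asFiber x) = (nF : ℕ∞) := by
    rw [ringKrullDim_stalk_eq_coheight] at hnF; exact_mod_cast hnF
  obtain ⟨ξ, hmax, hξx, hco⟩ := exists_isMax_coheight_closure_eq X x nX hcx
  have hy : f.base x ∈ closure {f.base ξ} := (hξx.map f.continuous).mem_closure
  have key := (coheight_add_localDim_le_and_eq f (closure {ξ}) isClosed_closure ξ
    isGenericPoint_closure x hξx.mem_closure hy).2 hcat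
  rw [hco] at key
  have hb : (coheight (⟨f.base x, hy⟩ : ↥(closure {f.base ξ})) : ℕ∞) ≤ (nY : ℕ∞) := by
    rw [← hcy]; exact coheight_subtype_le (closure ({f.base ξ} : Set Y)) (f.base x) hy
  have hcc : (coheight (⟨x, hξx.mem_closure, rfl⟩ :
      ↥(closure ({ξ} : Set X) ∩ f.base ⁻¹' {f.base x})) : ℕ∞) ≤ (nF : ℕ∞) := by
    have h1 := coheight_subtype_mono
      (Set.inter_subset_inter_left (f.base ⁻¹' {f.base x}) (Set.subset_univ (closure ({ξ} : Set X))))
      x ⟨hξx.mem_closure, rfl⟩
    have h2 := coheight_univ_inter_eq_stalk_fiber f x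
    rw [hnF] at h2
    have h3 : coheight (⟨x, Set.mem_univ x, rfl⟩ : ↥(Set.univ ∩ f.base ⁻¹' {f.base x})) =
        (nF : ℕ∞) := by exact_mod_cast h2
    rw [← h3]; exact h1
  have hchev := dim_generic_le_localDim f (closure {ξ}) isClosed_closure ξ isGenericPoint_closure x
    hξx.mem_closure
  have hℓe : FlatMor.localDim ↥(closure ({ξ} : Set X) ∩ f.base ⁻¹' {f.base x})
      ⟨x, hξx.mem_closure, rfl⟩ ≤ e := by
    rw [← he, ← localDim_univ_inter_eq_fibreDimAt f x]
    exact localDim_subtype_mono (Set.inter_subset_inter_left _ (Set.subset_univ _)) x _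
  have hg := dim_closure_inter_generic_eq f ξ hmax
  obtain ⟨gn, hgn⟩ := exists_nat_eq_fibreDimAt f ξ
  rw [hgn] at hg
  have hK₁ := localDim_inter_fibre_eq_coheight_add f (closure {ξ}) isClosed_closure x
    hξx.mem_closure
  rw [hd] at hK₁
  obtain ⟨bn, hbn⟩ := exists_nat_eq_of_le_natCast' _ nY hb
  obtain ⟨cn, hcn⟩ := exists_nat_eq_of_le_natCast' _ nF hcc
  rw [hg] at hchev key
  have hℓ0 : FlatMor.localDim ↥(closure ({ξ} : Set X) ∩ f.base ⁻¹' {f.base x})
      ⟨x, hξx.mem_closure, rfl⟩ ≠ ⊥ := by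
    intro h0
    rw [h0, le_bot_iff] at hchev
    exact WithBot.coe_ne_bot hchev
  obtain ⟨l, hl⟩ := exists_nat_eq_of_le_natCast _ e hℓ0 hℓe
  rw [hl] at key hchev hK₁
  rw [hbn, hcn] at key
  rw [hcn] at hK₁
  have hb2 := hb
  rw [hbn] at hb2
  have hcc2 := hcc
  rw [hcn] at hcc2
  have e1 : nX + l = bn + cn + gn := by exact_mod_cast key
  have e2 : bn ≤ nY := by exact_mod_cast hb2
  have e3 : cn ≤ nF := by exact_mod_cast hcc2
  have e4 : gn ≤ l := by exact_mod_cast hchev
  have e5 : l = cn + d := by exact_mod_cast hK₁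
  have r1 : bn = nY := by omega
  have r2 : l = e := by omega
  have r3 : gn = e := by omega
  have r4 : cn = nF := by omega
  -- transport to the fibre
  have hjemb : IsEmbedding (fun a : ↥((f.fiberι (f.base x)).base ⁻¹' closure ({ξ} : Set X)) =>
      (f.fiberι (f.base x)).base a.1) :=
    (f.fiberι (f.base x)).isEmbedding.comp IsEmbedding.subtypeVal
  have hjrange : Set.range (fun a : ↥((f.fiberι (f.base x)).base ⁻¹' closure ({ξ} : Set X)) =>
      (f.fiberι (f.base x)).base a.1) = closure ({ξ} : Set X) ∩ f.base ⁻¹' {f.base x} := by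
    ext a
    constructor
    · rintro ⟨t, rfl⟩
      exact ⟨t.2, map_fiberι f _ _⟩
    · rintro ⟨haS, haf⟩
      have h1 : a ∈ Set.range (f.fiberι (f.base x)).base := by
        rw [Scheme.Hom.range_fiberι]; exact haf
      obtain ⟨w, rfl⟩ := h1
      exact ⟨⟨w, haS⟩, rfl⟩
  have hx₀ : f.asFiber x ∈ (f.fiberι (f.base x)).base ⁻¹' closure ({ξ} : Set X) := by
    change (f.fiberι (f.base x)).base (f.asFiber x) ∈ closure ({ξ} : Set X)
    rw [f.fiberι_asFiber]; exact hξx.mem_closure
  have hco₀ : coheight (⟨f.asFiber x, hx₀⟩ :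
      ↥((f.fiberι (f.base x)).base ⁻¹' closure ({ξ} : Set X))) = (nF : ℕ∞) := by
    have hmem : (f.fiberι (f.base x)).base (f.asFiber x) ∈
        closure ({ξ} : Set X) ∩ f.base ⁻¹' {f.base x} := by
      rw [← hjrange]; exact ⟨⟨f.asFiber x, hx₀⟩, rfl⟩
    have hle : ∀ a b : ↥((f.fiberι (f.base x)).base ⁻¹' closure ({ξ} : Set X)),
        (f.fiberι (f.base x)).base a.1 ≤ (f.fiberι (f.base x)).base b.1 ↔ a ≤ b := by
      intro a b
      rw [le_iff_of_isEmbedding _ (f.fiberι (f.base x)).isEmbedding]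
      exact Iff.rfl
    rw [coheight_eq_coheight_subtype _ hle _ hjrange ⟨f.asFiber x, hx₀⟩ hmem, ← r4, ← hcn]
    exact coheight_subtype_congr' rfl (f.fiberι_asFiber x) _ _
  obtain ⟨z₀, hz₀S, hz₀x, hz₀c⟩ := exists_mem_coheight_closure_ge (f.fiber (f.base x)) _
    (f.asFiber x) hx₀ nF hco₀
  have hz₀c' : coheight (⟨f.asFiber x, hz₀x.mem_closure⟩ :
      ↥(closure ({z₀} : Set ↥(f.fiber (f.base x))))) = (nF : ℕ∞) := by
    apply le_antisymm _ hz₀c
    rw [← hcF]; exact coheight_subtype_le _ _ _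
  have hmax₀ : IsMax z₀ := by
    by_contra hnm
    rw [not_isMax_iff] at hnm
    obtain ⟨w₀, hw₀⟩ := hnm
    have h1 := coheight_add_one_le_of_strictMono_of_lt
      (Subtype.val : ↥(closure ({z₀} : Set ↥(f.fiber (f.base x)))) → ↥(f.fiber (f.base x)))
      (fun _ _ h => h) w₀ (fun a => lt_of_le_of_lt
        (show a.1 ≤ z₀ from specializes_iff_mem_closure.mpr a.2) hw₀)
      ⟨f.asFiber x, hz₀x.mem_closure⟩
    rw [hz₀c'] at h1
    change ((nF : ℕ∞) + 1 ≤ coheight (f.asFiber x)) at h1
    rw [hcF] at h1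
    have : nF + 1 ≤ nF := by exact_mod_cast h1
    omega
  have hz : f.base ((f.fiberι (f.base x)).base z₀) = f.base x := map_fiberι f _ z₀
  have hzx : (f.fiberι (f.base x)).base z₀ ⤳ x := by
    have := hz₀x.map (f.fiberι (f.base x)).continuous
    rwa [f.fiberι_asFiber] at this
  have hzξ : (f.fiberι (f.base x)).base z₀ ∈ closure ({ξ} : Set X) := hz₀S
  refine ⟨(f.fiberι (f.base x)).base z₀, hz, hzx, ?_, ?_, ?_⟩
  · intro z' hz' hz'z
    obtain ⟨w₀, rfl⟩ : z' ∈ Set.range (f.fiberι (f.base x)).base := by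
      rw [Scheme.Hom.range_fiberι]; exact hz'
    have h1 : w₀ ⤳ z₀ := (f.fiberι (f.base x)).isEmbedding.isInducing.specializes_iff.mp hz'z
    have h2 : z₀ ⤳ w₀ := hmax₀ (show z₀ ≤ w₀ from h1)
    rw [(h1.antisymm h2).eq]
  · have hA := dim_closure_eq_coheight_add (Y.residueField (f.base x))
      (f.fiberToSpecResidueField (f.base x)) z₀ (f.asFiber x) hz₀x
    rw [hd, hz₀c', dim_irreducibleComponent_eq_localDim (Y.residueField (f.base x))
      (f.fiberToSpecResidueField (f.base x)) _
      (closure_mem_irreducibleComponents_of_isMax _ z₀ hmax₀) z₀ isGenericPoint_closure,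
      localDim_fiber_eq_fibreDimAt f _ z₀] at hA
    rw [hA, he, hK₀']
    push_cast
    rfl
  · have hdimY : ringKrullDim (Y.presheaf.stalk (f.base ((f.fiberι (f.base x)).base z₀))) =
        ringKrullDim (Y.presheaf.stalk (f.base x)) := by rw [hz]
    apply le_antisymm
    · have h1 := Groth.Agent.H49.FibreDim.ringKrullDim_stalk_le_add_fibre f
        ((f.fiberι (f.base x)).base z₀)
      have h2 : ringKrullDim ((f.fiber (f.base ((f.fiberι (f.base x)).base z₀))).presheaf.stalk
          (f.asFiber ((f.fiberι (f.base x)).base z₀))) = 0 := by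
        rw [ringKrullDim_stalk_asFiber_eq f (f.base x) _ hz z₀ rfl, ringKrullDim_stalk_eq_coheight,
          coheight_eq_zero.mpr hmax₀]
        rfl
      rw [h2, add_zero] at h1
      exact h1
    · have hyz : f.base ((f.fiberι (f.base x)).base z₀) ∈ closure {f.base ξ} := by
        rw [hz]; exact hy
      have keyz := (coheight_add_localDim_le_and_eq f (closure {ξ}) isClosed_closure ξ
        isGenericPoint_closure _ hzξ hyz).2 (by rw [hz]; exact hcat)
      rw [hg] at keyz
      have hbz : coheight (⟨f.base ((f.fiberι (f.base x)).base z₀), hyz⟩ :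
          ↥(closure {f.base ξ})) = (nY : ℕ∞) := by
        rw [← r1, ← hbn]
        exact coheight_subtype_congr' rfl hz _ _
      rw [hbz] at keyz
      -- the local dimension at `z`
      have hℓz : FlatMor.localDim ↥(closure ({ξ} : Set X) ∩ f.base ⁻¹'
          {f.base ((f.fiberι (f.base x)).base z₀)}) ⟨_, hzξ, rfl⟩ = (e : WithBot ℕ∞) := by
        apply le_antisymm
        · have h1 : FlatMor.localDim ↥(closure ({ξ} : Set X) ∩ f.base ⁻¹'
              {f.base ((f.fiberι (f.base x)).base z₀)}) ⟨_, hzξ, rfl⟩ =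
              FlatMor.localDim ↥(closure ({ξ} : Set X) ∩ f.base ⁻¹' {f.base x})
                ⟨(f.fiberι (f.base x)).base z₀, hzξ, hz⟩ :=
            localDim_subtype_congr (by rw [hz]) _ _ _
          rw [h1, ← r2, ← hl]
          apply localDim_le_of_specializes
          exact (subtype_specializes_iff _ _).mpr hzx
        · have := dim_generic_le_localDim f (closure {ξ}) isClosed_closure ξ
            isGenericPoint_closure _ hzξ
          rw [hg, r3] at this
          exact this
      rw [hℓz, r3] at keyz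
      have h3 : (coheight (⟨(f.fiberι (f.base x)).base z₀, hzξ⟩ : ↥(closure ({ξ} : Set X))) :
          WithBot ℕ∞) = ((nY : ℕ∞) : WithBot ℕ∞) + (coheight (⟨_, hzξ, rfl⟩ :
            ↥(closure ({ξ} : Set X) ∩ f.base ⁻¹' {f.base ((f.fiberι (f.base x)).base z₀)})) :
              WithBot ℕ∞) := eq_of_add_natCast_eq_add_natCast keyz
      rw [hdimY, hnY, ringKrullDim_stalk_eq_coheight]
      have h4 := coheight_subtype_le (closure ({ξ} : Set X)) ((f.fiberι (f.base x)).base z₀) hzξ
      have h5 : ((nY : ℕ∞) : WithBot ℕ∞) ≤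
          (coheight (⟨(f.fiberι (f.base x)).base z₀, hzξ⟩ : ↥(closure ({ξ} : Set X))) :
            WithBot ℕ∞) := by
        rw [h3]
        exact le_add_of_nonneg_right (by exact_mod_cast bot_le (a := (coheight _ : ℕ∞)))
      exact h5.trans (by exact_mod_cast h4)

end Groth.Agent.H17.Chev
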