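import Groth.Agent.H17.Chev.OpenAt2

set_option autoImplicit false
set_option linter.unusedSectionVars false
set_option linter.style.haveILetI false
universe u
open CategoryTheory CategoryTheory.Limits AlgebraicGeometry Topology Order TopologicalSpace

namespace Groth.Agent.H17.Chev

theorem isIrreducible_preimage_of_isEmbedding {A B : Type*} [TopologicalSpace A]
    [TopologicalSpace B] (g : A → B) (hg : IsEmbedding g) (Z : Set B) (hZ : IsIrreducible Z)
    (hsub : Z ⊆ Set.range g) : IsIrreducible (g ⁻¹' Z) := by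
  constructor
  · obtain ⟨z, hz⟩ := hZ.nonempty
    obtain ⟨a, rfl⟩ := hsub hz
    exact ⟨a, hz⟩
  · intro u v hu hv ⟨a, haZ, hau⟩ ⟨b, hbZ, hbv⟩
    obtain ⟨u', hu', rfl⟩ := hg.isInducing.isOpen_iff.mp hu
    obtain ⟨v', hv', rfl⟩ := hg.isInducing.isOpen_iff.mp hv
    obtain ⟨z, hzZ, hzu, hzv⟩ := hZ.isPreirreducible u' v' hu' hv' ⟨g a, haZ, hau⟩ ⟨g b, hbZ, hbv⟩
    obtain ⟨c, rfl⟩ := hsub hzZ
    exact ⟨c, hzZ, hzu, hzv⟩

/-- A maximal irreducible subset of a set-theoretic fibre corresponds to an irreducible component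
of the scheme-theoretic fibre. -/
theorem preimage_fiberι_mem_irreducibleComponents {X Y : Scheme.{u}} (f : X ⟶ Y) (y : Y)
    (Z : Set X) (hZy : Z ⊆ f.base ⁻¹' {y}) (hZ : IsIrreducible Z)
    (hZmax : ∀ Z' : Set X, IsIrreducible Z' → Z' ⊆ f.base ⁻¹' {y} → Z ⊆ Z' → Z' = Z) :
    (f.fiberι y).base ⁻¹' Z ∈ irreducibleComponents ↥(f.fiber y) ∧
      (f.fiberι y).base '' ((f.fiberι y).base ⁻¹' Z) = Z := by
  have hrange : Z ⊆ Set.range (f.fiberι y).base := by
    rw [Scheme.Hom.range_fiberι]; exact hZy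
  have himg : (f.fiberι y).base '' ((f.fiberι y).base ⁻¹' Z) = Z :=
    Set.image_preimage_eq_of_subset hrange
  refine ⟨⟨isIrreducible_preimage_of_isEmbedding _ (f.fiberι y).isEmbedding Z hZ hrange,
    fun T hT hZT => ?_⟩, himg⟩
  have h1 : IsIrreducible ((f.fiberι y).base '' T) :=
    hT.image _ (f.fiberι y).continuous.continuousOn
  have h2 : (f.fiberι y).base '' T ⊆ f.base ⁻¹' {y} := by
    rintro _ ⟨t, -, rfl⟩
    exact map_fiberι f y t
  have h3 : Z ⊆ (f.fiberι y).base '' T := by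
    rw [← himg]; exact Set.image_mono hZT
  have h4 := hZmax _ h1 h2 h3
  intro t ht
  change (f.fiberι y).base t ∈ Z
  rw [← h4]
  exact ⟨t, ht, rfl⟩

/-- EGA IV 14.2.2. -/
theorem exists_component_of_isOpenAt {X Y : Scheme.{u}} [IrreducibleSpace Y]
    [IsLocallyNoetherian Y] (f : X ⟶ Y) [LocallyOfFiniteType f] (y : Y) (Z : Set X)
    (hZy : Z ⊆ f.base ⁻¹' {y}) (hZ : IsIrreducible Z)
    (hZmax : ∀ Z' : Set X, IsIrreducible Z' → Z' ⊆ f.base ⁻¹' {y} → Z ⊆ Z' → Z' = Z)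
    (hopen : ∀ ζ ∈ Z, Z ⊆ closure {ζ} → EGA43.IsOpenAt f.base ζ) :
    ∃ X' ∈ irreducibleComponents (X : Type u), Z ⊆ X' ∧ Dense (f.base '' X') ∧
      (∀ ζ ∈ Z, Z ⊆ closure {ζ} → ∀ hζ : ζ ∈ X' ∩ f.base ⁻¹' {y},
        FlatMor.localDim ↥(X' ∩ f.base ⁻¹' {y}) ⟨ζ, hζ⟩ = topologicalKrullDim ↥Z) ∧
      topologicalKrullDim ↥Z = topologicalKrullDim ↥(X' ∩ f.base ⁻¹' {genericPoint Y}) := by
  obtain ⟨hZ₀, himg⟩ := preimage_fiberι_mem_irreducibleComponents f y Z hZy hZ hZmax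
  set Z₀ := (f.fiberι y).base ⁻¹' Z with hZ₀def
  have hZ₀c : IsClosed Z₀ := isClosed_of_mem_irreducibleComponents Z₀ hZ₀
  have hw := hZ₀.1.isGenericPoint_genericPoint hZ₀c
  set w := hZ₀.1.genericPoint
  set ζ := (f.fiberι y).base w with hζdef
  have hζZ : ζ ∈ Z := hw.mem
  have hfζ : f.base ζ = y := map_fiberι f y w
  have hZcl : Z ⊆ closure {ζ} := by
    rw [← himg, ← hw.def]
    refine (image_closure_subset_closure_image (f.fiberι y).continuous).trans ?_
    rw [Set.image_singleton]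
  have hlft : LocallyOfFiniteType (f.fiberToSpecResidueField y) :=
    inferInstanceAs (LocallyOfFiniteType (pullback.snd f (Y.fromSpecResidueField y)))
  -- the dimension of `Z`
  have hdimZ : topologicalKrullDim ↥Z = FlatMor.fibreDimAt f ζ := by
    rw [← localDim_fiber_eq_fibreDimAt f y w,
      ← dim_irreducibleComponent_eq_localDim (Y.residueField y) (f.fiberToSpecResidueField y)
        Z₀ hZ₀ w hw]
    refine (topologicalKrullDim_eq_of_isEmbedding
      (fun t : ↥Z₀ => (f.fiberι y).base t.1)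
      ((f.fiberι y).isEmbedding.comp IsEmbedding.subtypeVal) Z ?_).symm
    rw [← himg]
    ext t
    simp only [Set.mem_range, Subtype.exists, exists_prop, Set.mem_image]
  -- `ζ` is maximal in its fibre
  have hmaxw : IsMax w := isMax_of_isGenericPoint_irreducibleComponent _ Z₀ hZ₀ w hw
  have hz0 : ringKrullDim ((f.fiber (f.base ζ)).presheaf.stalk (f.asFiber ζ)) = 0 := by
    rw [ringKrullDim_stalk_asFiber_eq f y ζ hfζ w rfl, ringKrullDim_stalk_eq_coheight,
      coheight_eq_zero.mpr hmaxw]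
    rfl
  have hstalk := stalk_dim_eq_of_isOpenAt f ζ hz0 (hopen ζ hζZ hZcl)
  obtain ⟨ξ, hξmax, hsp, hη, hdim⟩ := exists_component_of_stalk_dim_eq f ζ hz0 hstalk
  have hζX' : ζ ∈ closure ({ξ} : Set X) := hsp.mem_closure
  refine ⟨closure {ξ}, closure_mem_irreducibleComponents_of_isMax X ξ hξmax,
    hZcl.trans hsp.closure_subset, ?_, ?_, ?_⟩
  · have h1 : closure ({genericPoint Y} : Set Y) ⊆ closure (f.base '' closure {ξ}) := by
      apply closure_mono
      rw [Set.singleton_subset_iff, ← hη]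
      exact ⟨ξ, subset_closure rfl, rfl⟩
    rw [(genericPoint_spec Y).def] at h1
    exact dense_iff_closure_eq.mpr (Set.univ_subset_iff.mp h1)
  · intro ζ' hζ'Z hZcl' hζ'
    have hζζ' : ζ' = ζ := by
      have h1 : ζ ⤳ ζ' := specializes_iff_mem_closure.mpr (hZcl hζ'Z)
      have h2 : ζ' ⤳ ζ := specializes_iff_mem_closure.mpr (hZcl' hζZ)
      exact (h2.antisymm h1).eq
    subst hζζ'
    rw [hdimZ, ← localDim_inter_fibre_eq_fibreDimAt f ζ hz0 _ isClosed_closure hζX']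
    exact localDim_subtype_congr (by rw [hfζ]) _ _ _
  · rw [hdimZ, hdim]

end Groth.Agent.H17.Chev
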