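import Groth.Agent.H17.Chev.LocMax
import Groth.Agent.H17.Chev.OpenAt3

set_option autoImplicit false
set_option linter.unusedSectionVars false
set_option linter.style.haveILetI false
universe u
open CategoryTheory CategoryTheory.Limits AlgebraicGeometry Topology Order TopologicalSpace

namespace Groth.Agent.H17.Chev

/-- per-component version of EGA IV 14.2.2 in terms of the scheme-theoretic fibre -/
theorem exists_isMax_dim_eq_of_isOpenAt {X Y : Scheme.{u}} [IrreducibleSpace Y]
    [IsLocallyNoetherian Y] (f : X ⟶ Y) [LocallyOfFiniteType f] (y : Y)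
    (Z : Set ↥(f.fiber y)) (hZ : Z ∈ irreducibleComponents ↥(f.fiber y)) (w : ↥(f.fiber y))
    (hw : IsGenericPoint w Z) (hopen : EGA43.IsOpenAt f.base ((f.fiberι y).base w)) :
    ∃ ξ : X, IsMax ξ ∧ ξ ⤳ (f.fiberι y).base w ∧ f.base ξ = genericPoint Y ∧
      topologicalKrullDim ↥(closure {ξ} ∩ f.base ⁻¹' {genericPoint Y}) =
        topologicalKrullDim ↥Z := by
  have hlft : LocallyOfFiniteType (f.fiberToSpecResidueField y) :=
    inferInstanceAs (LocallyOfFiniteType (pullback.snd f (Y.fromSpecResidueField y)))
  have hmaxw : IsMax w := isMax_of_isGenericPoint_irreducibleComponent _ Z hZ w hw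
  set z := (f.fiberι y).base w with hzdef
  have hfz : f.base z = y := map_fiberι f y w
  have hz0 : ringKrullDim ((f.fiber (f.base z)).presheaf.stalk (f.asFiber z)) = 0 := by
    rw [ringKrullDim_stalk_asFiber_eq f y z hfz w rfl, ringKrullDim_stalk_eq_coheight,
      coheight_eq_zero.mpr hmaxw]
    rfl
  have hstalk := stalk_dim_eq_of_isOpenAt f z hz0 hopen
  obtain ⟨ξ, hξmax, hsp, hη, hdim⟩ := exists_component_of_stalk_dim_eq f z hz0 hstalk
  refine ⟨ξ, hξmax, hsp, hη, ?_⟩
  rw [hdim, ← localDim_fiber_eq_fibreDimAt f y w]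
  exact (dim_irreducibleComponent_eq_localDim (Y.residueField y) (f.fiberToSpecResidueField y)
    Z hZ w hw).symm

theorem irreducibleSpace_of_isDominant {X Y : Scheme.{u}} [IrreducibleSpace X] (f : X ⟶ Y)
    [IsDominant f] : IrreducibleSpace Y := by
  have h1 : closure ({f.base (genericPoint X)} : Set Y) = Set.univ := by
    rw [← closure_image_eq_of_isGenericPoint f.base f.continuous Set.univ _ (genericPoint_spec X),
      Set.image_univ]
    exact f.denseRange.closure_range
  rw [irreducibleSpace_def]
  change IsIrreducible Set.univ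
  rw [← h1]
  exact isIrreducible_singleton.closure

/-- If `f` is open at the generic points of the components of the fibre through `x`
(`X` irreducible, `f` dominant), the local fibre dimension at `x` is the generic one. -/
theorem fibreDimAt_le_of_isOpenAt {X Y : Scheme.{u}} [IsLocallyNoetherian Y]
    [IrreducibleSpace X] [IrreducibleSpace Y] (f : X ⟶ Y) [LocallyOfFiniteType f] [IsDominant f]
    (x : X)
    (h : ∀ z : ↥(f.fiber (f.base x)), f.asFiber x ∈ closure {z} →
      (∀ z' : ↥(f.fiber (f.base x)), z ∈ closure {z'} → z' = z) →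
      EGA43.IsOpenAt f.base ((f.fiberι (f.base x)).base z)) :
    FlatMor.fibreDimAt f x ≤ topologicalKrullDim ↥(f.fiber (genericPoint Y)) := by
  have hlft : LocallyOfFiniteType (f.fiberToSpecResidueField (f.base x)) :=
    inferInstanceAs (LocallyOfFiniteType (pullback.snd f (Y.fromSpecResidueField (f.base x))))
  have : IsLocallyNoetherian (f.fiber (f.base x)) :=
    LocallyOfFiniteType.isLocallyNoetherian (f.fiberToSpecResidueField (f.base x))
  unfold FlatMor.fibreDimAt
  apply localDim_le_of_forall_irreducibleComponents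
  intro Z hZ hxZ
  have hZc : IsClosed Z := isClosed_of_mem_irreducibleComponents Z hZ
  have hw := hZ.1.isGenericPoint_genericPoint hZc
  set w := hZ.1.genericPoint
  have hmaxw : IsMax w := isMax_of_isGenericPoint_irreducibleComponent _ Z hZ w hw
  have hopen := h w (by rw [hw.def]; exact hxZ) (by
    intro z' hz'
    have h2 : z' ⤳ w := specializes_iff_mem_closure.mpr hz'
    have h3 : w ⤳ z' := hmaxw (show w ≤ z' from h2)
    exact (h2.antisymm h3).eq)
  obtain ⟨ξ, hξmax, -, -, hdim⟩ := exists_isMax_dim_eq_of_isOpenAt f (f.base x) Z hZ w hw hopen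
  rw [← hdim]
  have hξ : ξ = genericPoint X :=
    ((genericPoint_specializes ξ).antisymm (hξmax (show ξ ≤ genericPoint X from
      genericPoint_specializes ξ))).eq.symm
  rw [hξ, (genericPoint_spec X).def, dim_univ_inter_eq_dim_fiber]

end Groth.Agent.H17.Chev
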