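import Groth.Agent.H17.Chev.Equidim9

set_option autoImplicit false
set_option linter.unusedSectionVars false
set_option linter.style.haveILetI false
universe u
open CategoryTheory CategoryTheory.Limits AlgebraicGeometry Topology Order TopologicalSpace

namespace Groth.Agent.H17.Chev

/-- Lemma K for the fibre through `x`. -/
theorem fibreDimAt_eq_stalk_add {X Y : Scheme.{u}} (f : X ⟶ Y) [LocallyOfFiniteType f] (x : X) :
    FlatMor.fibreDimAt f x =
      ringKrullDim ((f.fiber (f.base x)).presheaf.stalk (f.asFiber x)) +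
        topologicalKrullDim ↥(closure ({f.asFiber x} : Set ↥(f.fiber (f.base x)))) := by
  have hlft : LocallyOfFiniteType (f.fiberToSpecResidueField (f.base x)) :=
    inferInstanceAs (LocallyOfFiniteType (pullback.snd f (Y.fromSpecResidueField (f.base x))))
  rw [ringKrullDim_stalk_eq_coheight]
  exact localDim_eq_coheight_add (Y.residueField (f.base x))
    (f.fiberToSpecResidueField (f.base x)) (f.asFiber x)

theorem exists_nat_eq_dim_closure_asFiber {X Y : Scheme.{u}} (f : X ⟶ Y) [LocallyOfFiniteType f]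
    (x : X) : ∃ d : ℕ,
      topologicalKrullDim ↥(closure ({f.asFiber x} : Set ↥(f.fiber (f.base x)))) = d := by
  have hlft : LocallyOfFiniteType (f.fiberToSpecResidueField (f.base x)) :=
    inferInstanceAs (LocallyOfFiniteType (pullback.snd f (Y.fromSpecResidueField (f.base x))))
  exact ⟨_, Groth.Agent.H48.FieldDim.topologicalKrullDim_closure_eq
    (k := Y.residueField (f.base x)) (f.fiberToSpecResidueField (f.base x)) (f.asFiber x)⟩

/-- Lemma K for a closed subset of the fibre through `x`. -/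
theorem localDim_inter_fibre_eq_coheight_add {X Y : Scheme.{u}} (f : X ⟶ Y)
    [LocallyOfFiniteType f] (S : Set X) (hS : IsClosed S) (x : X) (hx : x ∈ S) :
    FlatMor.localDim ↥(S ∩ f.base ⁻¹' {f.base x}) ⟨x, hx, rfl⟩ =
      (coheight (⟨x, hx, rfl⟩ : ↥(S ∩ f.base ⁻¹' {f.base x})) : WithBot ℕ∞) +
        topologicalKrullDim ↥(closure ({f.asFiber x} : Set ↥(f.fiber (f.base x)))) := by
  have hlft : LocallyOfFiniteType (f.fiberToSpecResidueField (f.base x)) :=
    inferInstanceAs (LocallyOfFiniteType (pullback.snd f (Y.fromSpecResidueField (f.base x))))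
  have hS₀c : IsClosed ((f.fiberι (f.base x)).base ⁻¹' S) := hS.preimage (f.fiberι _).continuous
  obtain ⟨S₁, i, hi, hr⟩ := exists_closedImmersion_range (f.fiber (f.base x)) _ hS₀c
  have hx₀ : f.asFiber x ∈ (f.fiberι (f.base x)).base ⁻¹' S := by
    change (f.fiberι (f.base x)).base (f.asFiber x) ∈ S
    rw [f.fiberι_asFiber]; exact hx
  obtain ⟨x₁, hx₁⟩ : f.asFiber x ∈ Set.range i.base := hr ▸ hx₀
  have hlft₁ : LocallyOfFiniteType (i ≫ f.fiberToSpecResidueField (f.base x)) := inferInstance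
  have hjx : (f.fiberι (f.base x)).base (i.base x₁) = x := by rw [hx₁, f.fiberι_asFiber]
  have hjemb : IsEmbedding (fun t : S₁ => (f.fiberι (f.base x)).base (i.base t)) :=
    (f.fiberι (f.base x)).isEmbedding.comp i.isEmbedding
  have hjrange : Set.range (fun t : S₁ => (f.fiberι (f.base x)).base (i.base t)) =
      S ∩ f.base ⁻¹' {f.base x} := by
    ext a
    constructor
    · rintro ⟨t, rfl⟩
      refine ⟨?_, map_fiberι f _ _⟩
      have : i.base t ∈ Set.range i.base := ⟨t, rfl⟩
      rw [hr] at this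
      exact this
    · rintro ⟨haS, haf⟩
      have h1 : a ∈ Set.range (f.fiberι (f.base x)).base := by
        rw [Scheme.Hom.range_fiberι]; exact haf
      obtain ⟨w, rfl⟩ := h1
      have h2 : w ∈ Set.range i.base := by rw [hr]; exact haS
      obtain ⟨t, rfl⟩ := h2
      exact ⟨t, rfl⟩
  have hmem : (f.fiberι (f.base x)).base (i.base x₁) ∈ S ∩ f.base ⁻¹' {f.base x} := by
    rw [← hjrange]; exact ⟨x₁, rfl⟩
  have K₁ := localDim_eq_coheight_add (Y.residueField (f.base x))
    (i ≫ f.fiberToSpecResidueField (f.base x)) x₁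
  have e1 : FlatMor.localDim S₁ x₁ =
      FlatMor.localDim ↥(S ∩ f.base ⁻¹' {f.base x}) ⟨x, hx, rfl⟩ := by
    rw [localDim_eq_of_isEmbedding _ hjemb _ hjrange x₁ hmem]
    exact localDim_subtype_congr' rfl hjx _ _
  have e2 : coheight x₁ = coheight (⟨x, hx, rfl⟩ : ↥(S ∩ f.base ⁻¹' {f.base x})) := by
    rw [coheight_eq_coheight_subtype _ (le_iff_of_isEmbedding _ hjemb) _ hjrange x₁ hmem]
    exact coheight_subtype_congr' rfl hjx _ _
  have e3 : topologicalKrullDim ↥(closure ({x₁} : Set S₁)) =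
      topologicalKrullDim ↥(closure ({f.asFiber x} : Set ↥(f.fiber (f.base x)))) := by
    rw [topologicalKrullDim_closure_eq_of_isClosedEmbedding i.base i.isClosedEmbedding x₁, hx₁]
  rw [e1, e2, e3] at K₁
  exact K₁

/-- **EGA IV 13.3.6 (i)**. -/
theorem isEquidimAt_of_isEquidim_stalk_of_dim_formula {X Y : Scheme.{u}} [IsLocallyNoetherian Y]
    (f : X ⟶ Y) [LocallyOfFiniteType f] (x : X)
    (hX : EGA4.IsEquidim (X.presheaf.stalk x))
    (h : ringKrullDim (X.presheaf.stalk x) =
        ringKrullDim (Y.presheaf.stalk (f.base x)) +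
          ringKrullDim ((f.fiber (f.base x)).presheaf.stalk (f.asFiber x))) :
    EGA43.IsEquidimAt f x := by
  have hXN : IsLocallyNoetherian X := LocallyOfFiniteType.isLocallyNoetherian f
  have hlft : LocallyOfFiniteType (f.fiberToSpecResidueField (f.base x)) :=
    inferInstanceAs (LocallyOfFiniteType (pullback.snd f (Y.fromSpecResidueField (f.base x))))
  have hFN : IsLocallyNoetherian (f.fiber (f.base x)) :=
    LocallyOfFiniteType.isLocallyNoetherian (f.fiberToSpecResidueField (f.base x))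
  obtain ⟨e, he⟩ := exists_nat_eq_fibreDimAt f x
  obtain ⟨nY, hnY⟩ := exists_nat_eq_ringKrullDim (Y.presheaf.stalk (f.base x))
  obtain ⟨nF, hnF⟩ := exists_nat_eq_ringKrullDim
    ((f.fiber (f.base x)).presheaf.stalk (f.asFiber x))
  obtain ⟨d, hd⟩ := exists_nat_eq_dim_closure_asFiber f x
  have hK₀ := fibreDimAt_eq_stalk_add f x
  rw [he, hnF, hd] at hK₀
  have hK₀' : e = nF + d := by exact_mod_cast hK₀
  rw [isEquidimAt_iff_irreducibleComponents]
  refine ⟨e, fun Xj hXj hx => ?_⟩
  have hXjc : IsClosed Xj := isClosed_of_mem_irreducibleComponents Xj hXj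
  have hXjirr : IsIrreducible Xj := hXj.1
  obtain ⟨ξ, hξ⟩ : ∃ ξ, IsGenericPoint ξ Xj := ⟨_, hXjirr.isGenericPoint_genericPoint hXjc⟩
  have hmax : IsMax ξ := isMax_of_isGenericPoint_irreducibleComponent X Xj hXj ξ hξ
  have hξx : ξ ⤳ x := hξ.specializes hx
  obtain rfl : Xj = closure {ξ} := hξ.def.symm
  have hcl := closure_image_eq_of_isGenericPoint f.base f.continuous _ ξ hξ
  have hy : f.base x ∈ closure {f.base ξ} := (hξx.map f.continuous).mem_closure
  have key := (coheight_add_localDim_le_and_eq f (closure {ξ}) isClosed_closure ξ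
    isGenericPoint_closure x hξx.mem_closure hy).1
  have hc' := coheight_closure_eq_of_isEquidim X x ξ hξx hmax hX
  rw [h, hnY, hnF] at hc'
  rw [hc'] at key
  have hb : (coheight (⟨f.base x, hy⟩ : ↥(closure {f.base ξ})) : ℕ∞) ≤ (nY : ℕ∞) := by
    have h1 := coheight_subtype_le (closure ({f.base ξ} : Set Y)) (f.base x) hy
    have h2 : (coheight (f.base x) : WithBot ℕ∞) = nY := by
      rw [← ringKrullDim_stalk_eq_coheight]; exact hnY
    have h3 : coheight (f.base x) = (nY : ℕ∞) := by exact_mod_cast h2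
    rw [← h3]; exact h1
  have hc'' : (coheight (⟨x, hξx.mem_closure, rfl⟩ :
      ↥(closure ({ξ} : Set X) ∩ f.base ⁻¹' {f.base x})) : ℕ∞) ≤ (nF : ℕ∞) := by
    have h1 := coheight_subtype_mono
      (Set.inter_subset_inter_left (f.base ⁻¹' {f.base x}) (Set.subset_univ (closure ({ξ} : Set X))))
      x ⟨hξx.mem_closure, rfl⟩
    have h2 := coheight_univ_inter_eq_stalk_fiber f x
    rw [hnF] at h2
    have h3 : coheight (⟨x, Set.mem_univ x, rfl⟩ : ↥(Set.univ ∩ f.base ⁻¹' {f.base x})) =
        (nF : ℕ∞) := by exact_mod_cast h2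
    rw [← h3]; exact h1
  have hchev := dim_generic_le_localDim f (closure {ξ}) isClosed_closure ξ isGenericPoint_closure x
    hξx.mem_closure
  have hℓe : FlatMor.localDim ↥(closure ({ξ} : Set X) ∩ f.base ⁻¹' {f.base x})
      ⟨x, hξx.mem_closure, rfl⟩ ≤ e := by
    rw [← he, ← localDim_univ_inter_eq_fibreDimAt f x]
    exact localDim_subtype_mono (Set.inter_subset_inter_left _ (Set.subset_univ _)) x _
  have hg := dim_closure_inter_generic_eq f ξ hmax
  obtain ⟨gn, hgn⟩ := exists_nat_eq_fibreDimAt f ξ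
  rw [hgn] at hg
  have hK₁ := localDim_inter_fibre_eq_coheight_add f (closure {ξ}) isClosed_closure x
    hξx.mem_closure
  rw [hd] at hK₁
  obtain ⟨bn, hbn⟩ := exists_nat_eq_of_le_natCast' _ nY hb
  obtain ⟨cn, hcn⟩ := exists_nat_eq_of_le_natCast' _ nF hc''
  rw [hg] at hchev key
  have hℓ0 : FlatMor.localDim ↥(closure ({ξ} : Set X) ∩ f.base ⁻¹' {f.base x})
      ⟨x, hξx.mem_closure, rfl⟩ ≠ ⊥ := by
    intro h0
    rw [h0, le_bot_iff] at hchev
    exact WithBot.coe_ne_bot hchev
  obtain ⟨l, hl⟩ := exists_nat_eq_of_le_natCast _ e hℓ0 hℓe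
  rw [hl] at key hchev hK₁
  rw [hbn, hcn] at key
  rw [hcn] at hK₁
  rw [hbn] at hb
  rw [hcn] at hc''
  have e1 : nY + nF + l ≤ bn + cn + gn := by exact_mod_cast key
  have e2 : bn ≤ nY := by exact_mod_cast hb
  have e3 : cn ≤ nF := by exact_mod_cast hc''
  have e4 : gn ≤ l := by exact_mod_cast hchev
  have e5 : l = cn + d := by exact_mod_cast hK₁
  have r1 : bn = nY := by omega
  have r2 : l = e := by omega
  have r3 : gn = e := by omega
  refine ⟨?_, ?_, ?_⟩
  · rw [hcl]
    apply closure_mem_irreducibleComponents_of_isMax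
    by_contra hnm
    rw [not_isMax_iff] at hnm
    obtain ⟨ζ, hζ⟩ := hnm
    have h1 := coheight_add_one_le_of_strictMono_of_lt
      (Subtype.val : ↥(closure ({f.base ξ} : Set Y)) → Y)
      (fun _ _ h => h) ζ (fun a => lt_of_le_of_lt
        (show a.1 ≤ f.base ξ from specializes_iff_mem_closure.mpr a.2) hζ)
      ⟨f.base x, hy⟩
    rw [hbn] at h1
    have h2 : (coheight (f.base x) : WithBot ℕ∞) = nY := by
      rw [← ringKrullDim_stalk_eq_coheight]; exact hnY
    have h3 : coheight (f.base x) = (nY : ℕ∞) := by exact_mod_cast h2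
    change ((bn : ℕ∞) + 1 ≤ coheight (f.base x)) at h1
    rw [h3] at h1
    have : bn + 1 ≤ nY := by exact_mod_cast h1
    omega
  · intro η hη
    rw [hcl] at hη
    have : η = f.base ξ := IsGenericPoint.eq hη isGenericPoint_closure
    rw [this, hg, r3]
  · rw [hl, r2]

end Groth.Agent.H17.Chev
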