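import Groth.Agent.H17.Chev.Equidim1
import Groth.Agent.H17.Chev.Main

set_option autoImplicit false
set_option linter.unusedSectionVars false
set_option linter.style.haveILetI false
universe u
open CategoryTheory CategoryTheory.Limits AlgebraicGeometry Topology Order TopologicalSpace

namespace Groth.Agent.H17.Chev

/-- For `X` irreducible and `f` dominant: if the local fibre dimension at `x` is the generic one
then `f` is equidimensional at `x`. -/
theorem isEquidimAt_of_fibreDimAt_le {X Y : Scheme.{u}}
    [IrreducibleSpace X] [IrreducibleSpace Y] (f : X ⟶ Y) [LocallyOfFiniteType f] [IsDominant f]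
    (x : X) (e : ℕ) (he : topologicalKrullDim ↥(f.fiber (genericPoint Y)) = e)
    (hx : FlatMor.fibreDimAt f x ≤ e) : EGA43.IsEquidimAt f x := by
  let U : X.Opens := ⟨{x' | FlatMor.fibreDimAt f x' ≤ e}, isOpen_setOf_fibreDimAt_le f e⟩
  have hxU : x ∈ U := hx
  haveI : Nonempty ↥U := ⟨⟨x, hxU⟩⟩
  haveI hUirr : IrreducibleSpace ↥U := U.isOpen.isOpenEmbedding_subtypeVal.irreducibleSpace
  have hξU : genericPoint X ∈ U :=
    ((genericPoint_spec X).mem_open_set_iff U.isOpen).mpr ⟨x, Set.mem_univ x, hxU⟩
  have hη := map_genericPoint_of_isDominant f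
  refine ⟨e, U, hxU, ?_, ?_⟩
  · intro Z hZ
    have hZu : Z = Set.univ := by
      rw [irreducibleComponents_eq_singleton] at hZ
      exact hZ
    refine ⟨Set.univ, by rw [irreducibleComponents_eq_singleton]; rfl, Set.mem_univ _, ?_⟩
    rw [hZu, Set.eq_univ_iff_forall]
    intro y
    have h1 : closure ({genericPoint Y} : Set Y) ⊆ closure ((U.ι ≫ f).base '' Set.univ) := by
      apply closure_mono
      rw [Set.singleton_subset_iff]
      exact ⟨⟨genericPoint X, hξU⟩, Set.mem_univ _, hη⟩
    exact h1 ((genericPoint_spec Y).def ▸ Set.mem_univ y)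
  · have key : ∀ (y' : Y) (Z : Set ↥((U.ι ≫ f).fiber y')),
        Z ∈ irreducibleComponents ↥((U.ι ≫ f).fiber y') → topologicalKrullDim ↥Z = e := by
      intro y' Z hZ
      have hlft : LocallyOfFiniteType ((U.ι ≫ f).fiberToSpecResidueField y') :=
        inferInstanceAs (LocallyOfFiniteType (pullback.snd (U.ι ≫ f) (Y.fromSpecResidueField y')))
      have hZc : IsClosed Z := isClosed_of_mem_irreducibleComponents Z hZ
      have hZirr : IsIrreducible Z := hZ.1
      obtain ⟨w, hw⟩ : ∃ w, IsGenericPoint w Z :=
        ⟨_, hZirr.isGenericPoint_genericPoint hZc⟩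
      have h1 := dim_irreducibleComponent_eq_localDim (Y.residueField y')
        ((U.ι ≫ f).fiberToSpecResidueField y') Z hZ w hw
      have h2 := localDim_fiber_eq_fibreDimAt (U.ι ≫ f) y' w
      have h3 := fibreDimAt_ι_comp f U (((U.ι ≫ f).fiberι y').base w)
      rw [h1, h2, h3]
      apply le_antisymm
      · exact ((((U.ι ≫ f).fiberι y').base w)).2
      · rw [← he]
        exact dim_genericFiber_le_fibreDimAt f _
    exact fun x' Z hZ => key _ Z hZ

end Groth.Agent.H17.Chev
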