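import Groth.Agent.H17.Chev.CatAdd
import Groth.Agent.H48.FieldDim

set_option autoImplicit false
set_option linter.unusedSectionVars false
set_option linter.style.haveILetI false
universe u
open CategoryTheory CategoryTheory.Limits AlgebraicGeometry Topology Order TopologicalSpace

namespace Groth.Agent.H17.Chev

open Groth.Agent.H62

attribute [local instance] specializationOrder

/-- For a scheme locally of finite type over a field: `dim closure{t} = codim + dim closure{w}`
for `t ⤳ w`. -/
theorem dim_closure_eq_coheight_add (k : Type u) [Field k] {F : Scheme.{u}}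
    (φ : F ⟶ Spec (.of k)) [LocallyOfFiniteType φ] (t w : F) (h : t ⤳ w) :
    topologicalKrullDim ↥(closure ({t} : Set F)) =
      (coheight (⟨w, h.mem_closure⟩ : ↥(closure ({t} : Set F))) : WithBot ℕ∞) +
        topologicalKrullDim ↥(closure ({w} : Set F)) := by
  have hδ := Groth.Agent.H48.FieldDim.isDimFun φ
  set δ := Groth.Agent.H48.FieldDim.δ φ with hδdef
  have hlt : ∀ a b : F, a < b → (-δ b) < (-δ a) := by
    intro a b hab
    have h1 : b ⤳ a := hab.le
    have h2 : b ≠ a := fun h => (ne_of_lt hab) h.symm
    have := (hδ b a h1 h2).1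
    omega
  have hcov : ∀ a b : F, a ⋖ b → (-δ a) = (-δ b) + 1 := by
    intro a b hab
    have h1 : b ⤳ a := hab.lt.le
    have h2 : b ≠ a := fun h => (ne_of_lt hab.lt) h.symm
    have h3 := (hδ b a h1 h2).2 ?_
    · omega
    · intro z hz1 hz2
      have hz1' : z ≤ b := hz1
      have hz2' : a ≤ z := hz2
      by_contra hne
      rw [not_or] at hne
      exact hab.2 (lt_of_le_of_ne hz2' (fun h => hne.2 h.symm)) (lt_of_le_of_ne hz1' hne.1)
  have hwt : w ≤ t := h
  rw [coheight_closure_eq_cod F w t h,
    Groth.Agent.H48.DimFun.cod_eq_of_dimFun (fun a => -δ a) hlt hcov hwt,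
    Groth.Agent.H48.FieldDim.topologicalKrullDim_closure_eq φ t,
    Groth.Agent.H48.FieldDim.topologicalKrullDim_closure_eq φ w]
  have h1 : 0 ≤ δ w := Groth.Agent.H48.FieldDim.delta_nonneg φ w
  have h2 : δ w ≤ δ t := by
    rcases eq_or_ne t w with heq | hne
    · rw [heq]; exact Int.le_refl _
    · have := (hδ t w h hne).1
      omega
  have h3 : (δ t).toNat = (-δ w - -δ t).toNat + (δ w).toNat := by omega
  rw [h3]
  push_cast
  rfl

end Groth.Agent.H17.Chev
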