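import Groth.Agent.H17.Chev.Equidim2
import Groth.Agent.H17.Chev.FieldCod
import Groth.Agent.H17.Chev.RedSubChev
import Groth.Agent.H17.Chev.FibComp

set_option autoImplicit false
set_option linter.unusedSectionVars false
set_option linter.style.haveILetI false
universe u
open CategoryTheory CategoryTheory.Limits AlgebraicGeometry Topology Order TopologicalSpace

namespace Groth.Agent.H17.Chev

/-- A usable form of equidimensionality at a point. -/
theorem exists_opens_of_isEquidimAt {X Y : Scheme.{u}} (f : X ⟶ Y) [LocallyOfFiniteType f] (x : X)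
    (h : EGA43.IsEquidimAt f x) :
    ∃ (e : ℕ) (U : X.Opens), x ∈ U ∧
      (∀ ξ : X, ξ ∈ U → IsMax ξ → closure {f.base ξ} ∈ irreducibleComponents (Y : Type u)) ∧
      (∀ u : X, u ∈ U → FlatMor.fibreDimAt f u = e) := by
  obtain ⟨e, U, hxU, hcomp, hfib⟩ := h
  refine ⟨e, U, hxU, ?_, ?_⟩
  · intro ξ hξU hmax
    let ξ' : ↥(U : Scheme.{u}) := ⟨ξ, hξU⟩
    have hmax' : IsMax ξ' := by
      intro b hb
      have h1 : b ⤳ ξ' := hb
      have h2 : b.1 ⤳ ξ := (subtype_specializes_iff b ξ').mp h1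
      have h3 : ξ ⤳ b.1 := hmax (show ξ ≤ b.1 from h2)
      exact (show ξ' ⤳ b from (subtype_specializes_iff ξ' b).mpr h3)
    have hZ := closure_mem_irreducibleComponents_of_isMax (↑U) ξ' hmax'
    obtain ⟨W, hW, -, hcl⟩ := hcomp _ hZ
    rw [closure_image_eq_of_isGenericPoint (U.ι ≫ f).base (U.ι ≫ f).continuous _ ξ'
      isGenericPoint_closure] at hcl
    have : (U.ι ≫ f).base ξ' = f.base ξ := rfl
    rw [this] at hcl
    rw [hcl]
    exact hW
  · intro u hu
    let u' : ↥U := ⟨u, hu⟩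
    have hu' := fibreDimAt_ι_comp f U u'
    rw [← hu']
    have hlft : LocallyOfFiniteType ((U.ι ≫ f).fiberToSpecResidueField ((U.ι ≫ f).base u')) :=
      inferInstanceAs (LocallyOfFiniteType (pullback.snd (U.ι ≫ f)
        (Y.fromSpecResidueField ((U.ι ≫ f).base u'))))
    have hFN : IsLocallyNoetherian ((U.ι ≫ f).fiber ((U.ι ≫ f).base u')) :=
      LocallyOfFiniteType.isLocallyNoetherian
        ((U.ι ≫ f).fiberToSpecResidueField ((U.ι ≫ f).base u'))
    apply le_antisymm
    · exact localDim_le_of_forall_irreducibleComponents _ _ _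
        (fun Z hZ _ => (hfib u' Z hZ).le)
    · obtain ⟨Z, hZ, hmem⟩ := exists_mem_irreducibleComponents_subset_of_isIrreducible
        ({(U.ι ≫ f).asFiber u'} : Set ↥((U.ι ≫ f).fiber ((U.ι ≫ f).base u')))
        isIrreducible_singleton
      have hZc : IsClosed Z := isClosed_of_mem_irreducibleComponents Z hZ
      have hZirr : IsIrreducible Z := hZ.1
      obtain ⟨w, hw⟩ : ∃ w, IsGenericPoint w Z := ⟨_, hZirr.isGenericPoint_genericPoint hZc⟩
      have h1 := dim_irreducibleComponent_eq_localDim (Y.residueField ((U.ι ≫ f).base u'))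
        ((U.ι ≫ f).fiberToSpecResidueField ((U.ι ≫ f).base u')) Z hZ w hw
      have h2 := localDim_fiber_eq_fibreDimAt (U.ι ≫ f) ((U.ι ≫ f).base u') w
      rw [← hfib u' Z hZ, h1, h2]
      obtain ⟨m, hm⟩ := exists_nat_eq_fibreDimAt (U.ι ≫ f) u'
      rw [hm]
      have hopen := isOpen_setOf_fibreDimAt_le (U.ι ≫ f) m
      have hsp : w ⤳ (U.ι ≫ f).asFiber u' := hw.specializes (hmem rfl)
      have hsp' := hsp.map ((U.ι ≫ f).fiberι ((U.ι ≫ f).base u')).continuous
      rw [(U.ι ≫ f).fiberι_asFiber u'] at hsp'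
      exact hsp'.mem_open hopen (show FlatMor.fibreDimAt (U.ι ≫ f) u' ≤ m from hm.le)

end Groth.Agent.H17.Chev
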