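import Groth.Agent.H17.Chev.Equidim3

set_option autoImplicit false
set_option linter.unusedSectionVars false
set_option linter.style.haveILetI false
universe u
open CategoryTheory CategoryTheory.Limits AlgebraicGeometry Topology Order TopologicalSpace

namespace Groth.Agent.H17.Chev

theorem exists_nat_eq_of_le_natCast (a : WithBot ℕ∞) (m : ℕ) (h0 : a ≠ ⊥) (h : a ≤ m) :
    ∃ k : ℕ, a = k := by
  induction a with
  | bot => exact absurd rfl h0
  | coe a =>
    induction a with
    | top =>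
      exfalso
      have : ((⊤ : ℕ∞) : WithBot ℕ∞) ≤ ((m : ℕ∞) : WithBot ℕ∞) := h
      rw [WithBot.coe_le_coe] at this
      simp at this
    | coe a => exact ⟨a, rfl⟩

theorem exists_nat_eq_of_le_natCast' (a : ℕ∞) (m : ℕ) (h : a ≤ m) :
    ∃ k : ℕ, a = k := by
  induction a with
  | top => simp at h
  | coe a => exact ⟨a, rfl⟩

/-- The numerical part of EGA IV 13.3.x. -/
theorem equidim_closed_irreducible_main {X Y : Scheme.{u}} [IrreducibleSpace Y]
    [IsLocallyNoetherian Y] (f : X ⟶ Y) [LocallyOfFiniteType f] (x : X)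
    (hf : EGA43.IsEquidimAt f x)
    (X' : Set X) (hc : IsClosed X') (x' : X) (hx' : IsGenericPoint x' X') (hx : x ∈ X') (n : ℕ)
    (hcodim : ringKrullDim (X.presheaf.stalk x') ≤ n)
    (hdim : FlatMor.localDim ↥(X' ∩ f.base ⁻¹' {f.base x}) ⟨x, ⟨hx, rfl⟩⟩ + n ≤
      FlatMor.fibreDimAt f x) :
    ringKrullDim (X.presheaf.stalk x') = n ∧
      FlatMor.localDim ↥(X' ∩ f.base ⁻¹' {f.base x}) ⟨x, ⟨hx, rfl⟩⟩ + n =
        FlatMor.fibreDimAt f x ∧
      f.base x' = genericPoint Y ∧
      topologicalKrullDim ↥(X' ∩ f.base ⁻¹' {f.base x'}) =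
        FlatMor.localDim ↥(X' ∩ f.base ⁻¹' {f.base x}) ⟨x, ⟨hx, rfl⟩⟩ := by
  obtain ⟨e, U, hxU, hmaxU, hfibU⟩ := exists_opens_of_isEquidimAt f x hf
  have hsp : x' ⤳ x := hx'.specializes hx
  have hx'U : x' ∈ U := hsp.mem_open U.isOpen hxU
  rw [hfibU x hxU] at hdim ⊢
  have hlft : LocallyOfFiniteType (f.fiberToSpecResidueField (f.base x')) :=
    inferInstanceAs (LocallyOfFiniteType (pullback.snd f (Y.fromSpecResidueField (f.base x'))))
  have hFN : IsLocallyNoetherian (f.fiber (f.base x')) :=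
    LocallyOfFiniteType.isLocallyNoetherian (f.fiberToSpecResidueField (f.base x'))
  obtain ⟨Z, hZ, hmem⟩ := exists_mem_irreducibleComponents_subset_of_isIrreducible
    ({f.asFiber x'} : Set ↥(f.fiber (f.base x'))) isIrreducible_singleton
  have hZc : IsClosed Z := isClosed_of_mem_irreducibleComponents Z hZ
  have hZirr : IsIrreducible Z := hZ.1
  obtain ⟨t', ht'⟩ : ∃ t', IsGenericPoint t' Z := ⟨_, hZirr.isGenericPoint_genericPoint hZc⟩
  have hsp' : t' ⤳ f.asFiber x' := ht'.specializes (hmem rfl)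
  have htx' : (f.fiberι (f.base x')).base t' ⤳ x' := by
    have := hsp'.map (f.fiberι (f.base x')).continuous
    rwa [f.fiberι_asFiber] at this
  have htU : (f.fiberι (f.base x')).base t' ∈ U := htx'.mem_open U.isOpen hx'U
  have hft : f.base ((f.fiberι (f.base x')).base t') = f.base x' := map_fiberι f _ t'
  -- [A1]
  have hA1 : topologicalKrullDim ↥(closure ({t'} : Set ↥(f.fiber (f.base x')))) = e := by
    have h1 := dim_irreducibleComponent_eq_localDim (Y.residueField (f.base x'))
      (f.fiberToSpecResidueField (f.base x')) Z hZ t' ht'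
    rw [ht'.def, h1, localDim_fiber_eq_fibreDimAt f _ t']
    exact hfibU _ htU
  have hA := dim_closure_eq_coheight_add (Y.residueField (f.base x'))
    (f.fiberToSpecResidueField (f.base x')) t' (f.asFiber x') hsp'
  have hd' : topologicalKrullDim ↥(closure ({f.asFiber x'} : Set ↥(f.fiber (f.base x')))) =
      topologicalKrullDim ↥(X' ∩ f.base ⁻¹' {f.base x'}) := by
    rw [dim_closure_fiber_eq f _ (f.asFiber x'), f.fiberι_asFiber, hx'.def]
  have hchev := dim_generic_le_localDim f X' hc x' hx' x hx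
  have hB1 : coheight (⟨f.asFiber x', hsp'.mem_closure⟩ :
        ↥(closure ({t'} : Set ↥(f.fiber (f.base x'))))) ≤
      coheight (⟨x', htx'.mem_closure⟩ :
        ↥(closure ({(f.fiberι (f.base x')).base t'} : Set X))) := by
    let g : ↥(closure ({t'} : Set ↥(f.fiber (f.base x')))) →
        ↥(closure ({(f.fiberι (f.base x')).base t'} : Set X)) := fun s =>
      ⟨(f.fiberι (f.base x')).base s.1,
        ((specializes_iff_mem_closure.mpr s.2).map (f.fiberι (f.base x')).continuous).mem_closure⟩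
    have hg : StrictMono g := fun a b hab => strictMono_fiberι f _ hab
    have h1 := coheight_le_coheight_apply_of_strictMono g hg ⟨f.asFiber x', hsp'.mem_closure⟩
    have h2 : g ⟨f.asFiber x', hsp'.mem_closure⟩ = ⟨x', htx'.mem_closure⟩ :=
      Subtype.ext (f.fiberι_asFiber x')
    rwa [h2] at h1
  have hB2 := coheight_subtype_le (closure ({(f.fiberι (f.base x')).base t'} : Set X)) x'
    htx'.mem_closure
  rw [ringKrullDim_stalk_eq_coheight] at hcodim ⊢
  rw [hA1, hd'] at hA
  -- numerics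
  have hcn : coheight x' ≤ (n : ℕ∞) := by exact_mod_cast hcodim
  obtain ⟨c, hc⟩ := exists_nat_eq_of_le_natCast' _ n hcn
  obtain ⟨ct, hct⟩ := exists_nat_eq_of_le_natCast' _ n (hB2.trans hcn)
  obtain ⟨cF, hcF⟩ := exists_nat_eq_of_le_natCast' _ n (hB1.trans (hB2.trans hcn))
  set ℓ := FlatMor.localDim ↥(X' ∩ f.base ⁻¹' {f.base x}) ⟨x, ⟨hx, rfl⟩⟩ with hℓ
  set d' := topologicalKrullDim ↥(X' ∩ f.base ⁻¹' {f.base x'}) with hd'def
  have hd'0 : d' ≠ ⊥ := by
    intro h
    rw [h, WithBot.add_bot] at hA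
    exact WithBot.coe_ne_bot hA
  have hℓ0 : ℓ ≠ ⊥ := by
    intro h
    rw [h, le_bot_iff] at hchev
    exact hd'0 hchev
  have hℓe : ℓ ≤ (e : WithBot ℕ∞) := by
    refine le_trans ?_ hdim
    exact le_add_of_nonneg_right (by exact_mod_cast (Nat.zero_le n))
  obtain ⟨l, hl⟩ := exists_nat_eq_of_le_natCast ℓ e hℓ0 hℓe
  obtain ⟨d, hd⟩ := exists_nat_eq_of_le_natCast d' e hd'0 (hchev.trans hℓe)
  rw [hc] at hcn
  rw [hc, hct] at hB2
  rw [hcF, hct] at hB1
  rw [hcF, hd] at hA
  rw [hl, hd] at hchev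
  rw [hl] at hdim
  have e1 : c ≤ n := by exact_mod_cast hcn
  have e2 : ct ≤ c := by exact_mod_cast hB2
  have e3 : cF ≤ ct := by exact_mod_cast hB1
  have e4 : e = cF + d := by exact_mod_cast hA
  have e5 : d ≤ l := by exact_mod_cast hchev
  have e6 : l + n ≤ e := by exact_mod_cast hdim
  have r1 : c = n := by omega
  have r2 : l + n = e := by omega
  have r3 : ct = c := by omega
  have r4 : d = l := by omega
  refine ⟨?_, ?_, ?_, ?_⟩
  · rw [hc, r1]; rfl
  · rw [hl]; exact_mod_cast r2
  · -- `t` is maximal in `X`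
    have hmax : IsMax ((f.fiberι (f.base x')).base t') := by
      by_contra hnm
      rw [not_isMax_iff] at hnm
      obtain ⟨ξ, hξ⟩ := hnm
      have h1 := coheight_add_one_le_of_strictMono_of_lt
        (Subtype.val : ↥(closure ({(f.fiberι (f.base x')).base t'} : Set X)) → X)
        (fun _ _ h => h) ξ (fun a => lt_of_le_of_lt
          (show a.1 ≤ (f.fiberι (f.base x')).base t' from specializes_iff_mem_closure.mpr a.2) hξ)
        ⟨x', htx'.mem_closure⟩
      rw [hct] at h1
      change ((ct : ℕ∞) + 1 ≤ coheight x') at h1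
      rw [hc] at h1
      have : ct + 1 ≤ c := by exact_mod_cast h1
      omega
    have h1 := hmaxU _ htU hmax
    rw [hft, irreducibleComponents_eq_singleton] at h1
    have h2 : closure ({f.base x'} : Set Y) = Set.univ := h1
    exact ((genericPoint_spec Y).eq (show IsGenericPoint (f.base x') Set.univ from h2)).symm
  · rw [hl, hd, r4]

end Groth.Agent.H17.Chev
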