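import Groth.Agent.H17.Chev.MinPrime
import Groth.Agent.H17.Chev.IrrForm
import Groth.Agent.H17.Chev.Comp
import Groth.Agent.H17.Chev.FibGen

set_option autoImplicit false
set_option linter.unusedSectionVars false
set_option linter.style.haveILetI false
universe u
open CategoryTheory CategoryTheory.Limits AlgebraicGeometry Topology Order TopologicalSpace

namespace Groth.Agent.H17.Chev

theorem localDim_subtype_mono {B : Type*} [TopologicalSpace B] {S S' : Set B} (h : S ⊆ S') (b : B)
    (hb : b ∈ S) : FlatMor.localDim ↥S ⟨b, hb⟩ ≤ FlatMor.localDim ↥S' ⟨b, h hb⟩ := by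
  unfold FlatMor.localDim
  refine le_iInf fun V' => ?_
  have hcont : Continuous (Set.inclusion h) := continuous_inclusion h
  let V : Opens ↥S := ⟨Set.inclusion h ⁻¹' (V'.1 : Set ↥S'), V'.1.isOpen.preimage hcont⟩
  refine iInf_le_of_le ⟨V, V'.2⟩ ?_
  let g : ↥(V : Set ↥S) → ↥(V'.1 : Set ↥S') := fun t => ⟨Set.inclusion h t.1, t.2⟩
  have hg : IsInducing g := by
    have h1 : IsInducing (fun t : ↥(V : Set ↥S) => (Set.inclusion h t.1)) :=
      (IsEmbedding.inclusion h).isInducing.comp IsInducing.subtypeVal
    exact IsInducing.of_comp (by fun_prop) continuous_subtype_val h1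
  exact hg.topologicalKrullDim_le

/-- Key identity: for `f` equidimensional at `x`, universally catenary equidimensional target
local ring, and a maximal point `ξ ⤳ x`. -/
theorem coheight_closure_eq_of_isEquidimAt {X Y : Scheme.{u}} [IsLocallyNoetherian Y] (f : X ⟶ Y)
    [LocallyOfFiniteType f] (x : X) (hY : EGA4.IsEquidim (Y.presheaf.stalk (f.base x)))
    (hcat : CAlg.IsUniversallyCatenary (Y.presheaf.stalk (f.base x)))
    (e : ℕ) (U : X.Opens) (hxU : x ∈ U)
    (hmaxU : ∀ ξ : X, ξ ∈ U → IsMax ξ → closure {f.base ξ} ∈ irreducibleComponents (Y : Type u))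
    (hfibU : ∀ u : X, u ∈ U → FlatMor.fibreDimAt f u = e)
    (ξ : X) (hmax : IsMax ξ) (hξx : ξ ⤳ x) :
    (coheight (⟨x, hξx.mem_closure⟩ : ↥(closure ({ξ} : Set X))) : WithBot ℕ∞) =
      ringKrullDim (Y.presheaf.stalk (f.base x)) +
        (coheight (⟨x, hξx.mem_closure, rfl⟩ :
          ↥(closure ({ξ} : Set X) ∩ f.base ⁻¹' {f.base x})) : WithBot ℕ∞) := by
  have hξU : ξ ∈ U := hξx.mem_open U.isOpen hxU
  have hy : f.base x ∈ closure {f.base ξ} := (hξx.map f.continuous).mem_closure
  have key := (coheight_add_localDim_le_and_eq f (closure {ξ}) isClosed_closure ξ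
    isGenericPoint_closure x hξx.mem_closure hy).2 hcat
  -- the base term
  have hζmax : IsMax (f.base ξ) :=
    isMax_of_isGenericPoint_irreducibleComponent Y _ (hmaxU ξ hξU hmax) _ isGenericPoint_closure
  have hbase := coheight_closure_eq_of_isEquidim Y (f.base x) (f.base ξ) (hξx.map f.continuous)
    hζmax hY
  rw [hbase] at key
  -- the generic fibre term
  have hlft : LocallyOfFiniteType (f.fiberToSpecResidueField (f.base ξ)) :=
    inferInstanceAs (LocallyOfFiniteType (pullback.snd f (Y.fromSpecResidueField (f.base ξ))))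
  have hgen : topologicalKrullDim ↥(closure ({ξ} : Set X) ∩ f.base ⁻¹' {f.base ξ}) = e := by
    have hmax' : IsMax (f.asFiber ξ) := by
      intro b hb
      have h1 : b ⤳ f.asFiber ξ := hb
      have h2 := h1.map (f.fiberι (f.base ξ)).continuous
      rw [f.fiberι_asFiber] at h2
      have h3 : ξ ⤳ (f.fiberι (f.base ξ)).base b := hmax (show ξ ≤ _ from h2)
      have h4 : (f.fiberι (f.base ξ)).base (f.asFiber ξ) ⤳ (f.fiberι (f.base ξ)).base b := by
        rw [f.fiberι_asFiber ξ]; exact h3
      exact (show f.asFiber ξ ⤳ b from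
        (f.fiberι (f.base ξ)).isEmbedding.isInducing.specializes_iff.mp h4)
    have hZ := closure_mem_irreducibleComponents_of_isMax _ (f.asFiber ξ) hmax'
    have h1 := dim_irreducibleComponent_eq_localDim (Y.residueField (f.base ξ))
      (f.fiberToSpecResidueField (f.base ξ)) _ hZ (f.asFiber ξ) isGenericPoint_closure
    have h2 := dim_closure_fiber_eq f (f.base ξ) (f.asFiber ξ)
    rw [f.fiberι_asFiber] at h2
    rw [← h2, h1]
    exact hfibU ξ hξU
  rw [hgen] at key
  -- the local dimension term
  have hloc : FlatMor.localDim ↥(closure ({ξ} : Set X) ∩ f.base ⁻¹' {f.base x})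
      ⟨x, hξx.mem_closure, rfl⟩ = e := by
    apply le_antisymm
    · rw [← hfibU x hxU, ← localDim_univ_inter_eq_fibreDimAt f x]
      exact localDim_subtype_mono (Set.inter_subset_inter_left _ (Set.subset_univ _)) x _
    · rw [← hgen]
      exact dim_generic_le_localDim f (closure {ξ}) isClosed_closure ξ isGenericPoint_closure x
        hξx.mem_closure
  rw [hloc] at key
  exact eq_of_add_natCast_eq_add_natCast key

/-- variant of `exists_generic_fibre_point` recording `z ⤳ x`. -/
theorem exists_generic_fibre_point' {X Y : Scheme.{u}} (f : X ⟶ Y) [LocallyOfFiniteType f] (x : X) :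
    ∃ z : X, z ⤳ x ∧ f.base z = f.base x ∧
      ringKrullDim ((f.fiber (f.base z)).presheaf.stalk (f.asFiber z)) = 0 ∧
      ringKrullDim (X.presheaf.stalk z) +
        ringKrullDim ((f.fiber (f.base x)).presheaf.stalk (f.asFiber x)) ≤
        ringKrullDim (X.presheaf.stalk x) := by
  have hlft : LocallyOfFiniteType (f.fiberToSpecResidueField (f.base x)) :=
    inferInstanceAs (LocallyOfFiniteType (pullback.snd f (Y.fromSpecResidueField (f.base x))))
  have : IsLocallyNoetherian (f.fiber (f.base x)) :=
    LocallyOfFiniteType.isLocallyNoetherian (f.fiberToSpecResidueField (f.base x))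
  obtain ⟨n, hn⟩ := exists_nat_eq_ringKrullDim ((f.fiber (f.base x)).presheaf.stalk (f.asFiber x))
  have hn' : coheight (f.asFiber x) = n := by
    have := hn
    rw [ringKrullDim_stalk_eq_coheight] at this
    exact_mod_cast this
  obtain ⟨p, hp, hpl⟩ := exists_series_of_coheight_eq_coe _ hn'
  have h1 := coheight_last_add_length_le p
  rw [hp, hn', hpl] at h1
  have h0 : coheight p.last = 0 := by
    cases hc : coheight p.last with
    | top => rw [hc] at h1; simp at h1
    | coe c =>
      rw [hc] at h1
      have : c + n ≤ n := by exact_mod_cast h1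
      have : c = 0 := by omega
      simp [this]
  let z : X := (f.fiberι (f.base x)).base p.last
  have hz : f.base z = f.base x := map_fiberι f _ _
  let q : LTSeries X := p.map (f.fiberι (f.base x)).base (strictMono_fiberι f _)
  have hq1 : q.last = z := by simp [q, z]
  have hq2 : q.head = x := by
    simp only [q, LTSeries.head_map, hp]
    exact f.fiberι_asFiber x
  have hq3 : q.length = n := by simp [q, hpl]
  refine ⟨z, ?_, hz, ?_, ?_⟩
  · have := LTSeries.head_le_last q
    rw [hq1, hq2] at this
    exact this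
  · rw [ringKrullDim_stalk_asFiber_eq f (f.base x) z hz p.last rfl, ringKrullDim_stalk_eq_coheight,
      h0]
    rfl
  · rw [hn, ringKrullDim_stalk_eq_coheight, ringKrullDim_stalk_eq_coheight]
    have h2 := coheight_last_add_length_le q
    rw [hq1, hq2, hq3] at h2
    exact_mod_cast h2

/-- **EGA IV 13.3.6**: the dimension formula for a morphism equidimensional at `x` over an
equidimensional universally catenary local ring. -/
theorem stalk_dim_eq_of_isEquidimAt {X Y : Scheme.{u}} [IsLocallyNoetherian Y] (f : X ⟶ Y)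
    [LocallyOfFiniteType f] (x : X) (hY : EGA4.IsEquidim (Y.presheaf.stalk (f.base x)))
    (hcat : CAlg.IsUniversallyCatenary (Y.presheaf.stalk (f.base x)))
    (h : EGA43.IsEquidimAt f x) :
    ringKrullDim (X.presheaf.stalk x) =
      ringKrullDim (Y.presheaf.stalk (f.base x)) +
        ringKrullDim ((f.fiber (f.base x)).presheaf.stalk (f.asFiber x)) := by
  obtain ⟨e, U, hxU, hmaxU, hfibU⟩ := exists_opens_of_isEquidimAt f x h
  have hXN : IsLocallyNoetherian X := LocallyOfFiniteType.isLocallyNoetherian f
  apply le_antisymm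
  · obtain ⟨n, hn⟩ := exists_nat_eq_ringKrullDim (X.presheaf.stalk x)
    have hn' : coheight x = n := by
      rw [ringKrullDim_stalk_eq_coheight] at hn; exact_mod_cast hn
    obtain ⟨ξ, hmax, hξx, hco⟩ := exists_isMax_coheight_closure_eq X x n hn'
    have key := coheight_closure_eq_of_isEquidimAt f x hY hcat e U hxU hmaxU hfibU ξ hmax hξx
    rw [hco] at key
    rw [hn]
    change ((n : ℕ∞) : WithBot ℕ∞) ≤ _
    rw [key]
    refine add_le_add le_rfl ?_
    rw [← coheight_univ_inter_eq_stalk_fiber f x]
    exact_mod_cast coheight_subtype_mono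
      (Set.inter_subset_inter_left _ (Set.subset_univ (closure ({ξ} : Set X)))) x _
  · obtain ⟨z, hzx, hz, hz0, hzle⟩ := exists_generic_fibre_point' f x
    refine le_trans ?_ hzle
    refine add_le_add ?_ le_rfl
    have hzU : z ∈ U := hzx.mem_open U.isOpen hxU
    obtain ⟨n, hn⟩ := exists_nat_eq_ringKrullDim (X.presheaf.stalk z)
    have hn' : coheight z = n := by
      rw [ringKrullDim_stalk_eq_coheight] at hn; exact_mod_cast hn
    obtain ⟨ξ, hmax, hξz, hco⟩ := exists_isMax_coheight_closure_eq X z n hn'
    have key := coheight_closure_eq_of_isEquidimAt f z (hz ▸ hY) (hz ▸ hcat) e U hzU hmaxU hfibU ξ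
      hmax hξz
    rw [hco] at key
    rw [hn]
    change _ ≤ ((n : ℕ∞) : WithBot ℕ∞)
    have hdimY : ringKrullDim (Y.presheaf.stalk (f.base z)) =
        ringKrullDim (Y.presheaf.stalk (f.base x)) := by rw [hz]
    rw [key, ← hdimY]
    exact le_add_of_nonneg_right (by exact_mod_cast bot_le (a := (coheight _ : ℕ∞)))

end Groth.Agent.H17.Chev
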