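import Groth.Agent.H17.Chev.MinPrime2
import Groth.Agent.H17.Chev.GenzDim

set_option autoImplicit false
set_option linter.unusedSectionVars false
set_option linter.style.haveILetI false
universe u
open CategoryTheory CategoryTheory.Limits AlgebraicGeometry Topology Order TopologicalSpace

namespace Groth.Agent.H17.Chev

theorem topologicalKrullDim_closure_eq_of_isClosedEmbedding {A B : Type*} [TopologicalSpace A]
    [TopologicalSpace B] (g : A → B) (hg : IsClosedEmbedding g) (a : A) :
    topologicalKrullDim ↥(closure ({a} : Set A)) = topologicalKrullDim ↥(closure ({g a} : Set B)) := by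
  refine topologicalKrullDim_eq_of_isEmbedding (fun t : ↥(closure ({a} : Set A)) => g t.1)
    (hg.isEmbedding.comp IsEmbedding.subtypeVal) _ ?_
  have h1 : Set.range (fun t : ↥(closure ({a} : Set A)) => g t.1) = g '' closure {a} := by
    ext b
    constructor
    · rintro ⟨t, rfl⟩; exact ⟨t.1, t.2, rfl⟩
    · rintro ⟨t, ht, rfl⟩; exact ⟨⟨t, ht⟩, rfl⟩
  rw [h1, ← hg.closure_image_eq, Set.image_singleton]

/-- If a closed subset `S` has at `x` the same local fibre dimension as `X`, then `x` has the same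
codimension in `S ∩ X_y` as in `X_y`. -/
theorem coheight_inter_fibre_eq_of_localDim_eq {X Y : Scheme.{u}} (f : X ⟶ Y)
    [LocallyOfFiniteType f] (S : Set X) (hS : IsClosed S) (x : X) (hx : x ∈ S)
    (hl : FlatMor.localDim ↥(S ∩ f.base ⁻¹' {f.base x}) ⟨x, hx, rfl⟩ = FlatMor.fibreDimAt f x) :
    (coheight (⟨x, hx, rfl⟩ : ↥(S ∩ f.base ⁻¹' {f.base x})) : WithBot ℕ∞) =
      ringKrullDim ((f.fiber (f.base x)).presheaf.stalk (f.asFiber x)) := by
  have hlft : LocallyOfFiniteType (f.fiberToSpecResidueField (f.base x)) :=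
    inferInstanceAs (LocallyOfFiniteType (pullback.snd f (Y.fromSpecResidueField (f.base x))))
  have hS₀c : IsClosed ((f.fiberι (f.base x)).base ⁻¹' S) := hS.preimage (f.fiberι _).continuous
  obtain ⟨S₁, i, hi, hr⟩ := exists_closedImmersion_range (f.fiber (f.base x)) _ hS₀c
  have hx₀ : f.asFiber x ∈ (f.fiberι (f.base x)).base ⁻¹' S := by
    change (f.fiberι (f.base x)).base (f.asFiber x) ∈ S
    rw [f.fiberι_asFiber]; exact hx
  obtain ⟨x₁, hx₁⟩ : f.asFiber x ∈ Set.range i.base := hr ▸ hx₀
  have hlft₁ : LocallyOfFiniteType (i ≫ f.fiberToSpecResidueField (f.base x)) := inferInstance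
  have hjx : (f.fiberι (f.base x)).base (i.base x₁) = x := by rw [hx₁, f.fiberι_asFiber]
  have hjemb : IsEmbedding (fun t : S₁ => (f.fiberι (f.base x)).base (i.base t)) :=
    (f.fiberι (f.base x)).isEmbedding.comp i.isEmbedding
  have hjrange : Set.range (fun t : S₁ => (f.fiberι (f.base x)).base (i.base t)) =
      S ∩ f.base ⁻¹' {f.base x} := by
    ext a
    constructor
    · rintro ⟨t, rfl⟩
      refine ⟨?_, map_fiberι f _ _⟩
      have : i.base t ∈ Set.range i.base := ⟨t, rfl⟩
      rw [hr] at this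
      exact this
    · rintro ⟨haS, haf⟩
      have h1 : a ∈ Set.range (f.fiberι (f.base x)).base := by
        rw [Scheme.Hom.range_fiberι]; exact haf
      obtain ⟨w, rfl⟩ := h1
      have h2 : w ∈ Set.range i.base := by rw [hr]; exact haS
      obtain ⟨t, rfl⟩ := h2
      exact ⟨t, rfl⟩
  have hmem : (f.fiberι (f.base x)).base (i.base x₁) ∈ S ∩ f.base ⁻¹' {f.base x} := by
    rw [← hjrange]; exact ⟨x₁, rfl⟩
  -- Lemma K on `S₁` and on the fibre
  have K₁ := localDim_eq_coheight_add (Y.residueField (f.base x))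
    (i ≫ f.fiberToSpecResidueField (f.base x)) x₁
  have K₀ := localDim_eq_coheight_add (Y.residueField (f.base x))
    (f.fiberToSpecResidueField (f.base x)) (f.asFiber x)
  have e1 : FlatMor.localDim S₁ x₁ = FlatMor.fibreDimAt f x := by
    rw [localDim_eq_of_isEmbedding _ hjemb _ hjrange x₁ hmem, ← hl]
    exact localDim_subtype_congr' rfl hjx _ _
  have e2 : coheight x₁ = coheight (⟨x, hx, rfl⟩ : ↥(S ∩ f.base ⁻¹' {f.base x})) := by
    rw [coheight_eq_coheight_subtype _ (le_iff_of_isEmbedding _ hjemb) _ hjrange x₁ hmem]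
    exact coheight_subtype_congr' rfl hjx _ _
  have e3 : topologicalKrullDim ↥(closure ({x₁} : Set S₁)) =
      topologicalKrullDim ↥(closure ({f.asFiber x} : Set ↥(f.fiber (f.base x)))) := by
    rw [topologicalKrullDim_closure_eq_of_isClosedEmbedding i.base i.isClosedEmbedding x₁, hx₁]
  have e4 := Groth.Agent.H48.FieldDim.topologicalKrullDim_closure_eq
    (k := Y.residueField (f.base x)) (f.fiberToSpecResidueField (f.base x)) (f.asFiber x)
  rw [e1, e2, e3, e4] at K₁
  rw [e4] at K₀
  have K₀' : FlatMor.fibreDimAt f x = _ := K₀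
  rw [K₀'] at K₁
  rw [ringKrullDim_stalk_eq_coheight]
  exact (eq_of_add_natCast_eq_add_natCast K₁).symm

/-- local fibre dimension of an irreducible component through `x`, when the local fibre dimension
is constant near `x`. -/
theorem localDim_closure_inter_eq_of_forall_fibreDimAt_eq {X Y : Scheme.{u}} (f : X ⟶ Y)
    [LocallyOfFiniteType f] (x : X) (e : ℕ) (U : X.Opens) (hxU : x ∈ U)
    (hfibU : ∀ u : X, u ∈ U → FlatMor.fibreDimAt f u = e)
    (ξ : X) (hmax : IsMax ξ) (hξx : ξ ⤳ x) :
    FlatMor.localDim ↥(closure ({ξ} : Set X) ∩ f.base ⁻¹' {f.base x})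
      ⟨x, hξx.mem_closure, rfl⟩ = e := by
  have hξU : ξ ∈ U := hξx.mem_open U.isOpen hxU
  have hlft : LocallyOfFiniteType (f.fiberToSpecResidueField (f.base ξ)) :=
    inferInstanceAs (LocallyOfFiniteType (pullback.snd f (Y.fromSpecResidueField (f.base ξ))))
  have hgen : topologicalKrullDim ↥(closure ({ξ} : Set X) ∩ f.base ⁻¹' {f.base ξ}) = e := by
    have hmax' : IsMax (f.asFiber ξ) := by
      intro b hb
      have h1 : b ⤳ f.asFiber ξ := hb
      have h2 := h1.map (f.fiberι (f.base ξ)).continuous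
      rw [f.fiberι_asFiber] at h2
      have h3 : ξ ⤳ (f.fiberι (f.base ξ)).base b := hmax (show ξ ≤ _ from h2)
      have h4 : (f.fiberι (f.base ξ)).base (f.asFiber ξ) ⤳ (f.fiberι (f.base ξ)).base b := by
        rw [f.fiberι_asFiber ξ]; exact h3
      exact (show f.asFiber ξ ⤳ b from
        (f.fiberι (f.base ξ)).isEmbedding.isInducing.specializes_iff.mp h4)
    have hZ := closure_mem_irreducibleComponents_of_isMax _ (f.asFiber ξ) hmax'
    have h1 := dim_irreducibleComponent_eq_localDim (Y.residueField (f.base ξ))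
      (f.fiberToSpecResidueField (f.base ξ)) _ hZ (f.asFiber ξ) isGenericPoint_closure
    have h2 := dim_closure_fiber_eq f (f.base ξ) (f.asFiber ξ)
    rw [f.fiberι_asFiber] at h2
    rw [← h2, h1]
    exact hfibU ξ hξU
  apply le_antisymm
  · rw [← hfibU x hxU, ← localDim_univ_inter_eq_fibreDimAt f x]
    exact localDim_subtype_mono (Set.inter_subset_inter_left _ (Set.subset_univ _)) x _
  · rw [← hgen]
    exact dim_generic_le_localDim f (closure {ξ}) isClosed_closure ξ isGenericPoint_closure x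
      hξx.mem_closure

/-- **EGA IV 13.3.6 (ii)**: `O_{X,x}` is equidimensional. -/
theorem isEquidim_stalk_of_isEquidimAt {X Y : Scheme.{u}} [IsLocallyNoetherian Y] (f : X ⟶ Y)
    [LocallyOfFiniteType f] (x : X) (h : EGA43.IsEquidimAt f x)
    (hcat : CAlg.IsUniversallyCatenary (Y.presheaf.stalk (f.base x)))
    (hY : EGA4.IsEquidim (Y.presheaf.stalk (f.base x))) :
    EGA4.IsEquidim (X.presheaf.stalk x) := by
  intro p hp
  obtain ⟨e, U, hxU, hmaxU, hfibU⟩ := exists_opens_of_isEquidimAt f x h
  obtain ⟨ξ, hmax, hξx, hle⟩ := exists_isMax_coheight_le_quotient X x p hp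
  apply le_antisymm (ringKrullDim_quotient_le p)
  refine le_trans ?_ hle
  rw [stalk_dim_eq_of_isEquidimAt f x hY hcat h,
    coheight_closure_eq_of_isEquidimAt f x hY hcat e U hxU hmaxU hfibU ξ hmax hξx]
  refine add_le_add le_rfl ?_
  have hl := localDim_closure_inter_eq_of_forall_fibreDimAt_eq f x e U hxU hfibU ξ hmax hξx
  rw [← hfibU x hxU] at hl
  rw [coheight_inter_fibre_eq_of_localDim_eq f (closure {ξ}) isClosed_closure x hξx.mem_closure hl]

end Groth.Agent.H17.Chev
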