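import Groth.Agent.H17.Chev.Equidim6

set_option autoImplicit false
set_option linter.unusedSectionVars false
set_option linter.style.haveILetI false
universe u
open CategoryTheory CategoryTheory.Limits AlgebraicGeometry Topology Order TopologicalSpace

namespace Groth.Agent.H17.Chev

/-- In a locally Noetherian scheme every point has an open neighbourhood all of whose points lie on
an irreducible component through the point. -/
theorem exists_open_forall_exists_isMax (X : Scheme.{u}) [IsLocallyNoetherian X] (x : X) :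
    ∃ O : X.Opens, x ∈ O ∧ ∀ u ∈ O, ∃ ξ : X, IsMax ξ ∧ ξ ⤳ x ∧ ξ ⤳ u := by
  obtain ⟨_, ⟨U, hU, rfl⟩, hxU, -⟩ := X.isBasis_affineOpens.exists_subset_of_mem_open
    (Set.mem_univ x) isOpen_univ
  replace hU : IsAffineOpen U := hU
  have hUN : NoetherianSpace ↥U := by
    have : IsNoetherianRing Γ(X, U) := IsLocallyNoetherian.component_noetherian ⟨U, hU⟩
    exact noetherianSpace_of_isAffineOpen U hU
  have hfin := NoetherianSpace.finite_irreducibleComponents (α := ↥U)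
  set bad : Set (Set ↥U) := {Z' | Z' ∈ irreducibleComponents ↥U ∧ (⟨x, hxU⟩ : ↥U) ∉ Z'} with hbad
  have hbadfin : bad.Finite := hfin.subset (fun Z' hZ' => hZ'.1)
  have hbadcl : IsClosed (⋃₀ bad) := by
    rw [Set.sUnion_eq_biUnion]
    exact hbadfin.isClosed_biUnion (fun Z' hZ' => isClosed_of_mem_irreducibleComponents Z' hZ'.1)
  set W : Set X := Subtype.val '' ((⋃₀ bad)ᶜ : Set ↥U) with hW
  have hWopen : IsOpen W := U.isOpen.isOpenMap_subtype_val _ hbadcl.isOpen_compl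
  have hxW : x ∈ W := by
    refine ⟨⟨x, hxU⟩, ?_, rfl⟩
    rintro ⟨Z', hZ', hxZ'⟩
    exact hZ'.2 hxZ'
  refine ⟨⟨W, hWopen⟩, hxW, ?_⟩
  rintro _ ⟨u, hu, rfl⟩
  -- `u` lies in a component `Z'` of `U`, which must contain `x`
  obtain ⟨Z', hZ', huZ'⟩ := exists_mem_irreducibleComponents_subset_of_isIrreducible
    ({u} : Set ↥U) isIrreducible_singleton
  have hxZ' : (⟨x, hxU⟩ : ↥U) ∈ Z' := by
    by_contra hcon
    exact hu ⟨Z', ⟨hZ', hcon⟩, huZ' rfl⟩
  have hZ'c : IsClosed Z' := isClosed_of_mem_irreducibleComponents Z' hZ'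
  have hZ'irr : IsIrreducible Z' := hZ'.1
  haveI : QuasiSober ↥U := (U.isOpen.isOpenEmbedding_subtypeVal).quasiSober
  obtain ⟨ζ, hζ⟩ : ∃ ζ, IsGenericPoint ζ Z' := ⟨_, hZ'irr.isGenericPoint_genericPoint hZ'c⟩
  have h1 : ζ ⤳ (⟨x, hxU⟩ : ↥U) := hζ.specializes hxZ'
  have h2 : ζ ⤳ u := hζ.specializes (huZ' rfl)
  refine ⟨ζ.1, ?_, (subtype_specializes_iff _ _).mp h1, (subtype_specializes_iff _ _).mp h2⟩
  intro b hb
  have hb1 : b ⤳ ζ.1 := hb
  have hbU : b ∈ U := hb1.mem_open U.isOpen ζ.2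
  have hb2 : (⟨b, hbU⟩ : ↥U) ⤳ ζ := (subtype_specializes_iff _ _).mpr hb1
  -- closure of `b` in `U` is irreducible containing `Z'`
  have h3 : Z' ⊆ closure ({⟨b, hbU⟩} : Set ↥U) := by
    rw [← hζ.def]; exact hb2.closure_subset
  have h4 : closure ({⟨b, hbU⟩} : Set ↥U) ⊆ Z' := hZ'.2 isIrreducible_singleton.closure h3
  have h5 : (⟨b, hbU⟩ : ↥U) ∈ closure ({ζ} : Set ↥U) := by
    rw [hζ.def]; exact h4 (subset_closure rfl)
  have h6 : ζ ⤳ (⟨b, hbU⟩ : ↥U) := specializes_iff_mem_closure.mpr h5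
  exact (show ζ.1 ⤳ b from (subtype_specializes_iff _ _).mp h6)

/-- Converse of `exists_opens_of_isEquidimAt`. -/
theorem isEquidimAt_of_forall_fibreDimAt_eq {X Y : Scheme.{u}} (f : X ⟶ Y)
    [LocallyOfFiniteType f] (x : X) (e : ℕ) (U : X.Opens) (hxU : x ∈ U)
    (hmaxU : ∀ ξ : X, ξ ∈ U → IsMax ξ →
      closure {f.base ξ} ∈ irreducibleComponents (Y : Type u) ∧ f.base x ∈ closure {f.base ξ})
    (hfibU : ∀ u : X, u ∈ U → FlatMor.fibreDimAt f u = e) : EGA43.IsEquidimAt f x := by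
  refine ⟨e, U, hxU, ?_, ?_⟩
  · intro Z hZ
    have hZc : IsClosed Z := isClosed_of_mem_irreducibleComponents Z hZ
    have hZirr : IsIrreducible Z := hZ.1
    haveI : QuasiSober ↥U := (U.isOpen.isOpenEmbedding_subtypeVal).quasiSober
    obtain ⟨ζ, hζ⟩ : ∃ ζ, IsGenericPoint ζ Z := ⟨_, hZirr.isGenericPoint_genericPoint hZc⟩
    have hmax : IsMax ζ.1 := by
      intro b hb
      have hb1 : b ⤳ ζ.1 := hb
      have hbU : b ∈ U := hb1.mem_open U.isOpen ζ.2
      have hb2 : (⟨b, hbU⟩ : ↥U) ⤳ ζ := (subtype_specializes_iff _ _).mpr hb1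
      have h3 : Z ⊆ closure ({⟨b, hbU⟩} : Set ↥U) := by
        rw [← hζ.def]; exact hb2.closure_subset
      have h4 : closure ({⟨b, hbU⟩} : Set ↥U) ⊆ Z := hZ.2 isIrreducible_singleton.closure h3
      have h5 : (⟨b, hbU⟩ : ↥U) ∈ closure ({ζ} : Set ↥U) := by
        rw [hζ.def]; exact h4 (subset_closure rfl)
      have h6 : ζ ⤳ (⟨b, hbU⟩ : ↥U) := specializes_iff_mem_closure.mpr h5
      exact (show ζ.1 ⤳ b from (subtype_specializes_iff _ _).mp h6)
    obtain ⟨h1, h2⟩ := hmaxU ζ.1 ζ.2 hmax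
    refine ⟨_, h1, h2, ?_⟩
    rw [closure_image_eq_of_isGenericPoint (U.ι ≫ f).base (U.ι ≫ f).continuous Z ζ hζ]
    rfl
  · have key : ∀ (y' : Y) (Z : Set ↥((U.ι ≫ f).fiber y')),
        Z ∈ irreducibleComponents ↥((U.ι ≫ f).fiber y') → topologicalKrullDim ↥Z = e := by
      intro y' Z hZ
      have hlft : LocallyOfFiniteType ((U.ι ≫ f).fiberToSpecResidueField y') :=
        inferInstanceAs (LocallyOfFiniteType (pullback.snd (U.ι ≫ f) (Y.fromSpecResidueField y')))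
      have hZc : IsClosed Z := isClosed_of_mem_irreducibleComponents Z hZ
      have hZirr : IsIrreducible Z := hZ.1
      obtain ⟨w, hw⟩ : ∃ w, IsGenericPoint w Z :=
        ⟨_, hZirr.isGenericPoint_genericPoint hZc⟩
      have h1 := dim_irreducibleComponent_eq_localDim (Y.residueField y')
        ((U.ι ≫ f).fiberToSpecResidueField y') Z hZ w hw
      have h2 := localDim_fiber_eq_fibreDimAt (U.ι ≫ f) y' w
      have h3 := fibreDimAt_ι_comp f U (((U.ι ≫ f).fiberι y').base w)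
      rw [h1, h2, h3]
      exact hfibU _ ((((U.ι ≫ f).fiberι y').base w)).2
    exact fun x' Z hZ => key _ Z hZ

end Groth.Agent.H17.Chev
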