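import Groth.Agent.H17.Chev.Equidim7

set_option autoImplicit false
set_option linter.unusedSectionVars false
set_option linter.style.haveILetI false
universe u
open CategoryTheory CategoryTheory.Limits AlgebraicGeometry Topology Order TopologicalSpace

namespace Groth.Agent.H17.Chev

theorem exists_isMax_specializes (X : Scheme.{u}) [IsLocallyNoetherian X] (t : X) :
    ∃ ξ : X, IsMax ξ ∧ ξ ⤳ t := by
  have hne := coheight_ne_top_of_isLocallyNoetherian X t
  obtain ⟨n, hn⟩ : ∃ n : ℕ, coheight t = n := by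
    cases h : coheight t with
    | top => exact absurd h hne
    | coe n => exact ⟨n, rfl⟩
  obtain ⟨ξ, hmax, hξt, -⟩ := exists_isMax_coheight_closure_eq X t n hn
  exact ⟨ξ, hmax, hξt⟩

/-- The local fibre dimension at `x` is bounded by the local fibre dimensions of the irreducible
components through `x`. -/
theorem fibreDimAt_le_of_forall_isMax {X Y : Scheme.{u}} [IsLocallyNoetherian X] (f : X ⟶ Y)
    [LocallyOfFiniteType f] (x : X) (D : WithBot ℕ∞)
    (h : ∀ ξ : X, IsMax ξ → ∀ hξ : ξ ⤳ x,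
      FlatMor.localDim ↥(closure ({ξ} : Set X) ∩ f.base ⁻¹' {f.base x}) ⟨x, hξ.mem_closure, rfl⟩ ≤ D) :
    FlatMor.fibreDimAt f x ≤ D := by
  have hlft : LocallyOfFiniteType (f.fiberToSpecResidueField (f.base x)) :=
    inferInstanceAs (LocallyOfFiniteType (pullback.snd f (Y.fromSpecResidueField (f.base x))))
  have hFN : IsLocallyNoetherian (f.fiber (f.base x)) :=
    LocallyOfFiniteType.isLocallyNoetherian (f.fiberToSpecResidueField (f.base x))
  unfold FlatMor.fibreDimAt
  apply localDim_le_of_forall_irreducibleComponents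
  intro T hT hxT
  have hTc : IsClosed T := isClosed_of_mem_irreducibleComponents T hT
  have hTirr : IsIrreducible T := hT.1
  obtain ⟨t₀, ht₀⟩ : ∃ t₀, IsGenericPoint t₀ T := ⟨_, hTirr.isGenericPoint_genericPoint hTc⟩
  obtain ⟨T₁, i, hi, hr⟩ := exists_closedImmersion_range (f.fiber (f.base x)) T hTc
  obtain ⟨x₁, hx₁⟩ : f.asFiber x ∈ Set.range i.base := hr ▸ hxT
  obtain ⟨τ, hτ⟩ : t₀ ∈ Set.range i.base := hr ▸ ht₀.mem
  obtain ⟨hirr, -⟩ := irreducibleSpace_of_isEmbedding i.base i.isEmbedding τ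
    (by rw [hr, hτ, ht₀.def])
  haveI := hirr
  have hlft₁ : LocallyOfFiniteType (i ≫ f.fiberToSpecResidueField (f.base x)) := inferInstance
  have h1 := topologicalKrullDim_eq_localDim_of_irreducible (Y.residueField (f.base x))
    (i ≫ f.fiberToSpecResidueField (f.base x)) x₁
  have h2 : topologicalKrullDim ↥T = topologicalKrullDim T₁ :=
    (topologicalKrullDim_eq_of_isEmbedding i.base i.isEmbedding T hr).symm
  rw [h2, h1]
  have htx : (f.fiberι (f.base x)).base t₀ ⤳ x := by
    have := (ht₀.specializes hxT).map (f.fiberι (f.base x)).continuous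
    rwa [f.fiberι_asFiber] at this
  obtain ⟨ξ, hmax, hξt⟩ := exists_isMax_specializes X ((f.fiberι (f.base x)).base t₀)
  have hξx : ξ ⤳ x := hξt.trans htx
  refine le_trans ?_ (h ξ hmax hξx)
  have hjemb : IsEmbedding (fun s : T₁ => (f.fiberι (f.base x)).base (i.base s)) :=
    (f.fiberι (f.base x)).isEmbedding.comp i.isEmbedding
  have hjx : (f.fiberι (f.base x)).base (i.base x₁) = x := by rw [hx₁, f.fiberι_asFiber]
  have hsub : Set.range (fun s : T₁ => (f.fiberι (f.base x)).base (i.base s)) ⊆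
      closure {ξ} ∩ f.base ⁻¹' {f.base x} := by
    rintro _ ⟨s, rfl⟩
    refine ⟨?_, map_fiberι f _ _⟩
    have h3 : i.base s ∈ T := by rw [← hr]; exact ⟨s, rfl⟩
    have h4 : t₀ ⤳ i.base s := ht₀.specializes h3
    have h5 := h4.map (f.fiberι (f.base x)).continuous
    exact (hξt.trans h5).mem_closure
  rw [localDim_eq_of_isEmbedding _ hjemb _ rfl x₁ ⟨x₁, rfl⟩]
  refine (localDim_subtype_mono hsub ((f.fiberι (f.base x)).base (i.base x₁)) ⟨x₁, rfl⟩).trans
    (le_of_eq ?_)
  exact localDim_subtype_congr' rfl hjx _ _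

/-- dimension of the generic fibre of an irreducible component in terms of `fibreDimAt`. -/
theorem dim_closure_inter_generic_eq {X Y : Scheme.{u}} (f : X ⟶ Y)
    [LocallyOfFiniteType f] (ξ : X) (hmax : IsMax ξ) :
    topologicalKrullDim ↥(closure ({ξ} : Set X) ∩ f.base ⁻¹' {f.base ξ}) =
      FlatMor.fibreDimAt f ξ := by
  have hlft : LocallyOfFiniteType (f.fiberToSpecResidueField (f.base ξ)) :=
    inferInstanceAs (LocallyOfFiniteType (pullback.snd f (Y.fromSpecResidueField (f.base ξ))))
  have hmax' : IsMax (f.asFiber ξ) := by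
    intro b hb
    have h1 : b ⤳ f.asFiber ξ := hb
    have h2 := h1.map (f.fiberι (f.base ξ)).continuous
    rw [f.fiberι_asFiber] at h2
    have h3 : ξ ⤳ (f.fiberι (f.base ξ)).base b := hmax (show ξ ≤ _ from h2)
    have h4 : (f.fiberι (f.base ξ)).base (f.asFiber ξ) ⤳ (f.fiberι (f.base ξ)).base b := by
      rw [f.fiberι_asFiber ξ]; exact h3
    exact (show f.asFiber ξ ⤳ b from
      (f.fiberι (f.base ξ)).isEmbedding.isInducing.specializes_iff.mp h4)
  have hZ := closure_mem_irreducibleComponents_of_isMax _ (f.asFiber ξ) hmax'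
  have h1 := dim_irreducibleComponent_eq_localDim (Y.residueField (f.base ξ))
    (f.fiberToSpecResidueField (f.base ξ)) _ hZ (f.asFiber ξ) isGenericPoint_closure
  have h2 := dim_closure_fiber_eq f (f.base ξ) (f.asFiber ξ)
  rw [f.fiberι_asFiber] at h2
  rw [← h2, h1]
  rfl

end Groth.Agent.H17.Chev
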