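import Groth.Agent.H17.Chev.Equidim8

set_option autoImplicit false
set_option linter.unusedSectionVars false
set_option linter.style.haveILetI false
universe u
open CategoryTheory CategoryTheory.Limits AlgebraicGeometry Topology Order TopologicalSpace

namespace Groth.Agent.H17.Chev

/-- **EGA IV 13.3.x**: criterion for equidimensionality at a point via irreducible components. -/
theorem isEquidimAt_iff_irreducibleComponents {X Y : Scheme.{u}} [IsLocallyNoetherian Y]
    (f : X ⟶ Y) [LocallyOfFiniteType f] (x : X) :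
    EGA43.IsEquidimAt f x ↔
      ∃ e : ℕ, ∀ Xj ∈ irreducibleComponents (X : Type u), ∀ hx : x ∈ Xj,
        closure (f.base '' Xj) ∈ irreducibleComponents (Y : Type u) ∧
        (∀ η : Y, closure ({η} : Set Y) = closure (f.base '' Xj) →
          topologicalKrullDim ↥(Xj ∩ f.base ⁻¹' {η}) = e) ∧
        FlatMor.localDim ↥(Xj ∩ f.base ⁻¹' {f.base x})
          ⟨x, ⟨hx, Set.mem_singleton (f.base x)⟩⟩ = e := by
  have hXN : IsLocallyNoetherian X := LocallyOfFiniteType.isLocallyNoetherian f
  constructor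
  · intro h
    obtain ⟨e, U, hxU, hmaxU, hfibU⟩ := exists_opens_of_isEquidimAt f x h
    refine ⟨e, fun Xj hXj hx => ?_⟩
    have hXjc : IsClosed Xj := isClosed_of_mem_irreducibleComponents Xj hXj
    have hXjirr : IsIrreducible Xj := hXj.1
    obtain ⟨ξ, hξ⟩ : ∃ ξ, IsGenericPoint ξ Xj := ⟨_, hXjirr.isGenericPoint_genericPoint hXjc⟩
    have hmax : IsMax ξ := isMax_of_isGenericPoint_irreducibleComponent X Xj hXj ξ hξ
    have hξx : ξ ⤳ x := hξ.specializes hx
    have hξU : ξ ∈ U := hξx.mem_open U.isOpen hxU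
    obtain rfl : Xj = closure {ξ} := hξ.def.symm
    have hcl := closure_image_eq_of_isGenericPoint f.base f.continuous _ ξ hξ
    refine ⟨?_, ?_, ?_⟩
    · rw [hcl]; exact hmaxU ξ hξU hmax
    · intro η hη
      rw [hcl] at hη
      have : η = f.base ξ := IsGenericPoint.eq hη isGenericPoint_closure
      rw [this, dim_closure_inter_generic_eq f ξ hmax]
      exact hfibU ξ hξU
    · exact localDim_closure_inter_eq_of_forall_fibreDimAt_eq f x e U hxU hfibU ξ hmax hξx
  · rintro ⟨e, H⟩
    obtain ⟨O, hxO, hO⟩ := exists_open_forall_exists_isMax X x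
    let G : X.Opens := ⟨{u | FlatMor.fibreDimAt f u ≤ e}, isOpen_setOf_fibreDimAt_le f e⟩
    have hcomp : ∀ ξ : X, IsMax ξ → ∀ hξ : ξ ⤳ x,
        closure {f.base ξ} ∈ irreducibleComponents (Y : Type u) ∧
        topologicalKrullDim ↥(closure ({ξ} : Set X) ∩ f.base ⁻¹' {f.base ξ}) = e ∧
        FlatMor.localDim ↥(closure ({ξ} : Set X) ∩ f.base ⁻¹' {f.base x})
          ⟨x, hξ.mem_closure, rfl⟩ = e := by
      intro ξ hmax hξ
      obtain ⟨h1, h2, h3⟩ := H (closure {ξ}) (closure_mem_irreducibleComponents_of_isMax X ξ hmax)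
        hξ.mem_closure
      have hcl := closure_image_eq_of_isGenericPoint f.base f.continuous _ ξ
        (isGenericPoint_closure (x := ξ))
      rw [hcl] at h1
      exact ⟨h1, h2 (f.base ξ) hcl.symm, h3⟩
    have hxG : x ∈ G := by
      change FlatMor.fibreDimAt f x ≤ e
      apply fibreDimAt_le_of_forall_isMax
      intro ξ hmax hξ
      exact (hcomp ξ hmax hξ).2.2.le
    refine isEquidimAt_of_forall_fibreDimAt_eq f x e (O ⊓ G) ⟨hxO, hxG⟩ ?_ ?_
    · intro ξ hξU hmax
      obtain ⟨ξ', hmax', hξ'x, hξ'ξ⟩ := hO ξ hξU.1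
      have h1 : ξ ⤳ ξ' := hmax (show ξ ≤ ξ' from hξ'ξ)
      have h2 : ξ = ξ' := (h1.antisymm hξ'ξ).eq
      subst h2
      exact ⟨(hcomp ξ hmax hξ'x).1, (hξ'x.map f.continuous).mem_closure⟩
    · intro u hu
      apply le_antisymm hu.2
      obtain ⟨ξ, hmax, hξx, hξu⟩ := hO u hu.1
      rw [← (hcomp ξ hmax hξx).2.1, ← localDim_univ_inter_eq_fibreDimAt f u]
      refine (dim_generic_le_localDim f (closure {ξ}) isClosed_closure ξ isGenericPoint_closure u
        hξu.mem_closure).trans ?_
      exact localDim_subtype_mono (Set.inter_subset_inter_left _ (Set.subset_univ _)) u _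

end Groth.Agent.H17.Chev
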