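import Groth.Agent.H17.Chev.LocDimField

set_option autoImplicit false
set_option linter.unusedSectionVars false
set_option linter.style.haveILetI false
universe u
open CategoryTheory CategoryTheory.Limits AlgebraicGeometry Topology Order TopologicalSpace

namespace Groth.Agent.H17.Chev

section aux

attribute [local instance] specializationOrder

/-- A minimal prime `p` of `O_{X,x}` gives a maximal point `ξ ⤳ x` with
`codim(x, closure ξ) ≤ dim O_{X,x}/p`. -/
theorem exists_isMax_coheight_le_quotient_aux (X : Scheme.{u}) (x : X)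
    (p : Ideal (X.presheaf.stalk x)) (hp : p ∈ minimalPrimes (X.presheaf.stalk x)) :
    ∃ ξ : X, IsMax ξ ∧ ∃ h : ξ ⤳ x,
      (coheight (⟨x, h.mem_closure⟩ : ↥(closure ({ξ} : Set X))) : WithBot ℕ∞) ≤
        ringKrullDim ((X.presheaf.stalk x) ⧸ p) := by
  haveI hpp : p.IsPrime := hp.1.1
  let P : PrimeSpectrum (X.presheaf.stalk x) := ⟨p, hpp⟩
  have hsp : ∀ a b : ↥(Spec (X.presheaf.stalk x)),
      (X.fromSpecStalk x).base a ⤳ (X.fromSpecStalk x).base b ↔ a ⤳ b :=
    fun a b => (X.fromSpecStalk x).isEmbedding.isInducing.specializes_iff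
  have hx : ∀ a : ↥(Spec (X.presheaf.stalk x)), (X.fromSpecStalk x).base a ⤳ x := fun a => by
    have : (X.fromSpecStalk x).base a ∈ Set.range (X.fromSpecStalk x).base := ⟨a, rfl⟩
    rwa [Scheme.range_fromSpecStalk] at this
  have hξx : (X.fromSpecStalk x).base P ⤳ x := hx P
  have hmax : IsMax ((X.fromSpecStalk x).base P) := by
    intro b hb
    have h1 : b ⤳ (X.fromSpecStalk x).base P := hb
    have h2 : b ∈ Set.range (X.fromSpecStalk x).base := by
      rw [Scheme.range_fromSpecStalk]; exact h1.trans hξx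
    obtain ⟨Q, rfl⟩ := h2
    have h3 : Q ⤳ P := (hsp Q P).mp h1
    have h4 : (Q : PrimeSpectrum (X.presheaf.stalk x)).asIdeal ≤ p :=
      (PrimeSpectrum.le_iff_specializes (Q : PrimeSpectrum (X.presheaf.stalk x)) P).mpr h3
    have h5 : p ≤ (Q : PrimeSpectrum (X.presheaf.stalk x)).asIdeal :=
      hp.2 ⟨Q.isPrime, bot_le⟩ h4
    have h6 : P ⤳ Q :=
      (PrimeSpectrum.le_iff_specializes P (Q : PrimeSpectrum (X.presheaf.stalk x))).mp h5
    exact (show (X.fromSpecStalk x).base P ⤳ (X.fromSpecStalk x).base Q from (hsp P Q).mpr h6)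
  refine ⟨_, hmax, hξx, ?_⟩
  rw [ringKrullDim_quotient, ← Order.krullDim_orderDual]
  have hmem : ∀ q : (↥(PrimeSpectrum.zeroLocus (p : Set (X.presheaf.stalk x))))ᵒᵈ,
      (X.fromSpecStalk x).base (OrderDual.ofDual q).1 ∈
        closure ({(X.fromSpecStalk x).base P} : Set X) := by
    intro q
    have h1 : p ≤ (OrderDual.ofDual q).1.asIdeal := (OrderDual.ofDual q).2
    have h2 : P ⤳ (OrderDual.ofDual q).1 :=
      (PrimeSpectrum.le_iff_specializes P (OrderDual.ofDual q).1).mp h1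
    exact ((hsp P (OrderDual.ofDual q).1).mpr h2).mem_closure
  let Φ : (↥(PrimeSpectrum.zeroLocus (p : Set (X.presheaf.stalk x))))ᵒᵈ ↪o
      ↥(closure ({(X.fromSpecStalk x).base P} : Set X)) :=
    OrderEmbedding.ofMapLEIff (fun q => ⟨(X.fromSpecStalk x).base (OrderDual.ofDual q).1, hmem q⟩)
      (by
        intro a b
        change (X.fromSpecStalk x).base (OrderDual.ofDual a).1 ≤
          (X.fromSpecStalk x).base (OrderDual.ofDual b).1 ↔ _
        rw [Scheme.le_iff_specializes]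
        refine (hsp (OrderDual.ofDual b).1 (OrderDual.ofDual a).1).trans ?_
        change _ ↔ (OrderDual.ofDual b).1 ≤ (OrderDual.ofDual a).1
        exact (PrimeSpectrum.le_iff_specializes _ _).symm)
  haveI : Nonempty (↥(PrimeSpectrum.zeroLocus (p : Set (X.presheaf.stalk x))))ᵒᵈ :=
    ⟨OrderDual.toDual ⟨P, (le_refl p : p ≤ P.asIdeal)⟩⟩
  rw [Order.krullDim_eq_iSup_length]
  refine WithBot.coe_le_coe.mpr ?_
  refine coheight_le fun s hs => ?_
  have hrange : ∀ i, s i ∈ Set.range Φ := by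
    intro i
    have h1 : s.head ≤ s i := Groth.Agent.H62.LTSeries.head_le_apply s i
    rw [hs] at h1
    have h2 : (s i).1 ⤳ x := h1
    have h3 : (s i).1 ∈ Set.range (X.fromSpecStalk x).base := by
      rw [Scheme.range_fromSpecStalk]; exact h2
    obtain ⟨Q, hQ⟩ := h3
    have h4 : (X.fromSpecStalk x).base P ⤳ (X.fromSpecStalk x).base Q := by
      rw [hQ]; exact specializes_iff_mem_closure.mpr (s i).2
    have h5 : P ⤳ Q := (hsp P Q).mp h4
    have h6 : p ≤ (Q : PrimeSpectrum (X.presheaf.stalk x)).asIdeal :=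
      (PrimeSpectrum.le_iff_specializes P (Q : PrimeSpectrum (X.presheaf.stalk x))).mpr h5
    exact ⟨OrderDual.toDual ⟨Q, h6⟩, Subtype.ext hQ⟩
  obtain ⟨t, ht⟩ := Groth.Agent.H62.exists_map_eq Φ s hrange
  have hlen : s.length = t.length := by rw [← ht]; rfl
  rw [hlen]
  exact le_iSup (fun p' : LTSeries (↥(PrimeSpectrum.zeroLocus
    (p : Set (X.presheaf.stalk x))))ᵒᵈ => (p'.length : ℕ∞)) t

end aux

/-- A minimal prime `p` of `O_{X,x}` gives a maximal point `ξ ⤳ x` with
`codim(x, closure ξ) ≤ dim O_{X,x}/p`. -/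
theorem exists_isMax_coheight_le_quotient (X : Scheme.{u}) (x : X)
    (p : Ideal (X.presheaf.stalk x)) (hp : p ∈ minimalPrimes (X.presheaf.stalk x)) :
    ∃ ξ : X, IsMax ξ ∧ ∃ h : ξ ⤳ x,
      (coheight (⟨x, h.mem_closure⟩ : ↥(closure ({ξ} : Set X))) : WithBot ℕ∞) ≤
        ringKrullDim ((X.presheaf.stalk x) ⧸ p) :=
  exists_isMax_coheight_le_quotient_aux X x p hp

end Groth.Agent.H17.Chev
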