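import Groth.Agent.H17.Chev.MinPrime
import Groth.Agent.H17.Chev.MinPrime2

set_option autoImplicit false
set_option linter.unusedSectionVars false
set_option linter.style.haveILetI false
universe u
open CategoryTheory CategoryTheory.Limits AlgebraicGeometry Topology Order TopologicalSpace

namespace Groth.Agent.H17.Chev

theorem fromSpecStalk_specializes (X : Scheme.{u}) (x : X) (P : ↥(Spec (X.presheaf.stalk x))) :
    (X.fromSpecStalk x).base P ⤳ x := by
  have : (X.fromSpecStalk x).base P ∈ Set.range (X.fromSpecStalk x).base := ⟨P, rfl⟩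
  rwa [Scheme.range_fromSpecStalk] at this

/-- `dim O_{X,x}/P ≤ codim(x, closure ξ)` for `ξ` the point of `X` corresponding to `P`. -/
theorem ringKrullDim_quotient_le_coheight (Y : Scheme.{u}) (y : Y)
    (P : PrimeSpectrum (Y.presheaf.stalk y)) :
    ringKrullDim ((Y.presheaf.stalk y) ⧸ P.asIdeal) ≤
      coheight (⟨y, (fromSpecStalk_specializes Y y P).mem_closure⟩ :
        ↥(closure ({(Y.fromSpecStalk y).base P} : Set Y))) := by
  set ζ := (Y.fromSpecStalk y).base P with hζ
  have h : ζ ⤳ y := fromSpecStalk_specializes Y y P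
  have hsp : ∀ a b : ↥(Spec (Y.presheaf.stalk y)),
      (Y.fromSpecStalk y).base a ⤳ (Y.fromSpecStalk y).base b ↔ a ⤳ b :=
    fun a b => (Y.fromSpecStalk y).isEmbedding.isInducing.specializes_iff
  have hy : ∀ a : ↥(Spec (Y.presheaf.stalk y)), (Y.fromSpecStalk y).base a ⤳ y :=
    fun a => fromSpecStalk_specializes Y y a
  rw [ringKrullDim_quotient]
  refine iSup_le fun s => ?_
  have hmem : ∀ q : ↥(PrimeSpectrum.zeroLocus (P.asIdeal : Set (Y.presheaf.stalk y))),
      (Y.fromSpecStalk y).base q.1 ∈ closure ({ζ} : Set Y) := by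
    intro q
    have h1 : (P : PrimeSpectrum (Y.presheaf.stalk y)).asIdeal ≤ q.1.asIdeal := q.2
    have h2 : P ⤳ q.1 :=
      (PrimeSpectrum.le_iff_specializes (P : PrimeSpectrum (Y.presheaf.stalk y)) q.1).mp h1
    have h3 := (hsp P q.1).mpr h2
    exact h3.mem_closure
  let g : ↥(PrimeSpectrum.zeroLocus (P.asIdeal : Set (Y.presheaf.stalk y))) →
      (↥(closure ({ζ} : Set Y)))ᵒᵈ := fun q =>
    OrderDual.toDual ⟨(Y.fromSpecStalk y).base q.1, hmem q⟩
  have hg : StrictMono g := by
    intro a b hab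
    have hab' : a.1 < b.1 := hab
    rw [lt_iff_le_not_ge] at hab'
    have h1 : a.1 ⤳ b.1 := (PrimeSpectrum.le_iff_specializes a.1 b.1).mp hab'.1
    have h2 : ¬ b.1 ⤳ a.1 := fun hh => hab'.2 ((PrimeSpectrum.le_iff_specializes b.1 a.1).mpr hh)
    change (⟨(Y.fromSpecStalk y).base b.1, hmem b⟩ : ↥(closure ({ζ} : Set Y))) <
      ⟨(Y.fromSpecStalk y).base a.1, hmem a⟩
    rw [lt_iff_le_not_ge]
    refine ⟨?_, fun hh => h2 ?_⟩
    · exact (show (Y.fromSpecStalk y).base b.1 ≤ (Y.fromSpecStalk y).base a.1 from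
        (hsp a.1 b.1).mpr h1)
    · have hh' : (Y.fromSpecStalk y).base a.1 ≤ (Y.fromSpecStalk y).base b.1 := hh
      exact (hsp b.1 a.1).mp hh'
  have h1 := length_le_height (p := s.map g hg) (x := OrderDual.toDual ⟨y, h.mem_closure⟩)
    (show OrderDual.toDual (⟨(Y.fromSpecStalk y).base _, hmem _⟩ : ↥(closure ({ζ} : Set Y))) ≤
      OrderDual.toDual ⟨y, h.mem_closure⟩ from
      (show y ≤ (Y.fromSpecStalk y).base _ from hy _))
  rw [LTSeries.map_length] at h1
  rw [height_toDual] at h1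
  exact_mod_cast h1


section aux

attribute [local instance] specializationOrder

theorem coheight_le_ringKrullDim_quotient_aux (X : Scheme.{u}) (x : X)
    (P : PrimeSpectrum (X.presheaf.stalk x)) :
    (coheight (⟨x, (fromSpecStalk_specializes X x P).mem_closure⟩ :
        ↥(closure ({(X.fromSpecStalk x).base P} : Set X))) : WithBot ℕ∞) ≤
      ringKrullDim ((X.presheaf.stalk x) ⧸ P.asIdeal) := by
  set p := P.asIdeal with hp
  have hsp : ∀ a b : ↥(Spec (X.presheaf.stalk x)),
      (X.fromSpecStalk x).base a ⤳ (X.fromSpecStalk x).base b ↔ a ⤳ b :=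
    fun a b => (X.fromSpecStalk x).isEmbedding.isInducing.specializes_iff
  rw [ringKrullDim_quotient, ← Order.krullDim_orderDual]
  have hmem : ∀ q : (↥(PrimeSpectrum.zeroLocus (p : Set (X.presheaf.stalk x))))ᵒᵈ,
      (X.fromSpecStalk x).base (OrderDual.ofDual q).1 ∈
        closure ({(X.fromSpecStalk x).base P} : Set X) := by
    intro q
    have h1 : p ≤ (OrderDual.ofDual q).1.asIdeal := (OrderDual.ofDual q).2
    have h2 : P ⤳ (OrderDual.ofDual q).1 :=
      (PrimeSpectrum.le_iff_specializes P (OrderDual.ofDual q).1).mp h1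
    exact ((hsp P (OrderDual.ofDual q).1).mpr h2).mem_closure
  let Φ : (↥(PrimeSpectrum.zeroLocus (p : Set (X.presheaf.stalk x))))ᵒᵈ ↪o
      ↥(closure ({(X.fromSpecStalk x).base P} : Set X)) :=
    OrderEmbedding.ofMapLEIff (fun q => ⟨(X.fromSpecStalk x).base (OrderDual.ofDual q).1, hmem q⟩)
      (by
        intro a b
        change (X.fromSpecStalk x).base (OrderDual.ofDual a).1 ≤
          (X.fromSpecStalk x).base (OrderDual.ofDual b).1 ↔ _
        rw [Scheme.le_iff_specializes]
        refine (hsp (OrderDual.ofDual b).1 (OrderDual.ofDual a).1).trans ?_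
        change _ ↔ (OrderDual.ofDual b).1 ≤ (OrderDual.ofDual a).1
        exact (PrimeSpectrum.le_iff_specializes _ _).symm)
  haveI : Nonempty (↥(PrimeSpectrum.zeroLocus (p : Set (X.presheaf.stalk x))))ᵒᵈ :=
    ⟨OrderDual.toDual ⟨P, (le_refl p : p ≤ P.asIdeal)⟩⟩
  rw [Order.krullDim_eq_iSup_length]
  refine WithBot.coe_le_coe.mpr ?_
  refine coheight_le fun s hs => ?_
  have hrange : ∀ i, s i ∈ Set.range Φ := by
    intro i
    have h1 : s.head ≤ s i := Groth.Agent.H62.LTSeries.head_le_apply s i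
    rw [hs] at h1
    have h2 : (s i).1 ⤳ x := h1
    have h3 : (s i).1 ∈ Set.range (X.fromSpecStalk x).base := by
      rw [Scheme.range_fromSpecStalk]; exact h2
    obtain ⟨Q, hQ⟩ := h3
    have h4 : (X.fromSpecStalk x).base P ⤳ (X.fromSpecStalk x).base Q := by
      rw [hQ]; exact specializes_iff_mem_closure.mpr (s i).2
    have h5 : P ⤳ Q := (hsp P Q).mp h4
    have h6 : p ≤ (Q : PrimeSpectrum (X.presheaf.stalk x)).asIdeal :=
      (PrimeSpectrum.le_iff_specializes P (Q : PrimeSpectrum (X.presheaf.stalk x))).mpr h5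
    exact ⟨OrderDual.toDual ⟨Q, h6⟩, Subtype.ext hQ⟩
  obtain ⟨t, ht⟩ := Groth.Agent.H62.exists_map_eq Φ s hrange
  have hlen : s.length = t.length := by rw [← ht]; rfl
  rw [hlen]
  exact le_iSup (fun p' : LTSeries (↥(PrimeSpectrum.zeroLocus
    (p : Set (X.presheaf.stalk x))))ᵒᵈ => (p'.length : ℕ∞)) t

end aux

/-- `dim O_{X,x}/P = codim(x, closure ξ)` for `ξ` the point of `X` corresponding to `P`. -/
theorem ringKrullDim_quotient_eq_coheight (X : Scheme.{u}) (x : X)
    (P : PrimeSpectrum (X.presheaf.stalk x)) :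
    ringKrullDim ((X.presheaf.stalk x) ⧸ P.asIdeal) =
      coheight (⟨x, (fromSpecStalk_specializes X x P).mem_closure⟩ :
        ↥(closure ({(X.fromSpecStalk x).base P} : Set X))) :=
  le_antisymm (ringKrullDim_quotient_le_coheight X x P)
    (coheight_le_ringKrullDim_quotient_aux X x P)

/-- the point corresponding to a minimal prime is a maximal point -/
theorem isMax_fromSpecStalk_of_mem_minimalPrimes (X : Scheme.{u}) (x : X)
    (P : PrimeSpectrum (X.presheaf.stalk x)) (hP : P.asIdeal ∈ minimalPrimes (X.presheaf.stalk x)) :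
    IsMax ((X.fromSpecStalk x).base P) := by
  have hsp : ∀ a b : ↥(Spec (X.presheaf.stalk x)),
      (X.fromSpecStalk x).base a ⤳ (X.fromSpecStalk x).base b ↔ a ⤳ b :=
    fun a b => (X.fromSpecStalk x).isEmbedding.isInducing.specializes_iff
  intro b hb
  have h1 : b ⤳ (X.fromSpecStalk x).base P := hb
  have h2 : b ∈ Set.range (X.fromSpecStalk x).base := by
    rw [Scheme.range_fromSpecStalk]; exact h1.trans (fromSpecStalk_specializes X x P)
  obtain ⟨Q, rfl⟩ := h2
  have h3 : Q ⤳ P := (hsp Q P).mp h1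
  have h4 : (Q : PrimeSpectrum (X.presheaf.stalk x)).asIdeal ≤ P.asIdeal :=
    (PrimeSpectrum.le_iff_specializes (Q : PrimeSpectrum (X.presheaf.stalk x)) P).mpr h3
  have h5 : P.asIdeal ≤ (Q : PrimeSpectrum (X.presheaf.stalk x)).asIdeal :=
    hP.2 ⟨Q.isPrime, bot_le⟩ h4
  have h6 : P ⤳ Q :=
    (PrimeSpectrum.le_iff_specializes P (Q : PrimeSpectrum (X.presheaf.stalk x))).mp h5
  exact (show (X.fromSpecStalk x).base P ⤳ (X.fromSpecStalk x).base Q from (hsp P Q).mpr h6)

/-- naturality of the point corresponding to a prime of the stalk -/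
theorem fromSpecStalk_comap_stalkMap {X Y : Scheme.{u}} (f : X ⟶ Y) (x : X)
    (P : PrimeSpectrum (X.presheaf.stalk x)) :
    (Y.fromSpecStalk (f.base x)).base (PrimeSpectrum.comap (f.stalkMap x).hom P) =
      f.base ((X.fromSpecStalk x).base P) := by
  have h := Scheme.SpecMap_stalkMap_fromSpecStalk (f := f) (x := x)
  have h2 := congrArg (fun g => g.base P) h
  exact h2

end Groth.Agent.H17.Chev
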