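import Groth.Agent.H17.Chev.Equidim10
import Groth.Agent.H17.Chev.QuotDim
import Groth.Agent.H51.FibreDimTrdeg

set_option autoImplicit false
set_option linter.unusedSectionVars false
set_option linter.style.haveILetI false
universe u
open CategoryTheory CategoryTheory.Limits AlgebraicGeometry Topology Order TopologicalSpace

namespace Groth.Agent.H17.Chev

/-- the coheight formula for a maximal point `ξ ⤳ x` when the fibre dimension is constant `e`
near `x`, without equidimensionality of the target local ring -/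
theorem coheight_closure_eq_add_of_fibreDimAt_eq {X Y : Scheme.{u}} [IsLocallyNoetherian Y]
    (f : X ⟶ Y) [LocallyOfFiniteType f] (x : X)
    (hcat : CAlg.IsUniversallyCatenary (Y.presheaf.stalk (f.base x)))
    (e : ℕ) (U : X.Opens) (hxU : x ∈ U)
    (hfibU : ∀ u : X, u ∈ U → FlatMor.fibreDimAt f u = e)
    (ξ : X) (hmax : IsMax ξ) (hξx : ξ ⤳ x) :
    (coheight (⟨x, hξx.mem_closure⟩ : ↥(closure ({ξ} : Set X))) : WithBot ℕ∞) =
      (coheight (⟨f.base x, (hξx.map f.continuous).mem_closure⟩ :
        ↥(closure ({f.base ξ} : Set Y))) : WithBot ℕ∞) +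
        (coheight (⟨x, hξx.mem_closure, rfl⟩ :
          ↥(closure ({ξ} : Set X) ∩ f.base ⁻¹' {f.base x})) : WithBot ℕ∞) ∧
    FlatMor.localDim ↥(closure ({ξ} : Set X) ∩ f.base ⁻¹' {f.base x})
      ⟨x, hξx.mem_closure, rfl⟩ = e := by
  have hξU : ξ ∈ U := hξx.mem_open U.isOpen hxU
  have hy : f.base x ∈ closure {f.base ξ} := (hξx.map f.continuous).mem_closure
  have key := (coheight_add_localDim_le_and_eq f (closure {ξ}) isClosed_closure ξ
    isGenericPoint_closure x hξx.mem_closure hy).2 hcat
  have hlft : LocallyOfFiniteType (f.fiberToSpecResidueField (f.base ξ)) :=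
    inferInstanceAs (LocallyOfFiniteType (pullback.snd f (Y.fromSpecResidueField (f.base ξ))))
  have hgen : topologicalKrullDim ↥(closure ({ξ} : Set X) ∩ f.base ⁻¹' {f.base ξ}) = e := by
    have hmax' : IsMax (f.asFiber ξ) := by
      intro b hb
      have h1 : b ⤳ f.asFiber ξ := hb
      have h2 := h1.map (f.fiberι (f.base ξ)).continuous
      rw [f.fiberι_asFiber] at h2
      have h3 : ξ ⤳ (f.fiberι (f.base ξ)).base b := hmax (show ξ ≤ _ from h2)
      have h4 : (f.fiberι (f.base ξ)).base (f.asFiber ξ) ⤳ (f.fiberι (f.base ξ)).base b := by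
        rw [f.fiberι_asFiber ξ]; exact h3
      exact (show f.asFiber ξ ⤳ b from
        (f.fiberι (f.base ξ)).isEmbedding.isInducing.specializes_iff.mp h4)
    have hZ := closure_mem_irreducibleComponents_of_isMax _ (f.asFiber ξ) hmax'
    have h1 := dim_irreducibleComponent_eq_localDim (Y.residueField (f.base ξ))
      (f.fiberToSpecResidueField (f.base ξ)) _ hZ (f.asFiber ξ) isGenericPoint_closure
    have h2 := dim_closure_fiber_eq f (f.base ξ) (f.asFiber ξ)
    rw [f.fiberι_asFiber] at h2
    rw [← h2, h1]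
    exact hfibU ξ hξU
  rw [hgen] at key
  have hloc : FlatMor.localDim ↥(closure ({ξ} : Set X) ∩ f.base ⁻¹' {f.base x})
      ⟨x, hξx.mem_closure, rfl⟩ = e := by
    apply le_antisymm
    · rw [← hfibU x hxU, ← localDim_univ_inter_eq_fibreDimAt f x]
      exact localDim_subtype_mono (Set.inter_subset_inter_left _ (Set.subset_univ _)) x _
    · rw [← hgen]
      exact dim_generic_le_localDim f (closure {ξ}) isClosed_closure ξ isGenericPoint_closure x
        hξx.mem_closure
  rw [hloc] at key
  exact ⟨eq_of_add_natCast_eq_add_natCast key, hloc⟩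


theorem natCast_add_cancel {x y : WithBot ℕ∞} {n : ℕ}
    (h : (n : WithBot ℕ∞) + x = (n : WithBot ℕ∞) + y) : x = y := by
  rw [add_comm _ x, add_comm _ y] at h
  exact eq_of_add_natCast_eq_add_natCast h

/-- the closure of a point in its fibre has dimension the transcendence degree of the residue
field extension -/
theorem dim_closure_asFiber_eq_trdeg {X Y : Scheme.{u}} (f : X ⟶ Y) [LocallyOfFiniteType f]
    (x : X) :
    letI : Algebra (Y.residueField (f.base x)) (X.residueField x) :=
      (f.residueFieldMap x).hom.toAlgebra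
    topologicalKrullDim ↥(closure ({f.asFiber x} : Set ↥(f.fiber (f.base x)))) =
      (Cardinal.toNat (Algebra.trdeg (Y.residueField (f.base x)) (X.residueField x)) :
        WithBot ℕ∞) := by
  letI : Algebra (Y.residueField (f.base x)) (X.residueField x) :=
    (f.residueFieldMap x).hom.toAlgebra
  have hlft : LocallyOfFiniteType (f.fiberToSpecResidueField (f.base x)) :=
    inferInstanceAs (LocallyOfFiniteType (pullback.snd f (Y.fromSpecResidueField (f.base x))))
  haveI : IsLocallyNoetherian (f.fiber (f.base x)) :=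
    LocallyOfFiniteType.isLocallyNoetherian (f.fiberToSpecResidueField (f.base x))
  have h1 := fibreDimAt_eq_stalk_add f x
  have h2 := Groth.Agent.H51.fibreDimAt_eq_dim_stalk_add_trdeg f x
  obtain ⟨m, hm⟩ := exists_nat_eq_ringKrullDim
    ((f.fiber (f.base x)).presheaf.stalk (f.asFiber x))
  obtain ⟨n, hn⟩ := Groth.Agent.H48.DimIneqSch2.exists_trdeg_eq_nat f x
  have hn' : Algebra.trdeg (Y.residueField (f.base x)) (X.residueField x) = n := hn
  have h3 : Dual3.resTrdeg f x = n := hn
  rw [h1, hm, h3] at h2
  rw [hn', Cardinal.toNat_natCast]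
  have h4 : ((Cardinal.toENat ((n : ℕ) : Cardinal.{u}) : ℕ∞) : WithBot ℕ∞) = (n : WithBot ℕ∞) := by
    simp
  rw [h4] at h2
  exact natCast_add_cancel h2

end Groth.Agent.H17.Chev
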