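import Groth.Agent.H17.Chev.Equidim5

set_option autoImplicit false
set_option linter.unusedSectionVars false
set_option linter.style.haveILetI false
universe u
open CategoryTheory CategoryTheory.Limits AlgebraicGeometry Topology Order TopologicalSpace

namespace Groth.Agent.H17.Chev

theorem localDim_le_of_specializes {T : Type*} [TopologicalSpace T] {t x : T} (h : t ⤳ x) :
    FlatMor.localDim T t ≤ FlatMor.localDim T x := by
  unfold FlatMor.localDim
  refine le_iInf fun V => ?_
  exact iInf_le (fun U : {U : Opens T // t ∈ U} => topologicalKrullDim (U.1 : Set T))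
    ⟨V.1, h.mem_open V.1.isOpen V.2⟩

/-- For a scheme locally of finite type over a field:
`dim_x F = dim O_{F,x} + dim closure {x}`. -/
theorem localDim_eq_coheight_add (κ : Type u) [Field κ] {F : Scheme.{u}}
    (φ : F ⟶ Spec (.of κ)) [LocallyOfFiniteType φ] (x : F) :
    FlatMor.localDim F x =
      (coheight x : WithBot ℕ∞) + topologicalKrullDim ↥(closure ({x} : Set F)) := by
  have hFN : IsLocallyNoetherian F := LocallyOfFiniteType.isLocallyNoetherian φ
  apply le_antisymm
  · apply localDim_le_of_forall_irreducibleComponents F x
    intro Z hZ hxZ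
    have hZc : IsClosed Z := isClosed_of_mem_irreducibleComponents Z hZ
    have hZirr : IsIrreducible Z := hZ.1
    obtain ⟨t, ht⟩ : ∃ t, IsGenericPoint t Z := ⟨_, hZirr.isGenericPoint_genericPoint hZc⟩
    have htx : t ⤳ x := ht.specializes hxZ
    rw [topologicalKrullDim_subtype_congr ht.def.symm, dim_closure_eq_coheight_add κ φ t x htx]
    refine add_le_add ?_ le_rfl
    exact_mod_cast coheight_subtype_le _ x htx.mem_closure
  · have hne := coheight_ne_top_of_isLocallyNoetherian F x
    obtain ⟨n, hn⟩ : ∃ n : ℕ, coheight x = n := by
      cases h : coheight x with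
      | top => exact absurd h hne
      | coe n => exact ⟨n, rfl⟩
    obtain ⟨t, hmax, htx, hco⟩ := exists_isMax_coheight_closure_eq F x n hn
    have hA := dim_closure_eq_coheight_add κ φ t x htx
    rw [hco] at hA
    rw [hn, ← hA, dim_irreducibleComponent_eq_localDim κ φ _
      (closure_mem_irreducibleComponents_of_isMax F t hmax) t isGenericPoint_closure]
    exact localDim_le_of_specializes htx

end Groth.Agent.H17.Chev
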