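import Groth.Agent.H17.Chev.Equidim9
import Groth.Agent.H17.Chev.BC
import Groth.Agent.H17.Chev.RedSubChev
import Groth.Agent.H17.Chev.Comp
import Groth.Agent.H17.Chev.LocDimField
import Groth.Agent.H17.Chev.EquiCodim

set_option autoImplicit false
set_option linter.unusedSectionVars false
set_option linter.style.haveILetI false
universe u
open CategoryTheory CategoryTheory.Limits AlgebraicGeometry Topology Order TopologicalSpace

namespace Groth.Agent.H17.Chev

/-- Every point `x` is a specialization of a maximal point `z` of its fibre at which the fibre has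
the same local dimension. -/
theorem exists_maximal_fibre_point_fibreDimAt_eq {X Y : Scheme.{u}} (f : X ⟶ Y)
    [LocallyOfFiniteType f] (x : X) :
    ∃ z : X, f.base z = f.base x ∧ z ⤳ x ∧
      (∀ z' : X, f.base z' = f.base z → z' ⤳ z → z' = z) ∧
      ringKrullDim ((f.fiber (f.base z)).presheaf.stalk (f.asFiber z)) = 0 ∧
      FlatMor.fibreDimAt f z = FlatMor.fibreDimAt f x := by
  have hlft : LocallyOfFiniteType (f.fiberToSpecResidueField (f.base x)) :=
    inferInstanceAs (LocallyOfFiniteType (pullback.snd f (Y.fromSpecResidueField (f.base x))))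
  have hFN : IsLocallyNoetherian (f.fiber (f.base x)) :=
    LocallyOfFiniteType.isLocallyNoetherian (f.fiberToSpecResidueField (f.base x))
  set w := f.asFiber x with hw
  have hιw : (f.fiberι (f.base x)).base w = x := f.fiberι_asFiber x
  have hne := coheight_ne_top_of_isLocallyNoetherian _ w
  obtain ⟨n, hn⟩ : ∃ n : ℕ, coheight w = n := by
    cases h : coheight w with
    | top => exact absurd h hne
    | coe n => exact ⟨n, rfl⟩
  obtain ⟨ξ, hξmax, hξw, hco⟩ := exists_isMax_coheight_closure_eq _ w n hn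
  have hfz : f.base ((f.fiberι (f.base x)).base ξ) = f.base x := map_fiberι f _ ξ
  have hinj : Function.Injective (f.fiberι (f.base x)).base :=
    (f.fiberι (f.base x)).isEmbedding.injective
  refine ⟨(f.fiberι (f.base x)).base ξ, hfz, ?_, ?_, ?_, ?_⟩
  · have := hξw.map (f.fiberι (f.base x)).continuous
    rwa [hιw] at this
  · intro z' hz'f hz'sp
    have : z' ∈ Set.range (f.fiberι (f.base x)).base := by
      rw [Scheme.Hom.range_fiberι]; exact hz'f.trans hfz
    obtain ⟨ξ', rfl⟩ := this
    have h1 : ξ' ⤳ ξ := (f.fiberι (f.base x)).isEmbedding.isInducing.specializes_iff.mp hz'sp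
    have h2 : ξ ⤳ ξ' := hξmax (show ξ ≤ ξ' from h1)
    rw [(h1.antisymm h2).eq]
  · rw [ringKrullDim_stalk_asFiber_eq f (f.base x) _ hfz ξ rfl, ringKrullDim_stalk_eq_coheight,
      coheight_eq_zero.mpr hξmax]
    rfl
  · rw [← localDim_fiber_eq_fibreDimAt f _ ξ]
    unfold FlatMor.fibreDimAt
    rw [localDim_eq_coheight_add (Y.residueField (f.base x))
        (f.fiberToSpecResidueField (f.base x)) ξ,
      localDim_eq_coheight_add (Y.residueField (f.base x))
        (f.fiberToSpecResidueField (f.base x)) w,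
      dim_closure_eq_coheight_add (Y.residueField (f.base x))
        (f.fiberToSpecResidueField (f.base x)) ξ w hξw, hco, hn, coheight_eq_zero.mpr hξmax]
    simp


/-- On an irreducible closed subscheme `V` of `X`, equidimensionality of `V ⟶ S` at a point `wz`
lying over a maximal point `z` of a fibre of `f` propagates to every point `wx` of `V` at which the
fibre of `f` has the same local dimension as at `z`. -/
theorem isEquidimAt_of_fibreDimAt_eq_of_maximal {X S V : Scheme.{u}} (f : X ⟶ S)
    [LocallyOfFiniteType f] (ι : V ⟶ X) [IsClosedImmersion ι] [IrreducibleSpace V] (wz wx : V)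
    (hEq : EGA43.IsEquidimAt (ι ≫ f) wz)
    (hz0 : ringKrullDim ((f.fiber (f.base (ι.base wz))).presheaf.stalk
      (f.asFiber (ι.base wz))) = 0)
    (hdim : FlatMor.fibreDimAt f (ι.base wz) = FlatMor.fibreDimAt f (ι.base wx)) :
    EGA43.IsEquidimAt (ι ≫ f) wx := by
  obtain ⟨e, U, hzU, hmaxU, hfibU⟩ := exists_opens_of_isEquidimAt (ι ≫ f) wz hEq
  have hξmax : IsMax (genericPoint ↥V) := fun b _ => genericPoint_specializes b
  have hξU : genericPoint ↥V ∈ U := (genericPoint_specializes wz).mem_open U.isOpen hzU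
  have hcompξ := hmaxU _ hξU hξmax
  have hsq : (ι ≫ f) ≫ 𝟙 S = ι ≫ f := Category.comp_id _
  have hlow : ∀ u : V, (e : WithBot ℕ∞) ≤ FlatMor.fibreDimAt (ι ≫ f) u := by
    intro u
    have h1 := dim_generic_le_localDim (ι ≫ f) Set.univ isClosed_univ (genericPoint ↥V)
      (genericPoint_spec ↥V) u (Set.mem_univ u)
    rw [localDim_univ_inter_eq_fibreDimAt] at h1
    have h2 : FlatMor.fibreDimAt (ι ≫ f) (genericPoint ↥V) ≤
        topologicalKrullDim ↥(Set.univ ∩ (ι ≫ f).base ⁻¹' {(ι ≫ f).base (genericPoint ↥V)}) := by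
      rw [← localDim_univ_inter_eq_fibreDimAt]
      exact localDim_le_dim _
    rw [hfibU _ hξU] at h2
    exact h2.trans h1
  have he : (e : WithBot ℕ∞) = FlatMor.fibreDimAt f (ι.base wz) := by
    rw [← hfibU wz hzU, sq_fibreDimAt f ι (𝟙 S) (ι ≫ f) hsq Function.injective_id wz]
    exact localDim_inter_fibre_eq_fibreDimAt f (ι.base wz) hz0 (Set.range ι.base)
      ι.isClosedEmbedding.isClosed_range ⟨wz, rfl⟩
  have hup : FlatMor.fibreDimAt (ι ≫ f) wx ≤ e := by
    rw [he, hdim, sq_fibreDimAt f ι (𝟙 S) (ι ≫ f) hsq Function.injective_id wx,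
      ← localDim_univ_inter_eq_fibreDimAt f (ι.base wx)]
    exact localDim_subtype_mono (Set.inter_subset_inter_left _ (Set.subset_univ _)) _ _
  let G : V.Opens := ⟨{u | FlatMor.fibreDimAt (ι ≫ f) u ≤ e}, isOpen_setOf_fibreDimAt_le (ι ≫ f) e⟩
  refine isEquidimAt_of_forall_fibreDimAt_eq (ι ≫ f) wx e G hup ?_ ?_
  · intro ξ' _ hmax'
    have h1 : genericPoint ↥V ⤳ ξ' := genericPoint_specializes ξ'
    have h2 : ξ' ⤳ genericPoint ↥V := hmax' (show ξ' ≤ genericPoint ↥V from h1)
    have h3 : ξ' = genericPoint ↥V := (h2.antisymm h1).eq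
    rw [h3]
    exact ⟨hcompξ, ((genericPoint_specializes wx).map (ι ≫ f).continuous).mem_closure⟩
  · intro u hu
    exact le_antisymm hu (hlow u)

end Groth.Agent.H17.Chev
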