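import Groth.Agent.S3449
import Groth.Agent.H48.FieldDim
import Groth.Agent.H17.Chev.RedSubChev
import Groth.Agent.H17.Chev.Main

set_option autoImplicit false
set_option linter.unusedSectionVars false
set_option linter.style.haveILetI false
universe u
open CategoryTheory CategoryTheory.Limits AlgebraicGeometry Topology Order TopologicalSpace

namespace Groth.Agent.H17.Chev

/-- `dim X = dim (closure of image) + dim of generic fibre` for schemes locally of finite type
over a field, `X` irreducible. -/
theorem topologicalKrullDim_eq_closure_range_add (k : Type u) [Field k] {X Y : Scheme.{u}}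
    (p : X ⟶ Spec (CommRingCat.of k)) (q : Y ⟶ Spec (CommRingCat.of k))
    [LocallyOfFiniteType p] [LocallyOfFiniteType q] [IrreducibleSpace X] (f : X ⟶ Y)
    (hf : f ≫ q = p) :
    topologicalKrullDim X = topologicalKrullDim ↥(closure (Set.range f.base)) +
      topologicalKrullDim ↥(f.fiber (f.base (genericPoint X))) := by
  have hlftf : LocallyOfFiniteType f := by
    have : LocallyOfFiniteType (f ≫ q) := by rw [hf]; infer_instance
    exact locallyOfFiniteType_of_comp f q
  obtain ⟨X₁, Y₁, iX, iY, f₁, hiX, hiY, hsq, hrX, hrY⟩ := exists_square f Set.univ isClosed_univ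
  have hξ := genericPoint_spec X
  set ξ := genericPoint X
  have hrY' : Set.range iY.base = closure {f.base ξ} := by
    rw [hrY, closure_image_eq_of_isGenericPoint f.base f.continuous Set.univ ξ hξ]
  rw [Set.image_univ] at hrY
  have hinj : Function.Injective iY.base := iY.isEmbedding.injective
  obtain ⟨aξ, haξ⟩ : ξ ∈ Set.range iX.base := hrX ▸ Set.mem_univ ξ
  obtain ⟨hX₁, hclX⟩ := irreducibleSpace_of_isEmbedding iX.base iX.isEmbedding aξ
    (by rw [hrX, haξ, hξ.def])
  obtain ⟨hY₁, hclY⟩ := irreducibleSpace_of_isEmbedding iY.base iY.isEmbedding (f₁.base aξ)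
    (by rw [hrY', sq_apply f iX iY f₁ hsq, haξ])
  have hgen : genericPoint Y₁ = f₁.base aξ := by
    have h1 : IsGenericPoint (f₁.base aξ) (Set.univ : Set Y₁) := hclY
    exact ((genericPoint_spec Y₁).eq h1)
  have hdom : IsDominant f₁ := by
    constructor
    rw [DenseRange, dense_iff_closure_eq, Set.eq_univ_iff_forall]
    intro t
    have : closure {f₁.base aξ} ⊆ closure (Set.range f₁.base) :=
      closure_mono (Set.singleton_subset_iff.mpr ⟨aξ, rfl⟩)
    exact this (hclY ▸ Set.mem_univ t)
  have hsq' : f₁ ≫ (iY ≫ q) = iX ≫ p := by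
    rw [← Category.assoc, hsq, Category.assoc, hf]
  have h2 : ∀ s : ↥(Spec (CommRingCat.of k)),
      CAlg.IsUniversallyCatenary ((Spec (CommRingCat.of k)).presheaf.stalk s) := fun s =>
    Groth.Agent.H48.FieldDim.isUniversallyCatenary_of_isField _
      (Groth.Agent.H48.FieldDim.isField_stalk_Spec s)
  have h3 : ∀ S' ∈ irreducibleComponents (↥(Spec (CommRingCat.of k)) : Type u), ∀ s ∈ S',
      IsClosed ({s} : Set ↥(Spec (CommRingCat.of k))) →
      topologicalKrullDim (↥S' : Type u) =
        topologicalKrullDim ↥{t : ↥(Spec (CommRingCat.of k)) | t ∈ S' ∧ t ⤳ s} := by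
    intro S' _ s hs _
    refine topologicalKrullDim_subtype_congr ?_
    ext t
    have : t = s := Subsingleton.elim (α := PrimeSpectrum k) t s
    subst this
    exact ⟨fun h => ⟨h, specializes_rfl⟩, fun h => h.1⟩
  have key := Groth.Agent.S3449.result h2 h3 (iX ≫ p) (iY ≫ q) f₁ hsq'
  rw [topologicalKrullDim_eq_of_isEmbedding iX.base iX.isEmbedding _ hrX,
    topologicalKrullDim_eq_of_isEmbedding iY.base iY.isEmbedding _ hrY,
    sq_dim_fiber f iX iY f₁ hsq hinj (genericPoint Y₁), hgen, hrX] at key
  have e1 : topologicalKrullDim ↥(Set.univ : Set X) = topologicalKrullDim X :=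
    (topologicalKrullDim_eq_of_isEmbedding id IsEmbedding.id _ Set.range_id).symm
  have e2 : topologicalKrullDim ↥(Set.univ ∩ f.base ⁻¹' {iY.base (f₁.base aξ)}) =
      topologicalKrullDim ↥(f.fiber (f.base ξ)) := by
    rw [← dim_univ_inter_eq_dim_fiber]
    exact topologicalKrullDim_subtype_congr (by rw [sq_apply f iX iY f₁ hsq, haξ])
  rw [e1, e2] at key
  exact key

end Groth.Agent.H17.Chev
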