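import Groth.Agent.H17.Chev.QFAff3
import Groth.Agent.S1386

set_option autoImplicit false
set_option linter.unusedSectionVars false
set_option linter.style.haveILetI false
universe u
open CategoryTheory CategoryTheory.Limits AlgebraicGeometry Topology Order TopologicalSpace

namespace Groth.Agent.H17.Chev

/-- If the stalk map of `f` at `x` is flat then generizations of `f x` lift to generizations of
`x`. -/
theorem exists_specializes_of_flat_stalkMap {X Y : Scheme.{u}} (f : X ⟶ Y) (x : X)
    (hf : (f.stalkMap x).hom.Flat) (y' : Y) (hy' : y' ⤳ f.base x) :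
    ∃ x' : X, x' ⤳ x ∧ f.base x' = y' := by
  have hsurj : Function.Surjective (PrimeSpectrum.comap (f.stalkMap x).hom) := by
    letI : Algebra (Y.presheaf.stalk (f.base x)) (X.presheaf.stalk x) :=
      (f.stalkMap x).hom.toAlgebra
    haveI : IsLocalHom (algebraMap (Y.presheaf.stalk (f.base x)) (X.presheaf.stalk x)) :=
      inferInstanceAs (IsLocalHom (f.stalkMap x).hom)
    haveI : Module.Flat (Y.presheaf.stalk (f.base x)) (X.presheaf.stalk x) := hf
    haveI : Module.FaithfullyFlat (Y.presheaf.stalk (f.base x)) (X.presheaf.stalk x) :=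
      Module.FaithfullyFlat.of_flat_of_isLocalHom
    exact PrimeSpectrum.comap_surjective_of_faithfullyFlat
  have hy'' : y' ∈ Set.range (Y.fromSpecStalk (f.base x)) := by
    rw [Scheme.range_fromSpecStalk]; exact hy'
  obtain ⟨p, rfl⟩ := hy''
  obtain ⟨q, rfl⟩ := hsurj p
  refine ⟨X.fromSpecStalk x q, ?_, ?_⟩
  · have : X.fromSpecStalk x q ∈ Set.range (X.fromSpecStalk x) := ⟨q, rfl⟩
    rw [Scheme.range_fromSpecStalk] at this
    exact this
  · have := Scheme.SpecMap_stalkMap_fromSpecStalk f (x := x)
    have h2 := congrArg (fun g => g.base q) this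
    exact h2.symm

/-- Maximality of a point in its fibre, in terms of the total space. -/
theorem isMax_asFiber_iff {X Y : Scheme.{u}} (f : X ⟶ Y) (x : X) :
    IsMax (f.asFiber x) ↔ ∀ x' : X, f.base x' = f.base x → x' ⤳ x → x ⤳ x' := by
  constructor
  · intro h x' hx' hsp
    have hmem : x' ∈ Set.range (f.fiberι (f.base x)).base := by
      rw [Scheme.Hom.range_fiberι]; exact hx'
    obtain ⟨w, rfl⟩ := hmem
    have h1 : (f.fiberι (f.base x)).base w ⤳ (f.fiberι (f.base x)).base (f.asFiber x) := by
      rw [f.fiberι_asFiber]; exact hsp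
    have h2 : w ⤳ f.asFiber x := (f.fiberι (f.base x)).isEmbedding.isInducing.specializes_iff.mp h1
    have h3 : f.asFiber x ⤳ w := h (show f.asFiber x ≤ w from h2)
    have h4 := h3.map (f.fiberι (f.base x)).continuous
    rw [f.fiberι_asFiber] at h4
    exact h4
  · intro h w hw
    have h1 : w ⤳ f.asFiber x := hw
    have h2 := h1.map (f.fiberι (f.base x)).continuous
    rw [f.fiberι_asFiber] at h2
    have hfw : f.base ((f.fiberι (f.base x)).base w) = f.base x := by
      have : (f.fiberι (f.base x)).base w ∈ Set.range (f.fiberι (f.base x)).base := ⟨w, rfl⟩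
      rw [Scheme.Hom.range_fiberι] at this
      exact this
    have h3 := h _ hfw h2
    have h4 : (f.fiberι (f.base x)).base (f.asFiber x) ⤳ (f.fiberι (f.base x)).base w := by
      rw [f.fiberι_asFiber]; exact h3
    exact (show f.asFiber x ⤳ w from
      (f.fiberι (f.base x)).isEmbedding.isInducing.specializes_iff.mp h4)

/-- At a maximal point of a fibre, the closure of the point in the fibre has dimension the local
fibre dimension. -/
theorem dim_closure_asFiber_eq_fibreDimAt_of_isMax_asFiber {X Y : Scheme.{u}} (f : X ⟶ Y)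
    [LocallyOfFiniteType f] (ξ : X) (hmax' : IsMax (f.asFiber ξ)) :
    topologicalKrullDim ↥(closure ({f.asFiber ξ} : Set ↥(f.fiber (f.base ξ)))) =
      FlatMor.fibreDimAt f ξ := by
  have hlft : LocallyOfFiniteType (f.fiberToSpecResidueField (f.base ξ)) :=
    inferInstanceAs (LocallyOfFiniteType (pullback.snd f (Y.fromSpecResidueField (f.base ξ))))
  have hZ := closure_mem_irreducibleComponents_of_isMax _ (f.asFiber ξ) hmax'
  have h1 := dim_irreducibleComponent_eq_localDim (Y.residueField (f.base ξ))
    (f.fiberToSpecResidueField (f.base ξ)) _ hZ (f.asFiber ξ) isGenericPoint_closure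
  rw [h1]
  rfl

/-- The local fibre dimension does not decrease under specialization inside a fibre. -/
theorem fibreDimAt_le_of_specializes_of_eq {X Y : Scheme.{u}} (f : X ⟶ Y) (z x : X) (h : z ⤳ x)
    (he : f.base z = f.base x) : FlatMor.fibreDimAt f z ≤ FlatMor.fibreDimAt f x := by
  rw [fibreDimAt_eq, fibreDimAt_eq]
  have key : ∀ (y : Y) (hz : f.base z = y),
      FlatMor.localDim ↥(f.base ⁻¹' {f.base z}) ⟨z, rfl⟩ =
        FlatMor.localDim ↥(f.base ⁻¹' {y}) ⟨z, hz⟩ := by
    intro y hz; subst hz; rfl
  rw [key (f.base x) he]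
  apply localDim_le_of_specializes
  exact (subtype_specializes_iff _ _).mpr h

end Groth.Agent.H17.Chev
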