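import Groth.Agent.H17.Chev.FlatLC

set_option autoImplicit false
set_option linter.unusedSectionVars false
set_option linter.style.haveILetI false
universe u
open CategoryTheory CategoryTheory.Limits AlgebraicGeometry Topology Order TopologicalSpace

namespace Groth.Agent.H17.Chev

section

variable {X Y : Scheme.{u}} (e : ℕ)

/-- a point of affine space specializing to all points of its fibre has dense closure in its
fibre -/
theorem closure_asFiber_eq_univ_of_forall_specializes (p : 𝔸(ULift.{u} (Fin e); Y))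
    (hp : ∀ p' : 𝔸(ULift.{u} (Fin e); Y), (𝔸(ULift.{u} (Fin e); Y) ↘ Y).base p' =
      (𝔸(ULift.{u} (Fin e); Y) ↘ Y).base p → p ⤳ p') :
    closure ({(𝔸(ULift.{u} (Fin e); Y) ↘ Y).asFiber p} :
      Set ↥((𝔸(ULift.{u} (Fin e); Y) ↘ Y).fiber ((𝔸(ULift.{u} (Fin e); Y) ↘ Y).base p))) =
        Set.univ := by
  set q := 𝔸(ULift.{u} (Fin e); Y) ↘ Y with hq_def
  rw [Set.eq_univ_iff_forall]
  intro w
  have hqw : q.base ((q.fiberι (q.base p)).base w) = q.base p := by
    have : (q.fiberι (q.base p)).base w ∈ Set.range (q.fiberι (q.base p)).base := ⟨w, rfl⟩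
    rw [Scheme.Hom.range_fiberι] at this
    exact this
  have h1 := hp _ hqw
  have h2 : (q.fiberι (q.base p)).base (q.asFiber p) ⤳ (q.fiberι (q.base p)).base w := by
    rw [q.fiberι_asFiber]; exact h1
  have h3 : q.asFiber p ⤳ w := (q.fiberι (q.base p)).isEmbedding.isInducing.specializes_iff.mp h2
  exact h3.mem_closure

/-- lower bound for the fibre dimension at a point where a locally quasi-finite morphism to
`𝔸^e_Y` is flat -/
theorem le_fibreDimAt_comp_over_of_flat (g : X ⟶ 𝔸(ULift.{u} (Fin e); Y)) [LocallyQuasiFinite g]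
    [LocallyOfFiniteType (g ≫ (𝔸(ULift.{u} (Fin e); Y) ↘ Y))] (t : X)
    (hflat : (g.stalkMap t).hom.Flat) :
    (e : WithBot ℕ∞) ≤ FlatMor.fibreDimAt (g ≫ (𝔸(ULift.{u} (Fin e); Y) ↘ Y)) t := by
  set q := 𝔸(ULift.{u} (Fin e); Y) ↘ Y with hq_def
  set s := q.base (g.base t) with hs
  set γ := (q.fiberι s).base (genericPoint ↥(q.fiber s)) with hγ
  have hqγ : q.base γ = s := by
    have : γ ∈ Set.range (q.fiberι s).base := ⟨_, rfl⟩
    rw [Scheme.Hom.range_fiberι] at this
    exact this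
  have hγsp : ∀ p' : 𝔸(ULift.{u} (Fin e); Y), q.base p' = s → γ ⤳ p' := by
    intro p' hp'
    have hmem : p' ∈ Set.range (q.fiberι s).base := by
      rw [Scheme.Hom.range_fiberι]; exact hp'
    obtain ⟨w, rfl⟩ := hmem
    exact ((genericPoint_spec _).specializes (Set.mem_univ w)).map (q.fiberι s).continuous
  obtain ⟨t', ht't, hgt'⟩ := exists_specializes_of_flat_stalkMap g t hflat γ (hγsp _ rfl)
  have hft' : (g ≫ q).base t' = (g ≫ q).base t := by
    change q.base (g.base t') = q.base (g.base t)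
    rw [hgt', hqγ]
  refine le_trans ?_ (fibreDimAt_le_of_specializes_of_eq (g ≫ q) t' t ht't hft')
  rw [fibreDimAt_eq_stalk_add (g ≫ q) t', dim_closure_asFiber_comp_lqf g q t']
  have hcl := closure_asFiber_eq_univ_of_forall_specializes e (g.base t') (by
    intro p' hp'
    rw [hgt'] at hp' ⊢
    exact hγsp p' (hp'.trans hqγ))
  rw [hcl]
  have hdim : topologicalKrullDim ↥(Set.univ : Set ↥(q.fiber (q.base (g.base t')))) = e := by
    rw [← dim_fiber_affineSpace Y e (q.base (g.base t'))]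
    exact IsHomeomorph.topologicalKrullDim_eq _ (Homeomorph.Set.univ _).isHomeomorph
  rw [hdim]
  have h0 : (0 : WithBot ℕ∞) ≤ ringKrullDim
      (((g ≫ q).fiber ((g ≫ q).base t')).presheaf.stalk ((g ≫ q).asFiber t')) :=
    ringKrullDim_nonneg_of_nontrivial
  calc (e : WithBot ℕ∞) = 0 + e := (zero_add _).symm
    _ ≤ _ := add_le_add h0 le_rfl

/-- a locally quasi-finite morphism to `𝔸^e_Y`, flat at `t`, has fibre dimension `e` over `Y`
at `t` -/
theorem fibreDimAt_comp_over_eq_of_flat (g : X ⟶ 𝔸(ULift.{u} (Fin e); Y)) [LocallyQuasiFinite g]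
    [LocallyOfFiniteType (g ≫ (𝔸(ULift.{u} (Fin e); Y) ↘ Y))] (t : X)
    (hflat : (g.stalkMap t).hom.Flat) :
    FlatMor.fibreDimAt (g ≫ (𝔸(ULift.{u} (Fin e); Y) ↘ Y)) t = e :=
  le_antisymm (fibreDimAt_comp_over_le_of_lqf e g t) (le_fibreDimAt_comp_over_of_flat e g t hflat)

end

end Groth.Agent.H17.Chev
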