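import Groth.Agent.H17.Chev.FlatLC2

set_option autoImplicit false
set_option linter.unusedSectionVars false
set_option linter.style.haveILetI false
universe u
open CategoryTheory CategoryTheory.Limits AlgebraicGeometry Topology Order TopologicalSpace

namespace Groth.Agent.H17.Chev

/-- A ring homomorphism out of a field is flat. -/
theorem flat_of_isField {R T : Type*} [CommRing R] [CommRing T] (φ : R →+* T) (hR : IsField R) :
    φ.Flat := by
  letI := hR.toField
  letI : Algebra R T := φ.toAlgebra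
  exact (inferInstance : Module.Flat R T)

section

variable {X Y : Scheme.{u}} (e : ℕ)

/-- The morphism of fibres induced by a locally quasi-finite `g : X ⟶ 𝔸^e_Y` is flat at a
maximal point of a fibre where the fibre has dimension `e`. -/
theorem flat_stalkMap_fiberMap_of_isMax (g : X ⟶ 𝔸(ULift.{u} (Fin e); Y)) [LocallyQuasiFinite g]
    [LocallyOfFiniteType (g ≫ (𝔸(ULift.{u} (Fin e); Y) ↘ Y))] (z : X)
    (hmax : IsMax ((g ≫ (𝔸(ULift.{u} (Fin e); Y) ↘ Y)).asFiber z))
    (hd : FlatMor.fibreDimAt (g ≫ (𝔸(ULift.{u} (Fin e); Y) ↘ Y)) z = e) :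
    ((MoreMor.fiberMap g (𝔸(ULift.{u} (Fin e); Y) ↘ Y)
      ((𝔸(ULift.{u} (Fin e); Y) ↘ Y).base (g.base z))).stalkMap
        ((g ≫ (𝔸(ULift.{u} (Fin e); Y) ↘ Y)).asFiber z)).hom.Flat := by
  set q := 𝔸(ULift.{u} (Fin e); Y) ↘ Y with hq_def
  apply flat_of_isField
  -- the image point is `q.asFiber (g z)`
  have hp : (MoreMor.fiberMap g q (q.base (g.base z))).base ((g ≫ q).asFiber z) =
      q.asFiber (g.base z) := by
    apply (q.fiberι (q.base (g.base z))).isEmbedding.injective
    rw [q.fiberι_asFiber]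
    have h1 : MoreMor.fiberMap g q (q.base (g.base z)) ≫ q.fiberι (q.base (g.base z)) =
        (g ≫ q).fiberι (q.base (g.base z)) ≫ g := pullback.lift_fst _ _ _
    have h2 : (q.fiberι (q.base (g.base z))).base
        ((MoreMor.fiberMap g q (q.base (g.base z))).base ((g ≫ q).asFiber z)) =
        g.base (((g ≫ q).fiberι (q.base (g.base z))).base ((g ≫ q).asFiber z)) :=
      congrArg (fun m => m.base ((g ≫ q).asFiber z)) h1
    refine h2.trans ?_
    exact congrArg g.base ((g ≫ q).fiberι_asFiber z)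
  -- it is the generic point
  have hdim : (e : WithBot ℕ∞) ≤ topologicalKrullDim
      ↥(closure ({q.asFiber (g.base z)} : Set ↥(q.fiber (q.base (g.base z))))) := by
    rw [← dim_closure_asFiber_comp_lqf g q z,
      dim_closure_asFiber_eq_fibreDimAt_of_isMax_asFiber (g ≫ q) z hmax, hd]
  have huniv := eq_univ_of_isClosed_of_natCast_le_dim
    (closure ({q.asFiber (g.base z)} : Set ↥(q.fiber (q.base (g.base z))))) isClosed_closure e
    (dim_fiber_affineSpace Y e (q.base (g.base z))).le hdim
  have hgen : q.asFiber (g.base z) = genericPoint ↥(q.fiber (q.base (g.base z))) :=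
    ((genericPoint_spec ↥(q.fiber (q.base (g.base z)))).eq
      (show IsGenericPoint (q.asFiber (g.base z)) Set.univ from huniv)).symm
  rw [hp, hgen]
  exact Field.toIsField (q.fiber (q.base (g.base z))).functionField

/-- **Local constancy of the fibre dimension of a flat morphism locally of finite presentation
near the generic points of the irreducible components of the fibres.** -/
theorem exists_open_fibreDimAt_eq_of_flat {X S : Scheme.{u}} (f : X ⟶ S) [Flat f]
    [LocallyOfFinitePresentation f] (z : X) (hz : IsMax (f.asFiber z)) :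
    ∃ W : X.Opens, z ∈ W ∧ ∀ x' ∈ W, FlatMor.fibreDimAt f x' = FlatMor.fibreDimAt f z := by
  obtain ⟨d, hd⟩ := exists_nat_eq_fibreDimAt f z
  obtain ⟨W, g, hzW, hg, hqf⟩ := exists_lqf_affineSpace_of_fibreDimAt_eq f z d hd
  set q := 𝔸(ULift.{u} (Fin d); S) ↘ S with hq_def
  haveI hlfp : LocallyOfFinitePresentation (g ≫ q) := by rw [hg]; infer_instance
  haveI hfl : Flat (g ≫ q) := by rw [hg]; infer_instance
  obtain ⟨hcrit, hopen⟩ := Groth.Agent.S1386.result g q
  let z' : ↥(W : Scheme.{u}) := ⟨z, hzW⟩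
  have hmaxW : IsMax ((g ≫ q).asFiber z') := by
    rw [isMax_asFiber_iff]
    intro t ht hsp
    have ht' : f.base t.1 = f.base z := by
      have h1 := congrArg (fun m => m.base t) hg
      have h2 := congrArg (fun m => m.base z') hg
      exact h1.symm.trans (ht.trans h2)
    have h3 := (isMax_asFiber_iff f z).mp hz t.1 ht' ((subtype_specializes_iff t z').mp hsp)
    exact (subtype_specializes_iff z' t).mpr h3
  have hdW : FlatMor.fibreDimAt (g ≫ q) z' = d := by
    rw [hg, fibreDimAt_ι_comp f W z']; exact hd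
  have h1 : ((g ≫ q).stalkMap z').hom.Flat := Flat.stalkMap (g ≫ q) z'
  have h2 := flat_stalkMap_fiberMap_of_isMax d g z' hmaxW hdW
  have h3 := (hcrit z').mp ⟨h1, h2⟩
  refine ⟨W.ι ''ᵁ ⟨_, hopen⟩, ⟨z', h3, rfl⟩, ?_⟩
  rintro _ ⟨t, ht, rfl⟩
  rw [hd]
  have h5 : FlatMor.fibreDimAt f (W.ι.base t) = FlatMor.fibreDimAt (W.ι ≫ f) t :=
    (fibreDimAt_ι_comp f W t).symm
  refine h5.trans ?_
  rw [← hg]
  exact fibreDimAt_comp_over_eq_of_flat d g t ht.2

end

end Groth.Agent.H17.Chev
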