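import Groth.Agent.H17.Chev.CompDim

set_option autoImplicit false
set_option linter.unusedSectionVars false
set_option linter.style.haveILetI false
universe u
open CategoryTheory CategoryTheory.Limits AlgebraicGeometry Topology Order TopologicalSpace

namespace Groth.Agent.H17.Chev

/-- In a locally Noetherian scheme, the local dimension at `x` is bounded by the dimensions of the
irreducible components through `x`. -/
theorem localDim_le_of_forall_irreducibleComponents (F : Scheme.{u}) [IsLocallyNoetherian F]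
    (x : F) (D : WithBot ℕ∞)
    (h : ∀ Z ∈ irreducibleComponents (F : Type u), x ∈ Z → topologicalKrullDim ↥Z ≤ D) :
    FlatMor.localDim F x ≤ D := by
  obtain ⟨_, ⟨U, hU, rfl⟩, hxU, -⟩ := F.isBasis_affineOpens.exists_subset_of_mem_open
    (Set.mem_univ x) isOpen_univ
  replace hU : IsAffineOpen U := hU
  have hUN : NoetherianSpace ↥U := by
    have : IsNoetherianRing Γ(F, U) := IsLocallyNoetherian.component_noetherian ⟨U, hU⟩
    exact noetherianSpace_of_isAffineOpen U hU
  -- the components of `U` not containing `x`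
  have hfin := NoetherianSpace.finite_irreducibleComponents (α := ↥U)
  set bad : Set (Set ↥U) := {Z' | Z' ∈ irreducibleComponents ↥U ∧ (⟨x, hxU⟩ : ↥U) ∉ Z'} with hbad
  have hbadfin : bad.Finite := hfin.subset (fun Z' hZ' => hZ'.1)
  have hbadcl : IsClosed (⋃₀ bad) := by
    rw [Set.sUnion_eq_biUnion]
    exact hbadfin.isClosed_biUnion (fun Z' hZ' => isClosed_of_mem_irreducibleComponents Z' hZ'.1)
  -- the good open neighbourhood
  set W : Set F := Subtype.val '' ((⋃₀ bad)ᶜ : Set ↥U) with hW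
  have hWopen : IsOpen W := U.isOpen.isOpenMap_subtype_val _ hbadcl.isOpen_compl
  have hxW : x ∈ W := by
    refine ⟨⟨x, hxU⟩, ?_, rfl⟩
    rintro ⟨Z', hZ', hxZ'⟩
    exact hZ'.2 hxZ'
  have hWU : W ⊆ (U : Set F) := by
    rintro _ ⟨t, -, rfl⟩; exact t.2
  refine (localDim_le_dim_of_mem x ⟨W, hWopen⟩ hxW).trans ?_
  apply topologicalKrullDim_le_of_forall_irreducibleComponents
  intro C hC
  -- `C` lies in a component `Z` of `F`
  have hCirr : IsIrreducible (Subtype.val '' C : Set F) :=
    hC.1.image _ continuous_subtype_val.continuousOn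
  obtain ⟨Z, hZ, hCZ⟩ := exists_mem_irreducibleComponents_subset_of_isIrreducible _ hCirr
  have hZc : IsClosed Z := isClosed_of_mem_irreducibleComponents Z hZ
  -- `Z ∩ U` lies in a component `Z'` of `U`
  obtain ⟨c, hc⟩ := hC.1.nonempty
  have hcW : (c : F) ∈ W := c.2
  have hcU : (c : F) ∈ (U : Set F) := hWU hcW
  have hcZ : (c : F) ∈ Z := hCZ ⟨c, hc, rfl⟩
  have hZUirr : IsIrreducible ((Subtype.val : ↥U → F) ⁻¹' Z) := by
    refine ⟨⟨⟨c, hcU⟩, hcZ⟩, ?_⟩
    exact hZ.1.isPreirreducible.preimage U.isOpen.isOpenEmbedding_subtypeVal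
  obtain ⟨Z', hZ', hZZ'⟩ := exists_mem_irreducibleComponents_subset_of_isIrreducible _ hZUirr
  -- `x ∈ Z'`
  have hxZ' : (⟨x, hxU⟩ : ↥U) ∈ Z' := by
    by_contra hcon
    obtain ⟨t, ht, htc⟩ := hcW
    have htZ' : t ∈ Z' := by
      apply hZZ'
      change (t : F) ∈ Z
      rw [htc]; exact hcZ
    exact ht ⟨Z', ⟨hZ', hcon⟩, htZ'⟩
  -- `closure Z' = Z`
  have hZ'cl : IsIrreducible (closure (Subtype.val '' Z' : Set F)) :=
    (hZ'.1.image _ continuous_subtype_val.continuousOn).closure
  have hZsub : Z ⊆ closure (Subtype.val '' Z' : Set F) := by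
    have h1 : Z ⊆ closure (Z ∩ (U : Set F)) :=
      subset_closure_inter_of_isPreirreducible_of_isOpen hZ.1.isPreirreducible U.isOpen
        ⟨c, hcZ, hcU⟩
    refine h1.trans (closure_mono ?_)
    rintro t ⟨htZ, htU⟩
    exact ⟨⟨t, htU⟩, hZZ' htZ, rfl⟩
  have hZeq : closure (Subtype.val '' Z' : Set F) ⊆ Z := hZ.2 hZ'cl hZsub
  have hxZ : x ∈ Z := hZeq (subset_closure ⟨⟨x, hxU⟩, hxZ', rfl⟩)
  refine le_trans ?_ (h Z hZ hxZ)
  -- `C` embeds into `Z`
  let g : ↥C → ↥Z := fun t => ⟨(t.1 : F), hCZ ⟨t.1, t.2, rfl⟩⟩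
  have hg : IsInducing g := by
    have h1 : IsInducing (fun t : ↥C => (t.1 : F)) :=
      IsInducing.subtypeVal.comp IsInducing.subtypeVal
    have hgc : Continuous g := Continuous.subtype_mk
      (continuous_subtype_val.comp continuous_subtype_val) _
    exact IsInducing.of_comp hgc continuous_subtype_val h1
  exact hg.topologicalKrullDim_le

end Groth.Agent.H17.Chev
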