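import Groth.Agent.H17.Chev.FlatLC3
import Groth.Agent.H17.Chev.LocMax
import Groth.Agent.H17.Chev.Equidim8

set_option autoImplicit false
set_option linter.unusedSectionVars false
set_option linter.style.haveILetI false
universe u
open CategoryTheory CategoryTheory.Limits AlgebraicGeometry Topology Order TopologicalSpace

namespace Groth.Agent.H17.Chev

/-- a maximal point of a fibre, viewed in the total space, is maximal in its own fibre -/
theorem isMax_asFiber_fiberι {X Y : Scheme.{u}} (f : X ⟶ Y) (s : Y) (ζ : ↥(f.fiber s))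
    (h : IsMax ζ) : IsMax (f.asFiber ((f.fiberι s).base ζ)) := by
  rw [isMax_asFiber_iff]
  intro x' hx' hsp
  have hfz : f.base ((f.fiberι s).base ζ) = s := by
    have : (f.fiberι s).base ζ ∈ Set.range (f.fiberι s).base := ⟨ζ, rfl⟩
    rw [Scheme.Hom.range_fiberι] at this
    exact this
  have hmem : x' ∈ Set.range (f.fiberι s).base := by
    rw [Scheme.Hom.range_fiberι]; exact hx'.trans hfz
  obtain ⟨w, rfl⟩ := hmem
  have h2 : w ⤳ ζ := (f.fiberι s).isEmbedding.isInducing.specializes_iff.mp hsp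
  have h3 : ζ ⤳ w := h (show ζ ≤ w from h2)
  exact h3.map (f.fiberι s).continuous

/-- If `c < dim X_s` there is a maximal point `ζ` of the fibre with `c <` the local fibre dimension
there. -/
theorem exists_isMax_lt_fibreDimAt {X Y : Scheme.{u}} (f : X ⟶ Y) [LocallyOfFiniteType f] (s : Y)
    (c : WithBot ℕ∞) (hc : c < topologicalKrullDim ↥(f.fiber s)) :
    ∃ ζ : ↥(f.fiber s), IsMax ζ ∧ c < FlatMor.fibreDimAt f ((f.fiberι s).base ζ) := by
  have hlft : LocallyOfFiniteType (f.fiberToSpecResidueField s) :=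
    inferInstanceAs (LocallyOfFiniteType (pullback.snd f (Y.fromSpecResidueField s)))
  have hFN : IsLocallyNoetherian (f.fiber s) :=
    LocallyOfFiniteType.isLocallyNoetherian (f.fiberToSpecResidueField s)
  rw [topologicalKrullDim_eq_iSup_localDim, lt_iSup_iff] at hc
  obtain ⟨w, hw⟩ := hc
  by_contra hcon
  push Not at hcon
  have := localDim_le_of_forall_irreducibleComponents (f.fiber s) w c (by
    intro Z hZ hwZ
    have hZc : IsClosed Z := isClosed_of_mem_irreducibleComponents Z hZ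
    obtain ⟨ζ, hζ⟩ : ∃ ζ, IsGenericPoint ζ Z := ⟨_, hZ.1.isGenericPoint_genericPoint hZc⟩
    have hmax : IsMax ζ := isMax_of_isGenericPoint_irreducibleComponent _ Z hZ ζ hζ
    rw [dim_irreducibleComponent_eq_localDim (Y.residueField s) (f.fiberToSpecResidueField s) Z hZ
      ζ hζ, localDim_fiber_eq_fibreDimAt]
    exact hcon ζ hmax)
  exact absurd hw (not_lt.mpr this)

/-- **Lower semicontinuity of the fibre dimension of a flat morphism locally of finite
presentation.** -/
theorem isOpen_setOf_lt_dim_fiber_of_flat {X S : Scheme.{u}} (f : X ⟶ S) [Flat f]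
    [LocallyOfFinitePresentation f] (c : WithBot ℕ∞) :
    IsOpen {s : S | c < topologicalKrullDim ↥(f.fiber s)} := by
  rw [isOpen_iff_forall_mem_open]
  intro s hs
  obtain ⟨ζ, hmax, hζ⟩ := exists_isMax_lt_fibreDimAt f s c hs
  set z := (f.fiberι s).base ζ with hz
  have hfz : f.base z = s := by
    have : z ∈ Set.range (f.fiberι s).base := ⟨ζ, rfl⟩
    rw [Scheme.Hom.range_fiberι] at this
    exact this
  obtain ⟨W, hzW, hW⟩ := exists_open_fibreDimAt_eq_of_flat f z (isMax_asFiber_fiberι f s ζ hmax)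
  refine ⟨f.base '' (W : Set X), ?_, f.isOpenMap _ W.2, ⟨z, hzW, hfz⟩⟩
  rintro _ ⟨x', hx', rfl⟩
  change c < topologicalKrullDim ↥(f.fiber (f.base x'))
  refine lt_of_lt_of_le ?_ (fibreDimAt_le_dim_fiber f x')
  rw [hW x' hx']
  exact hζ

/-- the opens where the fibre dimension is locally constant equal to `d` -/
noncomputable def fibreDimOpen {X S : Scheme.{u}} (f : X ⟶ S) (d : ℕ) : X.Opens :=
  ⟨interior {x : X | FlatMor.fibreDimAt f x = d}, isOpen_interior⟩

theorem fibreDimAt_eq_of_mem_fibreDimOpen {X S : Scheme.{u}} (f : X ⟶ S) (d : ℕ) (x : X)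
    (hx : x ∈ fibreDimOpen f d) : FlatMor.fibreDimAt f x = d := by
  have h : x ∈ interior {x : X | FlatMor.fibreDimAt f x = d} := hx
  have h2 : x ∈ {x : X | FlatMor.fibreDimAt f x = d} := interior_subset h
  exact h2

theorem dense_preimage_iSup_fibreDimOpen {X S : Scheme.{u}} (f : X ⟶ S) [Flat f]
    [LocallyOfFinitePresentation f] (s : S) :
    Dense ((f.fiberι s).base ⁻¹' ((⨆ d, fibreDimOpen f d : X.Opens) : Set ↑X)) := by
  have hlft : LocallyOfFiniteType (f.fiberToSpecResidueField s) :=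
    inferInstanceAs (LocallyOfFiniteType (pullback.snd f (S.fromSpecResidueField s)))
  have hFN : IsLocallyNoetherian (f.fiber s) :=
    LocallyOfFiniteType.isLocallyNoetherian (f.fiberToSpecResidueField s)
  rw [dense_iff_inter_open]
  rintro O hO ⟨w, hw⟩
  obtain ⟨ζ, hmax, hζw⟩ := exists_isMax_specializes (f.fiber s) w
  have hζO : ζ ∈ O := hζw.mem_open hO hw
  refine ⟨ζ, hζO, ?_⟩
  set z := (f.fiberι s).base ζ with hz
  obtain ⟨W, hzW, hW⟩ := exists_open_fibreDimAt_eq_of_flat f z (isMax_asFiber_fiberι f s ζ hmax)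
  obtain ⟨d, hd⟩ := exists_nat_eq_fibreDimAt f z
  change z ∈ ((⨆ d, fibreDimOpen f d : X.Opens) : Set ↑X)
  refine TopologicalSpace.Opens.mem_iSup.mpr ⟨d, ?_⟩
  change z ∈ interior {x : X | FlatMor.fibreDimAt f x = d}
  rw [mem_interior]
  exact ⟨W, fun x' hx' => (hW x' hx').trans hd, W.2, hzW⟩

/-- flat + locally quasi-finite to `𝔸^d_S` forces constant fibre dimension `d` -/
theorem fibreDimAt_eq_of_flat_lqf_chart {X S : Scheme.{u}} (f : X ⟶ S) [LocallyOfFiniteType f]
    (d : ℕ) (U : X.Opens) (g : (U : Scheme.{u}) ⟶ 𝔸(ULift.{u} (Fin d); S))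
    (hg : g ≫ (𝔸(ULift.{u} (Fin d); S) ↘ S) = U.ι ≫ f) [Flat g] [LocallyQuasiFinite g]
    (t : ↥(U : Scheme.{u})) : FlatMor.fibreDimAt f t.1 = d := by
  haveI : LocallyOfFiniteType (g ≫ (𝔸(ULift.{u} (Fin d); S) ↘ S)) := by rw [hg]; infer_instance
  have h5 : FlatMor.fibreDimAt f t.1 = FlatMor.fibreDimAt (U.ι ≫ f) t :=
    (fibreDimAt_ι_comp f U t).symm
  rw [h5, ← hg]
  exact fibreDimAt_comp_over_eq_of_flat d g t (Flat.stalkMap g t)

end Groth.Agent.H17.Chev
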