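import Groth.Agent.H17.Chev.MaxPt

set_option autoImplicit false
set_option linter.unusedSectionVars false
set_option linter.style.haveILetI false
universe u
open CategoryTheory CategoryTheory.Limits AlgebraicGeometry Topology Order TopologicalSpace

namespace Groth.Agent.H17.Chev

/-- In a locally Noetherian scheme an affine open contains finitely many maximal points. -/
theorem finite_setOf_isMax_mem_affineOpen (F : Scheme.{u}) [IsLocallyNoetherian F] (W : F.Opens)
    (hW : IsAffineOpen W) : {w : F | w ∈ W ∧ IsMax w}.Finite := by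
  have hWN : NoetherianSpace ↥W := by
    have : IsNoetherianRing Γ(F, W) := IsLocallyNoetherian.component_noetherian ⟨W, hW⟩
    exact noetherianSpace_of_isAffineOpen W hW
  have hQS : QuasiSober ↥W := W.isOpen.isOpenEmbedding_subtypeVal.quasiSober
  have hfin : (irreducibleComponents ↥W).Finite := NoetherianSpace.finite_irreducibleComponents
  have hfin' : {w' : ↥W | IsMax w'.1}.Finite := by
    refine Set.Finite.of_injOn (f := fun w' : ↥W => closure ({w'} : Set ↥W)) ?_ ?_ hfin
    · intro w' hw'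
      apply closure_mem_irreducibleComponents_of_forall_specializes
      intro t ht
      have h1 : t.1 ⤳ w'.1 := ht.map continuous_subtype_val
      have h2 : w'.1 ⤳ t.1 := hw' (show w'.1 ≤ t.1 from h1)
      exact IsInducing.subtypeVal.specializes_iff.mp h2
    · intro a _ b _ hab
      have ha : IsGenericPoint a (closure ({a} : Set ↥W)) := rfl
      have hb : IsGenericPoint b (closure ({a} : Set ↥W)) := by
        change closure ({b} : Set ↥W) = _
        exact hab.symm
      exact ha.eq hb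
  refine (hfin'.image Subtype.val).subset ?_
  rintro w ⟨hwW, hmax⟩
  exact ⟨⟨w, hwW⟩, hmax, rfl⟩

/-- Near a point, a fibre of a morphism locally of finite type has finitely many maximal points. -/
theorem exists_open_finite_maximal_fibre_points {X Y : Scheme.{u}} (f : X ⟶ Y)
    [LocallyOfFiniteType f] (x : X) :
    ∃ O : X.Opens, x ∈ O ∧ {z : X | z ∈ O ∧ f.base z = f.base x ∧
      ∀ z' : X, f.base z' = f.base x → z' ⤳ z → z' = z}.Finite := by
  have hlft : LocallyOfFiniteType (f.fiberToSpecResidueField (f.base x)) :=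
    inferInstanceAs (LocallyOfFiniteType (pullback.snd f (Y.fromSpecResidueField (f.base x))))
  have : IsLocallyNoetherian (f.fiber (f.base x)) :=
    LocallyOfFiniteType.isLocallyNoetherian (f.fiberToSpecResidueField (f.base x))
  obtain ⟨_, ⟨W, hW, rfl⟩, hxW, -⟩ :=
    (f.fiber (f.base x)).isBasis_affineOpens.exists_subset_of_mem_open
      (Set.mem_univ (f.asFiber x)) isOpen_univ
  replace hW : IsAffineOpen W := hW
  obtain ⟨O, hO, hOW⟩ := (f.fiberι (f.base x)).isEmbedding.isInducing.isOpen_iff.mp W.isOpen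
  refine ⟨⟨O, hO⟩, ?_, ?_⟩
  · have : f.asFiber x ∈ (f.fiberι (f.base x)).base ⁻¹' O := hOW ▸ hxW
    rw [Set.mem_preimage, f.fiberι_asFiber] at this
    exact this
  · refine ((finite_setOf_isMax_mem_affineOpen _ W hW).image (f.fiberι (f.base x)).base).subset ?_
    rintro z ⟨hzO, hzf, hzmax⟩
    have : z ∈ Set.range (f.fiberι (f.base x)).base := by
      rw [Scheme.Hom.range_fiberι]; exact hzf
    obtain ⟨w, rfl⟩ := this
    refine ⟨w, ⟨?_, ?_⟩, rfl⟩
    · have : w ∈ (f.fiberι (f.base x)).base ⁻¹' O := hzO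
      rw [hOW] at this
      exact this
    · intro w' hww'
      have h1 : w' ⤳ w := hww'
      have h2 := h1.map (f.fiberι (f.base x)).continuous
      have h3 : f.base ((f.fiberι (f.base x)).base w') = f.base x := by
        have : (f.fiberι (f.base x)).base w' ∈ Set.range (f.fiberι (f.base x)).base := ⟨w', rfl⟩
        rw [Scheme.Hom.range_fiberι] at this
        exact this
      have h4 := hzmax _ h3 h2
      have h5 : w' = w := (f.fiberι (f.base x)).isEmbedding.injective h4
      rw [h5]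

/-- **Prime avoidance** for the maximal points of a fibre: if `x` is not a maximal point of its
fibre, then on a small affine open neighbourhood `U` of `x` there is a section vanishing at `x`
and at no maximal point of the fibre in `U`. -/
theorem exists_section_avoiding_maximal_fibre_points {X Y : Scheme.{u}} (f : X ⟶ Y)
    [LocallyOfFiniteType f] (x : X)
    (hx : ∃ x' : X, f.base x' = f.base x ∧ x' ≠ x ∧ x' ⤳ x) (O : X.Opens) (hxO : x ∈ O) :
    ∃ U : X.Opens, IsAffineOpen U ∧ x ∈ U ∧ U ≤ O ∧ ∃ g : Γ(X, U), x ∉ X.basicOpen g ∧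
      ∀ z : X, f.base z = f.base x → (∀ z' : X, f.base z' = f.base x → z' ⤳ z → z' = z) →
        z ∈ U → z ∈ X.basicOpen g := by
  classical
  obtain ⟨O', hxO', hfin⟩ := exists_open_finite_maximal_fibre_points f x
  obtain ⟨_, ⟨U, hU, rfl⟩, hxU, hUO⟩ := X.isBasis_affineOpens.exists_subset_of_mem_open
    (show x ∈ ((O ⊓ O' : X.Opens) : Set X) from ⟨hxO, hxO'⟩) (O ⊓ O').isOpen
  replace hU : IsAffineOpen U := hU
  refine ⟨U, hU, hxU, fun t ht => (hUO ht).1, ?_⟩
  let P : ↥U → Ideal Γ(X, U) := fun u =>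
    Ideal.comap (X.presheaf.germ U u.1 u.2).hom (IsLocalRing.maximalIdeal (X.presheaf.stalk u.1))
  have hPprime : ∀ u : ↥U, (P u).IsPrime := fun u => Ideal.comap_isPrime _ _
  have hPmem : ∀ (u : ↥U) (g : Γ(X, U)), g ∈ P u ↔ u.1 ∉ X.basicOpen g := by
    intro u g
    rw [Scheme.mem_basicOpen X g u.1 u.2]
    change (X.presheaf.germ U u.1 u.2).hom g ∈ IsLocalRing.maximalIdeal _ ↔ _
    rw [IsLocalRing.mem_maximalIdeal, mem_nonunits_iff]
  have hPle : ∀ u v : ↥U, P u ≤ P v → u.1 ⤳ v.1 := by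
    intro u v huv
    rw [specializes_iff_forall_open]
    intro s hs hvs
    obtain ⟨g, hgs, hvg⟩ := hU.exists_basicOpen_le (V := ⟨s, hs⟩) ⟨v.1, hvs⟩ v.2
    have h1 : g ∉ P v := fun h => ((hPmem v g).mp h) hvg
    have h2 : g ∉ P u := fun h => h1 (huv h)
    have h3 : u.1 ∈ X.basicOpen g := by
      by_contra h
      exact h2 ((hPmem u g).mpr h)
    exact hgs h3
  let M : Set ↥U := {u | f.base u.1 = f.base x ∧
    ∀ z' : X, f.base z' = f.base x → z' ⤳ u.1 → z' = u.1}
  have hMfin : M.Finite := by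
    refine Set.Finite.of_injOn (f := Subtype.val) ?_ Subtype.val_injective.injOn hfin
    intro u hu
    exact ⟨(hUO u.2).2, hu.1, hu.2⟩
  have hnot : ¬ ((P ⟨x, hxU⟩ : Set Γ(X, U)) ⊆ ⋃ i ∈ (↑hMfin.toFinset : Set ↥U), (P i : Set Γ(X, U))) := by
    intro hsub
    rw [Ideal.subset_union_prime ⟨x, hxU⟩ ⟨x, hxU⟩ (fun i _ _ _ => hPprime i)] at hsub
    obtain ⟨i, hi, hle⟩ := hsub
    have hiM : i ∈ M := hMfin.mem_toFinset.mp hi
    have hsp : x ⤳ i.1 := hPle ⟨x, hxU⟩ i hle
    have hxi : x = i.1 := hiM.2 x rfl hsp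
    obtain ⟨x', hx'f, hx'ne, hx'sp⟩ := hx
    rw [hxi] at hx'sp hx'ne
    exact hx'ne (hiM.2 x' hx'f hx'sp)
  rw [Set.not_subset] at hnot
  obtain ⟨g, hgx, hgM⟩ := hnot
  refine ⟨g, (hPmem ⟨x, hxU⟩ g).mp hgx, ?_⟩
  intro z hzf hzmax hzU
  by_contra hzg
  apply hgM
  simp only [Set.mem_iUnion]
  refine ⟨⟨z, hzU⟩, ?_, (hPmem ⟨z, hzU⟩ g).mpr hzg⟩
  rw [Finset.mem_coe, hMfin.mem_toFinset]
  exact ⟨hzf, hzmax⟩

end Groth.Agent.H17.Chev
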