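import Groth.Agent.H17.Chev.Equidim10
import Groth.Agent.H17.Chev.PrimeAvoid
import Groth.Agent.H17.Chev.Irreducible

set_option autoImplicit false
set_option linter.unusedSectionVars false
set_option linter.style.haveILetI false
universe u
open CategoryTheory CategoryTheory.Limits AlgebraicGeometry Topology Order TopologicalSpace

namespace Groth.Agent.H17.Chev

/-- A morphism locally of finite type all of whose fibres have local dimension `0` everywhere is
locally quasi-finite. -/
theorem locallyQuasiFinite_of_forall_fibreDimAt_le_zero {X Y : Scheme.{u}} (g : X ⟶ Y)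
    [LocallyOfFiniteType g] (h : ∀ t : X, FlatMor.fibreDimAt g t ≤ 0) : LocallyQuasiFinite g := by
  rw [locallyQuasiFinite_iff_isDiscrete_preimage_singleton]
  intro y
  have hlft : LocallyOfFiniteType (g.fiberToSpecResidueField y) :=
    inferInstanceAs (LocallyOfFiniteType (pullback.snd g (Y.fromSpecResidueField y)))
  have hFN : IsLocallyNoetherian (g.fiber y) :=
    LocallyOfFiniteType.isLocallyNoetherian (g.fiberToSpecResidueField y)
  have hdim : topologicalKrullDim ↥(g.fiber y) ≤ 0 := by
    rw [topologicalKrullDim_eq_iSup_localDim]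
    refine iSup_le fun w => ?_
    rw [localDim_fiber_eq_fibreDimAt]
    exact h _
  have hA : IsLocallyArtinian (g.fiber y) := IsLocallyArtinian.of_topologicalKrullDim_le_zero hdim
  have hD : DiscreteTopology ↥(g.fiber y) := inferInstance
  have : DiscreteTopology ↥(g ⁻¹' {y}) := (g.fiberHomeo y).discreteTopology
  exact ⟨this⟩

/-- Equidimensionality at a point restricts to open neighbourhoods. -/
theorem isEquidimAt_ι_comp {X Y : Scheme.{u}} [IrreducibleSpace Y] (f : X ⟶ Y)
    [LocallyOfFiniteType f] (x : X) (hf : EGA43.IsEquidimAt f x) (U : X.Opens) (hxU : x ∈ U) :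
    EGA43.IsEquidimAt (U.ι ≫ f) ⟨x, hxU⟩ := by
  obtain ⟨e, U₀, hxU₀, hmaxU₀, hfibU₀⟩ := exists_opens_of_isEquidimAt f x hf
  refine isEquidimAt_of_forall_fibreDimAt_eq (U.ι ≫ f) ⟨x, hxU⟩ e (U.ι ⁻¹ᵁ U₀) hxU₀ ?_ ?_
  · intro ξ hξ hmax
    have hmax' : IsMax ξ.1 := by
      intro b hb
      have hb1 : b ⤳ ξ.1 := hb
      have hbU : b ∈ U := hb1.mem_open U.isOpen ξ.2
      have hb2 : (⟨b, hbU⟩ : ↥U) ⤳ ξ := (subtype_specializes_iff _ _).mpr hb1
      have hb3 : ξ ⤳ (⟨b, hbU⟩ : ↥U) := hmax (show ξ ≤ ⟨b, hbU⟩ from hb2)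
      exact (show ξ.1 ⤳ b from (subtype_specializes_iff _ _).mp hb3)
    have h1 := hmaxU₀ ξ.1 hξ hmax'
    have h2 : closure {f.base ξ.1} = Set.univ := by
      rw [irreducibleComponents_eq_singleton] at h1
      exact h1
    refine ⟨h1, ?_⟩
    change _ ∈ closure {f.base ξ.1}
    rw [h2]
    trivial
  · intro u hu
    have := fibreDimAt_ι_comp f U u
    rw [this]
    exact hfibU₀ u.1 hu

/-- A point closed in its fibre at which the fibre has positive local dimension is not a maximal
point of the fibre. -/
theorem exists_specializes_ne_of_not_fibreDimAt_le_zero {X Y : Scheme.{u}} (f : X ⟶ Y)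
    [LocallyOfFiniteType f] (x : X)
    (hcl : ∀ x' : X, f.base x' = f.base x → x ⤳ x' → x' = x)
    (h : ¬ FlatMor.fibreDimAt f x ≤ 0) :
    ∃ x' : X, f.base x' = f.base x ∧ x' ≠ x ∧ x' ⤳ x := by
  by_contra hcon
  push Not at hcon
  apply h
  rw [fibreDimAt_eq_stalk_add]
  set w := f.asFiber x with hw
  have hιw : (f.fiberι (f.base x)).base w = x := f.fiberι_asFiber x
  have hinj : Function.Injective (f.fiberι (f.base x)).base :=
    (f.fiberι (f.base x)).isEmbedding.injective
  have hmax : IsMax w := by
    intro w' hww'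
    have h1 : w' ⤳ w := hww'
    have h2 := h1.map (f.fiberι (f.base x)).continuous
    rw [hιw] at h2
    have h3 : (f.fiberι (f.base x)).base w' = x := by
      by_contra hne
      exact hcon _ (map_fiberι f _ w') hne h2
    have h4 : w' = w := hinj (h3.trans hιw.symm)
    rw [h4]
  have h0 : ringKrullDim ((f.fiber (f.base x)).presheaf.stalk w) = 0 := by
    rw [ringKrullDim_stalk_eq_coheight, coheight_eq_zero.mpr hmax]
    rfl
  have hcl' : closure ({w} : Set ↥(f.fiber (f.base x))) = {w} := by
    apply Set.Subset.antisymm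
    · intro s hs
      have h1 : w ⤳ s := specializes_iff_mem_closure.mpr hs
      have h2 := h1.map (f.fiberι (f.base x)).continuous
      rw [hιw] at h2
      have h3 := hcl _ (map_fiberι f _ s) h2
      exact hinj (h3.trans hιw.symm)
    · exact subset_closure
  have h1 : topologicalKrullDim ↥(closure ({w} : Set ↥(f.fiber (f.base x)))) ≤ 0 := by
    rw [topologicalKrullDim_subtype_congr hcl']
    exact topologicalKrullDim_zero_of_discreteTopology _
  rw [h0, zero_add]
  exact h1

end Groth.Agent.H17.Chev
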