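import Groth.Agent.H17.Chev.FlatLC4
import Groth.Agent.H17.Chev.Closed
import Groth.Agent.H17.Chev.QFin

set_option autoImplicit false
set_option linter.style.haveILetI false
universe u
open CategoryTheory AlgebraicGeometry
open FlatMor

namespace Groth.Agent.H17.Chev

theorem zero_le_dim_fibre_iff {X Y : Scheme.{u}} (f : X ⟶ Y) (y : Y) :
    0 ≤ topologicalKrullDim ↥(f.base ⁻¹' {y}) ↔ y ∈ Set.range f.base := by
  unfold topologicalKrullDim
  rw [Order.krullDim_nonneg_iff]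
  constructor
  · rintro ⟨Z⟩
    obtain ⟨⟨x, hx⟩, -⟩ := Z.2.1
    exact ⟨x, hx⟩
  · rintro ⟨x, hx⟩
    exact ⟨⟨closure {⟨x, hx⟩}, isIrreducible_singleton.closure, isClosed_closure⟩⟩

theorem zero_lt_dim_fibre_iff {X Y : Scheme.{u}} (f : X ⟶ Y) [LocallyOfFiniteType f] (y : Y) :
    0 < topologicalKrullDim ↥(f.base ⁻¹' {y}) ↔
      y ∈ f.base '' {x : X | 0 < FlatMor.fibreDimAt f x} := by
  rw [← dim_fiber_eq]
  constructor
  · intro h
    obtain ⟨ζ, -, hζ⟩ := exists_isMax_lt_fibreDimAt f y 0 h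
    refine ⟨(f.fiberι y).base ζ, hζ, ?_⟩
    have : (f.fiberι y).base ζ ∈ Set.range (f.fiberι y).base := ⟨ζ, rfl⟩
    rw [Scheme.Hom.range_fiberι] at this
    exact this
  · rintro ⟨x, hx, rfl⟩
    exact lt_of_lt_of_le hx (fibreDimAt_le_dim_fiber f x)

end Groth.Agent.H17.Chev

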