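import Groth.Agent.H17.Chev.Equidim4

set_option autoImplicit false
set_option linter.unusedSectionVars false
set_option linter.style.haveILetI false
universe u
open CategoryTheory CategoryTheory.Limits AlgebraicGeometry Topology Order TopologicalSpace

namespace Groth.Agent.H17.Chev

/-- A maximal point `ζ` generizing `y` gives a minimal prime of `O_{Y,y}` whose quotient has
dimension at most the codimension of `y` in `closure {ζ}`. -/
theorem exists_minimalPrime_quotient_le (Y : Scheme.{u}) (y ζ : Y) (h : ζ ⤳ y) (hmax : IsMax ζ) :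
    ∃ p ∈ minimalPrimes (Y.presheaf.stalk y),
      ringKrullDim ((Y.presheaf.stalk y) ⧸ p) ≤
        coheight (⟨y, h.mem_closure⟩ : ↥(closure ({ζ} : Set Y))) := by
  obtain ⟨P, hP⟩ : ζ ∈ Set.range (Y.fromSpecStalk y).base := by
    rw [Scheme.range_fromSpecStalk]; exact h
  have hsp : ∀ a b : ↥(Spec (Y.presheaf.stalk y)),
      (Y.fromSpecStalk y).base a ⤳ (Y.fromSpecStalk y).base b ↔ a ⤳ b :=
    fun a b => (Y.fromSpecStalk y).isEmbedding.isInducing.specializes_iff
  have hy : ∀ a : ↥(Spec (Y.presheaf.stalk y)), (Y.fromSpecStalk y).base a ⤳ y := fun a => by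
    have : (Y.fromSpecStalk y).base a ∈ Set.range (Y.fromSpecStalk y).base := ⟨a, rfl⟩
    rwa [Scheme.range_fromSpecStalk] at this
  refine ⟨P.asIdeal, ?_, ?_⟩
  · refine ⟨⟨P.isPrime, bot_le⟩, fun q hq hqP => ?_⟩
    let Q : PrimeSpectrum (Y.presheaf.stalk y) := ⟨q, hq.1⟩
    have h1 : Q ⤳ P := (PrimeSpectrum.le_iff_specializes Q P).mp hqP
    have h2 : (Y.fromSpecStalk y).base Q ⤳ ζ := hP ▸ (hsp Q P).mpr h1
    have h3 : ζ ⤳ (Y.fromSpecStalk y).base Q := hmax (show ζ ≤ (Y.fromSpecStalk y).base Q from h2)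
    have h4 : P ⤳ Q := (hsp P Q).mp (hP ▸ h3)
    exact (PrimeSpectrum.le_iff_specializes P Q).mpr h4
  · rw [ringKrullDim_quotient]
    refine iSup_le fun s => ?_
    have hmem : ∀ q : ↥(PrimeSpectrum.zeroLocus (P.asIdeal : Set (Y.presheaf.stalk y))),
        (Y.fromSpecStalk y).base q.1 ∈ closure ({ζ} : Set Y) := by
      intro q
      have h1 : (P : PrimeSpectrum (Y.presheaf.stalk y)).asIdeal ≤ q.1.asIdeal := q.2
      have h2 : P ⤳ q.1 :=
        (PrimeSpectrum.le_iff_specializes (P : PrimeSpectrum (Y.presheaf.stalk y)) q.1).mp h1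
      have h3 := (hsp P q.1).mpr h2
      rw [hP] at h3
      exact h3.mem_closure
    let g : ↥(PrimeSpectrum.zeroLocus (P.asIdeal : Set (Y.presheaf.stalk y))) →
        (↥(closure ({ζ} : Set Y)))ᵒᵈ := fun q =>
      OrderDual.toDual ⟨(Y.fromSpecStalk y).base q.1, hmem q⟩
    have hg : StrictMono g := by
      intro a b hab
      have hab' : a.1 < b.1 := hab
      rw [lt_iff_le_not_ge] at hab'
      have h1 : a.1 ⤳ b.1 := (PrimeSpectrum.le_iff_specializes a.1 b.1).mp hab'.1
      have h2 : ¬ b.1 ⤳ a.1 := fun hh => hab'.2 ((PrimeSpectrum.le_iff_specializes b.1 a.1).mpr hh)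
      change (⟨(Y.fromSpecStalk y).base b.1, hmem b⟩ : ↥(closure ({ζ} : Set Y))) <
        ⟨(Y.fromSpecStalk y).base a.1, hmem a⟩
      rw [lt_iff_le_not_ge]
      refine ⟨?_, fun hh => h2 ?_⟩
      · exact (show (Y.fromSpecStalk y).base b.1 ≤ (Y.fromSpecStalk y).base a.1 from
          (hsp a.1 b.1).mpr h1)
      · have hh' : (Y.fromSpecStalk y).base a.1 ≤ (Y.fromSpecStalk y).base b.1 := hh
        exact (hsp b.1 a.1).mp hh'
    have h1 := length_le_height (p := s.map g hg) (x := OrderDual.toDual ⟨y, h.mem_closure⟩)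
      (show OrderDual.toDual (⟨(Y.fromSpecStalk y).base _, hmem _⟩ : ↥(closure ({ζ} : Set Y))) ≤
        OrderDual.toDual ⟨y, h.mem_closure⟩ from
        (show y ≤ (Y.fromSpecStalk y).base _ from hy _))
    rw [LTSeries.map_length] at h1
    rw [height_toDual] at h1
    exact_mod_cast h1

theorem coheight_closure_eq_of_isEquidim (Y : Scheme.{u}) (y ζ : Y) (h : ζ ⤳ y) (hmax : IsMax ζ)
    (hY : EGA4.IsEquidim (Y.presheaf.stalk y)) :
    (coheight (⟨y, h.mem_closure⟩ : ↥(closure ({ζ} : Set Y))) : WithBot ℕ∞) =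
      ringKrullDim (Y.presheaf.stalk y) := by
  obtain ⟨p, hp, hle⟩ := exists_minimalPrime_quotient_le Y y ζ h hmax
  apply le_antisymm
  · rw [ringKrullDim_stalk_eq_coheight]
    exact_mod_cast coheight_subtype_le _ y h.mem_closure
  · rw [← hY p hp]
    exact hle

end Groth.Agent.H17.Chev
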