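import Groth.Agent.H17.SurjDim
import Groth.Agent.H17.Chev.BC
import Groth.Prelude.Def_EGA43

set_option autoImplicit false
set_option linter.unusedSectionVars false
set_option linter.style.haveILetI false
universe u
open CategoryTheory CategoryTheory.Limits AlgebraicGeometry Topology Order TopologicalSpace

namespace Groth.Agent.H17.Chev

/-- If `f` is open at `ζ` then every generization of `f ζ` lifts to a generization of `ζ`. -/
theorem exists_generization_of_isOpenAt {X Y : Scheme.{u}} [IsLocallyNoetherian X] (f : X ⟶ Y)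
    (ζ : X) (hopen : EGA43.IsOpenAt f.base ζ) (y' : Y) (hy' : y' ⤳ f.base ζ) :
    ∃ x' : X, x' ⤳ ζ ∧ f.base x' = y' := by
  obtain ⟨_, ⟨U, hU, rfl⟩, hζU, -⟩ := X.isBasis_affineOpens.exists_subset_of_mem_open
    (Set.mem_univ ζ) isOpen_univ
  replace hU : IsAffineOpen U := hU
  have hUN : NoetherianSpace ↥U := by
    have : IsNoetherianRing Γ(X, U) := IsLocallyNoetherian.component_noetherian ⟨U, hU⟩
    exact noetherianSpace_of_isAffineOpen U hU
  set F' : Set X := (U : Set X) ∩ f.base ⁻¹' {y'} with hF'
  -- `ζ` lies in the closure of `F'`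
  have hcl : ζ ∈ closure F' := by
    rw [mem_closure_iff]
    intro W hW hζW
    have h1 : W ∩ (U : Set X) ∈ nhds ζ := (hW.inter U.isOpen).mem_nhds ⟨hζW, hζU⟩
    have h2 := hopen _ h1
    have h3 : y' ∈ f.base '' (W ∩ (U : Set X)) := mem_of_mem_nhds (hy' h2)
    obtain ⟨t, ⟨htW, htU⟩, hty⟩ := h3
    exact ⟨t, htW, htU, hty⟩
  -- `F'` is a Noetherian space
  have hF'N : NoetherianSpace ↥F' :=
    (IsEmbedding.inclusion (show F' ⊆ (U : Set X) from Set.inter_subset_left)).isInducing.noetherianSpace
  have hfin := NoetherianSpace.finite_irreducibleComponents (α := ↥F')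
  have hcover : F' = ⋃ C ∈ irreducibleComponents ↥F', (Subtype.val '' C : Set X) := by
    ext t
    simp only [Set.mem_iUnion, Set.mem_image, Subtype.exists, exists_and_right, exists_eq_right,
      exists_prop]
    constructor
    · intro ht
      have : (⟨t, ht⟩ : ↥F') ∈ ⋃₀ irreducibleComponents ↥F' := by
        rw [sUnion_irreducibleComponents]; trivial
      obtain ⟨C, hC, htC⟩ := this
      exact ⟨C, hC, ht, htC⟩
    · rintro ⟨C, -, ht, -⟩
      exact ht
  rw [hcover, hfin.closure_biUnion] at hcl
  simp only [Set.mem_iUnion, exists_prop] at hcl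
  obtain ⟨C, hC, hζC⟩ := hcl
  have hCirr : IsIrreducible (Subtype.val '' C : Set X) :=
    hC.1.image _ continuous_subtype_val.continuousOn
  have hcirr : IsIrreducible (closure (Subtype.val '' C : Set X)) := hCirr.closure
  have hx' := hcirr.isGenericPoint_genericPoint isClosed_closure
  set x' := hcirr.genericPoint
  refine ⟨x', hx'.specializes hζC, ?_⟩
  obtain ⟨c, hc⟩ := hC.1.nonempty
  have hfc : f.base c.1 = y' := c.2.2
  have h1 : f.base x' ⤳ y' := by
    rw [← hfc]
    exact (hx'.specializes (subset_closure ⟨c, hc, rfl⟩)).map f.continuous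
  have h2 : y' ⤳ f.base x' := by
    rw [specializes_iff_mem_closure]
    have h3 : f.base x' ∈ f.base '' closure (Subtype.val '' C : Set X) := ⟨x', hx'.mem, rfl⟩
    have h4 := image_closure_subset_closure_image f.continuous h3
    refine closure_mono ?_ h4
    rintro _ ⟨_, ⟨t, -, rfl⟩, rfl⟩
    exact t.2.2
  exact (h1.antisymm h2).eq

/-- EGA IV 14.2.1-type: if `f` is open at a maximal point `ζ` of its fibre then
`dim O_{X,ζ} = dim O_{Y,f ζ}`. -/
theorem stalk_dim_eq_of_isOpenAt {X Y : Scheme.{u}} [IsLocallyNoetherian Y] (f : X ⟶ Y)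
    [LocallyOfFiniteType f] (ζ : X)
    (hz0 : ringKrullDim ((f.fiber (f.base ζ)).presheaf.stalk (f.asFiber ζ)) = 0)
    (hopen : EGA43.IsOpenAt f.base ζ) :
    ringKrullDim (X.presheaf.stalk ζ) = ringKrullDim (Y.presheaf.stalk (f.base ζ)) := by
  have hXN : IsLocallyNoetherian X := LocallyOfFiniteType.isLocallyNoetherian f
  apply le_antisymm
  · have := Groth.Agent.H49.FibreDim.ringKrullDim_stalk_le_add_fibre f ζ
    rw [hz0, add_zero] at this
    exact this
  · have hsq := Scheme.SpecMap_stalkMap_fromSpecStalk (f := f) (x := ζ)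
    have hsq' : ∀ q : ↥(Spec (X.presheaf.stalk ζ)),
        (Y.fromSpecStalk (f.base ζ)).base ((Spec.map (f.stalkMap ζ)).base q) =
          f.base ((X.fromSpecStalk ζ).base q) := by
      intro q
      exact congrArg (fun g => g.base q) hsq
    have hinjY : Function.Injective (Y.fromSpecStalk (f.base ζ)).base :=
      (Y.fromSpecStalk (f.base ζ)).isEmbedding.injective
    have hinjX : Function.Injective (X.fromSpecStalk ζ).base :=
      (X.fromSpecStalk ζ).isEmbedding.injective
    refine Groth.Agent.H17.SurjDim.ringKrullDim_le_of_comap_surjective'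
      (Y.presheaf.stalk (f.base ζ)) (X.presheaf.stalk ζ) (f.stalkMap ζ).hom ?_ ?_
    · intro 𝔭
      set y' := (Y.fromSpecStalk (f.base ζ)).base 𝔭 with hy'
      have hy's : y' ⤳ f.base ζ := by
        have : y' ∈ Set.range (Y.fromSpecStalk (f.base ζ)).base := ⟨𝔭, rfl⟩
        rw [Scheme.range_fromSpecStalk] at this
        exact this
      obtain ⟨x', hx's, hx'y⟩ := exists_generization_of_isOpenAt f ζ hopen y' hy's
      have : x' ∈ Set.range (X.fromSpecStalk ζ).base := by
        rw [Scheme.range_fromSpecStalk]; exact hx's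
      obtain ⟨q, rfl⟩ := this
      refine ⟨q, hinjY ?_⟩
      change (Y.fromSpecStalk (f.base ζ)).base ((Spec.map (f.stalkMap ζ)).base q) = _
      rw [hsq', hx'y]
    · intro q hq
      apply hinjX
      have h1 : (X.fromSpecStalk ζ).base (IsLocalRing.closedPoint (X.presheaf.stalk ζ)) = ζ :=
        Scheme.fromSpecStalk_closedPoint
      rw [h1]
      set x' := (X.fromSpecStalk ζ).base q with hx'
      have hx's : x' ⤳ ζ := by
        have : x' ∈ Set.range (X.fromSpecStalk ζ).base := ⟨q, rfl⟩
        rw [Scheme.range_fromSpecStalk] at this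
        exact this
      have hfx' : f.base x' = f.base ζ := by
        have e1 : (Spec.map (f.stalkMap ζ)).base q =
            IsLocalRing.closedPoint (Y.presheaf.stalk (f.base ζ)) := hq
        calc f.base x' = (Y.fromSpecStalk (f.base ζ)).base ((Spec.map (f.stalkMap ζ)).base q) :=
              (hsq' q).symm
          _ = (Y.fromSpecStalk (f.base ζ)).base
              (IsLocalRing.closedPoint (Y.presheaf.stalk (f.base ζ))) := congrArg _ e1
          _ = f.base ζ := Scheme.fromSpecStalk_closedPoint
      have : x' ∈ Set.range (f.fiberι (f.base ζ)).base := by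
        rw [Scheme.Hom.range_fiberι]; exact hfx'
      obtain ⟨w', hw'⟩ := this
      have hmax := isMax_of_ringKrullDim_stalk_eq_zero _ (f.asFiber ζ) hz0
      have h2 : w' ⤳ f.asFiber ζ := by
        rw [← (f.fiberι (f.base ζ)).isEmbedding.isInducing.specializes_iff, hw', f.fiberι_asFiber]
        exact hx's
      have h3 : f.asFiber ζ ⤳ w' := hmax (show f.asFiber ζ ≤ w' from h2)
      have h4 : w' = f.asFiber ζ := (h2.antisymm h3).eq
      rw [← hw', h4, f.fiberι_asFiber]

end Groth.Agent.H17.Chev
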