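import Groth.Agent.H17.Chev.OpenAt
import Groth.Agent.H17.Chev.FibComp

set_option autoImplicit false
set_option linter.unusedSectionVars false
set_option linter.style.haveILetI false
universe u
open CategoryTheory CategoryTheory.Limits AlgebraicGeometry Topology Order TopologicalSpace

namespace Groth.Agent.H17.Chev

/-- a point which is maximal in its fibre has zero-dimensional fibre local ring -/
theorem stalk_fiber_eq_zero_of_maximal {X Y : Scheme.{u}} (f : X ⟶ Y) (z : X)
    (hmax : ∀ z' : X, f.base z' = f.base z → z ∈ closure {z'} → z' = z) :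
    ringKrullDim ((f.fiber (f.base z)).presheaf.stalk (f.asFiber z)) = 0 := by
  rw [ringKrullDim_stalk_eq_coheight]
  have : IsMax (f.asFiber z) := by
    intro w' hw'
    have h1 : w' ⤳ f.asFiber z := hw'
    have h2 : (f.fiberι (f.base z)).base w' ⤳ z := by
      have := h1.map (f.fiberι (f.base z)).continuous
      rwa [f.fiberι_asFiber] at this
    have h3 := hmax _ (map_fiberι f _ w') (specializes_iff_mem_closure.mp h2)
    have h4 : w' = f.asFiber z := by
      apply (f.fiberι (f.base z)).isEmbedding.injective
      rw [h3, f.fiberι_asFiber]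
    rw [h4]
  rw [coheight_eq_zero.mpr this]
  rfl

/-- EGA IV 14.2.x: if `f` is open at all points of the fibre over `y` (maximal points suffice) then
every irreducible component of `X_y` has the dimension of a component of the generic fibre. -/
theorem exists_irreducibleComponent_generic_dim_eq_of_isOpenAt {X Y : Scheme.{u}}
    [IrreducibleSpace Y] [IsLocallyNoetherian Y] (f : X ⟶ Y) [LocallyOfFiniteType f] (y : Y)
    (h : ∀ x : X, f.base x = y → EGA43.IsOpenAt f.base x)
    (Z : Set ↥(f.fiber y)) (hZ : Z ∈ irreducibleComponents ↥(f.fiber y)) :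
    ∃ Z' ∈ irreducibleComponents ↥(f.fiber (genericPoint Y)),
      topologicalKrullDim ↥Z' = topologicalKrullDim ↥Z := by
  refine exists_irreducibleComponent_generic_dim_eq f y ?_ Z hZ
  intro z hz hmax
  subst hz
  exact stalk_dim_eq_of_isOpenAt f z (stalk_fiber_eq_zero_of_maximal f z hmax) (h z rfl)

end Groth.Agent.H17.Chev
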