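import Groth.Agent.H17.Chev.RedSub

set_option autoImplicit false
set_option linter.unusedSectionVars false
set_option linter.style.haveILetI false
universe u
open CategoryTheory CategoryTheory.Limits AlgebraicGeometry Topology Order TopologicalSpace

namespace Groth.Agent.H17.Chev

theorem coheight_subtype_congr' {B : Type*} [Preorder B] {S S' : Set B} (h : S = S') {b b' : B}
    (hbb : b = b') (hb : b ∈ S) (hb' : b' ∈ S') :
    coheight (⟨b, hb⟩ : ↥S) = coheight (⟨b', hb'⟩ : ↥S') := by
  subst h; subst hbb; rfl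

/-- general stalk-dimension = coheight in the range, for a preimmersion -/
theorem stalk_eq_coheight_range {Z X : Scheme.{u}} (i : Z ⟶ X) [IsPreimmersion i] (a : Z) :
    ringKrullDim (Z.presheaf.stalk a) =
      coheight (⟨i.base a, a, rfl⟩ : ↥(Set.range i.base)) := by
  rw [ringKrullDim_stalk_eq_coheight,
    coheight_eq_coheight_subtype i.base (le_iff_of_isEmbedding _ i.isEmbedding) _ rfl a ⟨a, rfl⟩]

/-- a point whose image under an embedding is a generic point of the range is a generic point -/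
theorem irreducibleSpace_of_isEmbedding {A B : Type*} [TopologicalSpace A] [TopologicalSpace B]
    (g : A → B) (hg : IsEmbedding g) (a : A) (h : Set.range g ⊆ closure {g a}) :
    IrreducibleSpace A ∧ closure {a} = Set.univ := by
  have h1 : closure {a} = Set.univ := by
    rw [hg.isInducing.closure_eq_preimage_closure_image, Set.image_singleton]
    ext t
    simp only [Set.mem_preimage, Set.mem_univ, iff_true]
    exact h ⟨t, rfl⟩
  refine ⟨?_, h1⟩
  rw [irreducibleSpace_def]
  change IsIrreducible Set.univ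
  rw [← h1]
  exact isIrreducible_singleton.closure

/-- **Dimension inequality / formula for an irreducible closed subset**, in topological form. -/
theorem coheight_add_localDim_le_and_eq {X Y : Scheme.{u}} [IsLocallyNoetherian Y] (f : X ⟶ Y)
    [LocallyOfFiniteType f] (X' : Set X) (hc : IsClosed X') (ξ : X) (hξ : IsGenericPoint ξ X')
    (x : X) (hx : x ∈ X') (hy : f.base x ∈ closure {f.base ξ}) :
    ((coheight (⟨x, hx⟩ : ↥X') : WithBot ℕ∞) +
        FlatMor.localDim ↥(X' ∩ f.base ⁻¹' {f.base x}) ⟨x, hx, rfl⟩ ≤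
      (coheight (⟨f.base x, hy⟩ : ↥(closure {f.base ξ})) : WithBot ℕ∞) +
        (coheight (⟨x, hx, rfl⟩ : ↥(X' ∩ f.base ⁻¹' {f.base x})) : WithBot ℕ∞) +
        topologicalKrullDim ↥(X' ∩ f.base ⁻¹' {f.base ξ})) ∧
    (CAlg.IsUniversallyCatenary (Y.presheaf.stalk (f.base x)) →
      (coheight (⟨x, hx⟩ : ↥X') : WithBot ℕ∞) +
        FlatMor.localDim ↥(X' ∩ f.base ⁻¹' {f.base x}) ⟨x, hx, rfl⟩ =
      (coheight (⟨f.base x, hy⟩ : ↥(closure {f.base ξ})) : WithBot ℕ∞) +
        (coheight (⟨x, hx, rfl⟩ : ↥(X' ∩ f.base ⁻¹' {f.base x})) : WithBot ℕ∞) +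
        topologicalKrullDim ↥(X' ∩ f.base ⁻¹' {f.base ξ})) := by
  obtain ⟨X₁, Y₁, iX, iY, f₁, hiX, hiY, hsq, hrX, hrY⟩ := exists_square f X' hc
  rw [closure_image_eq_of_isGenericPoint f.base f.continuous X' ξ hξ] at hrY
  have hinj : Function.Injective iY.base := iY.isEmbedding.injective
  obtain ⟨a, rfl⟩ : x ∈ Set.range iX.base := hrX ▸ hx
  obtain ⟨aξ, rfl⟩ : ξ ∈ Set.range iX.base := hrX ▸ hξ.mem
  -- irreducibility
  obtain ⟨hX₁, hclX⟩ := irreducibleSpace_of_isEmbedding iX.base iX.isEmbedding aξ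
    (by rw [hrX, hξ.def])
  obtain ⟨hY₁, hclY⟩ := irreducibleSpace_of_isEmbedding iY.base iY.isEmbedding (f₁.base aξ)
    (by rw [hrY, sq_apply f iX iY f₁ hsq])
  have hgen : genericPoint Y₁ = f₁.base aξ := by
    have h1 : IsGenericPoint (f₁.base aξ) (Set.univ : Set Y₁) := hclY
    exact ((genericPoint_spec Y₁).eq h1)
  have hdom : IsDominant f₁ := by
    constructor
    rw [DenseRange, dense_iff_closure_eq, Set.eq_univ_iff_forall]
    intro t
    have : closure {f₁.base aξ} ⊆ closure (Set.range f₁.base) :=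
      closure_mono (Set.singleton_subset_iff.mpr ⟨aξ, rfl⟩)
    exact this (hclY ▸ Set.mem_univ t)
  have hYN : IsLocallyNoetherian Y₁ := LocallyOfFiniteType.isLocallyNoetherian iY
  have hlft : LocallyOfFiniteType (f₁ ≫ iY) := by rw [hsq]; infer_instance
  have hlft₁ : LocallyOfFiniteType f₁ := locallyOfFiniteType_of_comp f₁ iY
  have e1 : coheight (⟨iY.base (f₁.base a), f₁.base a, rfl⟩ : ↥(Set.range iY.base)) =
      coheight (⟨f.base (iX.base a), hy⟩ : ↥(closure {f.base (iX.base aξ)})) :=
    coheight_subtype_congr' hrY (sq_apply f iX iY f₁ hsq a) _ _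
  have e2 : topologicalKrullDim ↥(Set.range iX.base ∩ f.base ⁻¹' {iY.base (f₁.base aξ)}) =
      topologicalKrullDim ↥(Set.range iX.base ∩ f.base ⁻¹' {f.base (iX.base aξ)}) :=
    topologicalKrullDim_subtype_congr (by rw [sq_apply f iX iY f₁ hsq])
  constructor
  · have key := stalk_dim_add_fibreDimAt_le f₁ a
    rw [stalk_eq_coheight_range iX a, sq_fibreDimAt f iX iY f₁ hsq hinj a,
      stalk_eq_coheight_range iY (f₁.base a), sq_stalk_fiber f iX iY f₁ hsq hinj a,
      sq_dim_fiber f iX iY f₁ hsq hinj (genericPoint Y₁), hgen] at key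
    subst hrX
    rw [e1, e2] at key
    exact key
  · intro hcat
    have hcat' : CAlg.IsUniversallyCatenary (Y.presheaf.stalk (iY.base (f₁.base a))) :=
      (sq_apply f iX iY f₁ hsq a) ▸ hcat
    have hcat₁ : CAlg.IsUniversallyCatenary (Y₁.presheaf.stalk (f₁.base a)) :=
      isUniversallyCatenary_of_surjective (iY.stalkMap (f₁.base a)).hom
        (iY.stalkMap_surjective (f₁.base a)) hcat'
    have key := stalk_dim_add_fibreDimAt_eq f₁ a hcat₁
    rw [stalk_eq_coheight_range iX a, sq_fibreDimAt f iX iY f₁ hsq hinj a,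
      stalk_eq_coheight_range iY (f₁.base a), sq_stalk_fiber f iX iY f₁ hsq hinj a,
      sq_dim_fiber f iX iY f₁ hsq hinj (genericPoint Y₁), hgen] at key
    subst hrX
    rw [e1, e2] at key
    exact key

end Groth.Agent.H17.Chev
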