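import Groth.Agent.H17.Chev.OpenAt2
import Groth.Agent.H17.Chev.CompDim
import Groth.Agent.H17.Chev.Equidim7
import Groth.Agent.H17.Chev.RedSubMain
import Groth.Agent.H17.Chev.Irreducible

set_option autoImplicit false
set_option linter.unusedSectionVars false
set_option linter.style.haveILetI false
universe u
open CategoryTheory CategoryTheory.Limits AlgebraicGeometry Topology Order TopologicalSpace

namespace Groth.Agent.H17.Chev

/-- openness at a point passes to a (set-theoretically cartesian) square of inducing maps -/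
theorem isOpenAt_of_square {A B A₁ B₁ : Type*} [TopologicalSpace A] [TopologicalSpace B]
    [TopologicalSpace A₁] [TopologicalSpace B₁] (φ : A → B) (φ₁ : A₁ → B₁) (iA : A₁ → A)
    (iB : B₁ → B) (hiA : IsInducing iA) (hiB : IsInducing iB) (hiBinj : Function.Injective iB)
    (hc : ∀ a, iB (φ₁ a) = φ (iA a)) (hcart : ∀ a : A, φ a ∈ Set.range iB → a ∈ Set.range iA)
    (a₁ : A₁) (h : EGA43.IsOpenAt φ (iA a₁)) : EGA43.IsOpenAt φ₁ a₁ := by
  intro U₁ hU₁
  rw [hiA.nhds_eq_comap] at hU₁
  obtain ⟨U, hU, hUU₁⟩ := hU₁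
  have h1 := h U hU
  rw [hiB.nhds_eq_comap]
  refine ⟨φ '' U, by rw [hc]; exact h1, ?_⟩
  intro b hb
  obtain ⟨a, haU, hab⟩ := hb
  obtain ⟨a', rfl⟩ := hcart a ⟨b, hab.symm⟩
  refine ⟨a', hUU₁ haU, hiBinj ?_⟩
  rw [hc, hab]

/-- the fibre dimension function of a closed map locally of finite type is upper
semicontinuous on the target -/
theorem isOpen_setOf_dim_fiber_le {X Y : Scheme.{u}} (f : X ⟶ Y) [LocallyOfFiniteType f]
    (hcl : IsClosedMap f.base) (c : WithBot ℕ∞) :
    IsOpen {z : Y | topologicalKrullDim ↥(f.fiber z) ≤ c} := by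
  have hopen : IsOpen {x : X | FlatMor.fibreDimAt f x ≤ c} := by
    induction c with
    | bot =>
      convert isOpen_empty
      ext x
      simp only [Set.mem_ofPred_eq, Set.mem_empty_iff_false, iff_false, le_bot_iff]
      obtain ⟨n, hn⟩ := exists_nat_eq_fibreDimAt f x
      rw [hn]
      exact WithBot.coe_ne_bot
    | coe c =>
      induction c with
      | top =>
        convert isOpen_univ
        ext x
        simp only [Set.mem_ofPred_eq, Set.mem_univ, iff_true]
        exact le_top
      | coe n => exact isOpen_setOf_fibreDimAt_le f n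
  have heq : {z : Y | topologicalKrullDim ↥(f.fiber z) ≤ c} =
      (f.base '' {x : X | FlatMor.fibreDimAt f x ≤ c}ᶜ)ᶜ := by
    ext z
    simp only [Set.mem_ofPred_eq, Set.mem_compl_iff, Set.mem_image, not_exists, not_and]
    rw [topologicalKrullDim_eq_iSup_localDim, iSup_le_iff]
    constructor
    · intro h x hx hxz
      subst hxz
      exact hx (h (f.asFiber x))
    · intro h w
      rw [localDim_fiber_eq_fibreDimAt]
      by_contra hcon
      exact h _ hcon (map_fiberι f z w) |>.elim
  rw [heq]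
  exact (hcl _ hopen.isClosed_compl).isOpen_compl


/-- **Lemma L**: if `f` is open at all points of the fibre over `y` and `η ⤳ y`, then
`dim X_y ≤ dim X_η`. -/
theorem dim_fiber_le_of_isOpenAt_of_specializes {X Y : Scheme.{u}} [IsLocallyNoetherian Y]
    (f : X ⟶ Y) [LocallyOfFiniteType f] (y : Y)
    (h : ∀ x : X, f.base x = y → EGA43.IsOpenAt f.base x) (η : Y) (hη : η ⤳ y) :
    topologicalKrullDim ↥(f.fiber y) ≤ topologicalKrullDim ↥(f.fiber η) := by
  apply topologicalKrullDim_le_of_forall_irreducibleComponents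
  intro Z hZ
  obtain ⟨w, -⟩ := hZ.1.nonempty
  refine (topologicalKrullDim_subspace_le _ Z).trans ?_
  have hx₀ : f.base ((f.fiberι y).base w) = y := map_fiberι f y w
  -- `η` is in the image of `f`
  obtain ⟨ξ', hξ'⟩ : η ∈ Set.range f.base := by
    have h1 := h _ hx₀ Set.univ Filter.univ_mem
    rw [hx₀, Set.image_univ] at h1
    exact mem_of_mem_nhds (hη.nhds_le_nhds h1)
  have hc : IsClosed (f.base ⁻¹' closure {η}) := isClosed_closure.preimage f.continuous
  obtain ⟨X₁, Y₁, iX, iY, f₁, hiX, hiY, hsq, hrX, hrY⟩ := exists_square f _ hc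
  have hrY' : Set.range iY.base = closure {η} := by
    rw [hrY]
    apply Set.Subset.antisymm
    · apply closure_minimal _ isClosed_closure
      rintro _ ⟨a, ha, rfl⟩
      exact ha
    · apply closure_mono
      rw [Set.singleton_subset_iff]
      exact ⟨ξ', by rw [Set.mem_preimage, hξ']; exact subset_closure rfl, hξ'⟩
  have hinj : Function.Injective iY.base := iY.isEmbedding.injective
  obtain ⟨η₁, hη₁⟩ : η ∈ Set.range iY.base := by rw [hrY']; exact subset_closure rfl
  obtain ⟨y₁, hy₁⟩ : y ∈ Set.range iY.base := by rw [hrY']; exact hη.mem_closure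
  obtain ⟨hY₁, hclY⟩ := irreducibleSpace_of_isEmbedding iY.base iY.isEmbedding η₁
    (by rw [hrY', hη₁])
  have hY₁N : IsLocallyNoetherian Y₁ := LocallyOfFiniteType.isLocallyNoetherian iY
  have hlft₁ : LocallyOfFiniteType f₁ := by
    have : LocallyOfFiniteType (f₁ ≫ iY) := by rw [hsq]; infer_instance
    exact locallyOfFiniteType_of_comp f₁ iY
  have hgp : genericPoint ↥Y₁ = η₁ := by
    have h1 : IsGenericPoint η₁ (Set.univ : Set ↥Y₁) := hclY
    exact (genericPoint_spec ↥Y₁).eq h1
  have hsqa : ∀ a : X₁, iY.base (f₁.base a) = f.base (iX.base a) := sq_apply f iX iY f₁ hsq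
  have hopen₁ : ∀ x₁ : X₁, f₁.base x₁ = y₁ → EGA43.IsOpenAt f₁.base x₁ := by
    intro x₁ hx₁
    refine isOpenAt_of_square f.base f₁.base iX.base iY.base iX.isEmbedding.isInducing
      iY.isEmbedding.isInducing hinj hsqa ?_ x₁ (h _ ?_)
    · intro a ha
      rw [hrX, Set.mem_preimage, ← hrY']
      exact ha
    · rw [← hsqa, hx₁, hy₁]
  have hmain : topologicalKrullDim ↥(f₁.fiber y₁) ≤
      topologicalKrullDim ↥(f₁.fiber (genericPoint ↥Y₁)) := by
    apply topologicalKrullDim_le_of_forall_irreducibleComponents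
    intro Z₁ hZ₁
    obtain ⟨Z', -, hZ'⟩ := exists_irreducibleComponent_generic_dim_eq_of_isOpenAt f₁ y₁ hopen₁ Z₁ hZ₁
    rw [← hZ']
    exact topologicalKrullDim_subspace_le _ Z'
  rw [sq_dim_fiber f iX iY f₁ hsq hinj y₁, sq_dim_fiber f iX iY f₁ hsq hinj (genericPoint ↥Y₁),
    hgp, hy₁, hη₁, hrX] at hmain
  have e1 : f.base ⁻¹' closure {η} ∩ f.base ⁻¹' {y} = f.base ⁻¹' {y} := by
    apply Set.inter_eq_right.mpr
    intro a ha
    rw [Set.mem_preimage, Set.mem_singleton_iff] at ha
    rw [Set.mem_preimage, ha]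
    exact hη.mem_closure
  have e2 : f.base ⁻¹' closure {η} ∩ f.base ⁻¹' {η} = f.base ⁻¹' {η} := by
    apply Set.inter_eq_right.mpr
    intro a ha
    rw [Set.mem_preimage, Set.mem_singleton_iff] at ha
    rw [Set.mem_preimage, ha]
    exact subset_closure rfl
  rw [topologicalKrullDim_subtype_congr e1, topologicalKrullDim_subtype_congr e2] at hmain
  rw [dim_fiber_eq, dim_fiber_eq]
  exact hmain

end Groth.Agent.H17.Chev
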