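import Groth.Agent.H17.Chev.OpenDim
import Groth.Agent.H17.Chev.GenericConst
import Groth.Agent.H17.ProConsScheme

set_option autoImplicit false
set_option linter.unusedSectionVars false
set_option linter.style.haveILetI false
universe u
open CategoryTheory CategoryTheory.Limits AlgebraicGeometry Topology Order TopologicalSpace
open Set.Notation

namespace Groth.Agent.H17.Chev

theorem isOpen_setOf_fibreDimAt_le' {X Y : Scheme.{u}} (f : X ⟶ Y) [LocallyOfFiniteType f]
    (c : WithBot ℕ∞) : IsOpen {x : X | FlatMor.fibreDimAt f x ≤ c} := by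
  induction c with
  | bot =>
    convert isOpen_empty
    ext x
    simp only [Set.mem_ofPred_eq, Set.mem_empty_iff_false, iff_false, le_bot_iff]
    obtain ⟨n, hn⟩ := exists_nat_eq_fibreDimAt f x
    rw [hn]
    exact WithBot.coe_ne_bot
  | coe c =>
    induction c with
    | top =>
      convert isOpen_univ
      ext x
      simp only [Set.mem_ofPred_eq, Set.mem_univ, iff_true]
      exact le_top
    | coe n => exact isOpen_setOf_fibreDimAt_le f n

theorem dim_fiber_le_iff {X Y : Scheme.{u}} (f : X ⟶ Y) (z : Y) (c : WithBot ℕ∞) :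
    topologicalKrullDim ↥(f.fiber z) ≤ c ↔ ∀ x : X, f.base x = z → FlatMor.fibreDimAt f x ≤ c := by
  rw [topologicalKrullDim_eq_iSup_localDim, iSup_le_iff]
  constructor
  · intro h x hxz
    subst hxz
    exact h (f.asFiber x)
  · intro h w
    rw [localDim_fiber_eq_fibreDimAt]
    exact h _ (map_fiberι f z w)

theorem setOf_not_dim_fiber_le_eq {X Y : Scheme.{u}} (f : X ⟶ Y) (c : WithBot ℕ∞) :
    {z : Y | ¬ topologicalKrullDim ↥(f.fiber z) ≤ c} =
      f.base '' {x : X | ¬ FlatMor.fibreDimAt f x ≤ c} := by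
  ext z
  simp only [Set.mem_ofPred_eq, Set.mem_image]
  rw [dim_fiber_le_iff]
  push Not
  constructor
  · rintro ⟨x, hx, hc⟩
    exact ⟨x, hc, hx⟩
  · rintro ⟨x, hc, hx⟩
    exact ⟨x, hx, hc⟩

theorem isLocallyConstructible_of_isClosed (X : Scheme.{u}) [IsLocallyNoetherian X] {Z : Set X}
    (hZ : IsClosed Z) : IsLocallyConstructible Z := by
  intro x
  obtain ⟨_, ⟨(U : X.Opens), hU, rfl⟩, hxU, -⟩ := X.isBasis_affineOpens.exists_subset_of_mem_open
    (Set.mem_univ x) isOpen_univ
  replace hU : IsAffineOpen U := hU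
  have hUN : NoetherianSpace ↥U := by
    have : IsNoetherianRing Γ(X, U) := IsLocallyNoetherian.component_noetherian ⟨U, hU⟩
    exact noetherianSpace_of_isAffineOpen U hU
  exact ⟨U, U.isOpen.mem_nhds hxU, U.isOpen,
    isConstructible_of_isClosed (hZ.preimage continuous_subtype_val)⟩

theorem mem_interior_of_isLocallyConstructible (Y : Scheme.{u}) {E : Set Y}
    (hE : IsLocallyConstructible E) (y : Y) (h : ∀ z : Y, z ⤳ y → z ∈ E) : y ∈ interior E := by
  have hind := ((Groth.Agent.H17.lc_iff_ind_and_pro (Groth.Agent.H17.goodBasis_scheme Y) E).mp hE).1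
  rw [Groth.Agent.H17.mem_interior_iff_of_ind (Groth.Agent.H17.goodBasis_scheme Y) hind]
  exact h

/-- the fibres of a morphism of finite type have finite dimension -/
theorem exists_nat_dim_fiber_le {X Y : Scheme.{u}} (f : X ⟶ Y) [LocallyOfFiniteType f]
    [QuasiCompact f] (y : Y) : ∃ N : ℕ, topologicalKrullDim ↥(f.fiber y) ≤ N := by
  have hlft : LocallyOfFiniteType (f.fiberToSpecResidueField y) :=
    inferInstanceAs (LocallyOfFiniteType (pullback.snd f (Y.fromSpecResidueField y)))
  have hqc : QuasiCompact (f.fiberToSpecResidueField y) :=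
    inferInstanceAs (QuasiCompact (pullback.snd f (Y.fromSpecResidueField y)))
  have hFN : IsLocallyNoetherian (f.fiber y) :=
    LocallyOfFiniteType.isLocallyNoetherian (f.fiberToSpecResidueField y)
  have hFC : CompactSpace ↥(f.fiber y) :=
    QuasiCompact.compactSpace_of_compactSpace (f.fiberToSpecResidueField y)
  have hFNoeth : IsNoetherian (f.fiber y) := ⟨⟩
  have hfin := NoetherianSpace.finite_irreducibleComponents (α := ↥(f.fiber y))
  have hnat : ∀ Z ∈ irreducibleComponents ↥(f.fiber y), ∃ n : ℕ, topologicalKrullDim ↥Z = n := by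
    intro Z hZ
    have hZc : IsClosed Z := isClosed_of_mem_irreducibleComponents Z hZ
    have hgen := hZ.1.isGenericPoint_genericPoint hZc
    rw [dim_irreducibleComponent_eq_localDim (Y.residueField y) (f.fiberToSpecResidueField y) Z hZ
      _ hgen, localDim_fiber_eq_fibreDimAt]
    exact exists_nat_eq_fibreDimAt f _
  choose! d hd using hnat
  obtain ⟨N, hN⟩ := (hfin.image d).bddAbove
  refine ⟨N, topologicalKrullDim_le_of_forall_irreducibleComponents _ fun Z hZ => ?_⟩
  rw [hd Z hZ]
  exact_mod_cast hN ⟨Z, hZ, rfl⟩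

theorem natCast_le_iff_not_le_pred (k : ℕ) :
    ∃ c : WithBot ℕ∞, ∀ d : WithBot ℕ∞, ((k : WithBot ℕ∞) ≤ d ↔ ¬ d ≤ c) := by
  cases k with
  | zero =>
    refine ⟨⊥, fun d => ?_⟩
    induction d with
    | bot => simp
    | coe d => simp
  | succ j =>
    refine ⟨(j : ℕ), fun d => ?_⟩
    induction d with
    | bot => simp
    | coe d =>
      induction d with
      | top =>
        constructor
        · intro _ h
          have : ((⊤ : ℕ∞) : WithBot ℕ∞) ≤ ((j : ℕ∞) : WithBot ℕ∞) := h
          rw [WithBot.coe_le_coe] at this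
          exact absurd this (by simp)
        · intro _
          exact le_top
      | coe m =>
        have h1 : (((j + 1 : ℕ) : WithBot ℕ∞) ≤ ((m : ℕ∞) : WithBot ℕ∞)) ↔ j + 1 ≤ m := by
          exact_mod_cast Iff.rfl
        have h2 : (((m : ℕ∞) : WithBot ℕ∞) ≤ ((j : ℕ) : WithBot ℕ∞)) ↔ m ≤ j := by
          exact_mod_cast Iff.rfl
        rw [h1, h2]
        omega

/-- **Lower semicontinuity near `y`** of the fibre dimension when `f` is of finite type and open
at all points over `y`. -/
theorem setOf_dim_fiber_ge_mem_nhds {X Y : Scheme.{u}} [IsLocallyNoetherian Y] (f : X ⟶ Y)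
    [LocallyOfFiniteType f] [QuasiCompact f] (y : Y)
    (h : ∀ x : X, f.base x = y → EGA43.IsOpenAt f.base x) :
    {z : Y | topologicalKrullDim ↥(f.fiber y) ≤ topologicalKrullDim ↥(f.fiber z)} ∈ nhds y := by
  have hXN : IsLocallyNoetherian X := LocallyOfFiniteType.isLocallyNoetherian f
  obtain ⟨N, hN⟩ := exists_nat_dim_fiber_le f y
  have hL := dim_fiber_le_of_isOpenAt_of_specializes f y h
  generalize hn : topologicalKrullDim ↥(f.fiber y) = n at hN hL ⊢
  induction n with
  | bot => simp
  | coe n =>
    induction n with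
    | top =>
      exfalso
      have : ((⊤ : ℕ∞) : WithBot ℕ∞) ≤ ((N : ℕ∞) : WithBot ℕ∞) := hN
      rw [WithBot.coe_le_coe] at this
      exact absurd this (by simp)
    | coe k =>
      obtain ⟨c, hc⟩ := natCast_le_iff_not_le_pred k
      have heq : {z : Y | (((k : ℕ∞) : WithBot ℕ∞)) ≤ topologicalKrullDim ↥(f.fiber z)} =
          f.base '' {x : X | ¬ FlatMor.fibreDimAt f x ≤ c} := by
        rw [← setOf_not_dim_fiber_le_eq]
        ext z
        exact hc _
      rw [heq, ← mem_interior_iff_mem_nhds]
      apply mem_interior_of_isLocallyConstructible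
      · apply f.isLocallyConstructible_image
        exact isLocallyConstructible_of_isClosed X (isOpen_setOf_fibreDimAt_le' f c).isClosed_compl
      · intro z hz
        rw [← heq]
        exact hL z hz

end Groth.Agent.H17.Chev
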