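import Groth.Agent.H17.Chev.OpenDim2
import Groth.Agent.H17.Chev.FamCycT
import Groth.Agent.H17.ProConsCompl

set_option autoImplicit false
set_option linter.unusedSectionVars false
set_option linter.style.haveILetI false
universe u
open CategoryTheory CategoryTheory.Limits AlgebraicGeometry Topology Order TopologicalSpace
open Set.Notation

namespace Groth.Agent.H17.Chev

/-- the set of dimensions of the irreducible components of a space -/
def compDims (T : Type*) [TopologicalSpace T] : Set (WithBot ℕ∞) :=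
  (fun Z : Set T => topologicalKrullDim ↥Z) '' irreducibleComponents T

theorem compDims_subset_of_homeomorph {A B : Type*} [TopologicalSpace A] [TopologicalSpace B]
    (e : A ≃ₜ B) : compDims A ⊆ compDims B := by
  rintro _ ⟨Z, hZ, rfl⟩
  refine ⟨e '' Z, ⟨hZ.1.image e e.continuous.continuousOn, fun T hT hZT => ?_⟩, ?_⟩
  · have h1 : IsIrreducible (e.symm '' T) := hT.image e.symm e.symm.continuous.continuousOn
    have h2 : Z ⊆ e.symm '' T := by
      intro a ha
      exact ⟨e a, hZT ⟨a, ha, rfl⟩, e.symm_apply_apply a⟩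
    have h3 : e.symm '' T ⊆ Z := hZ.2 h1 h2
    rintro t ht
    exact ⟨e.symm t, h3 ⟨t, ht, rfl⟩, e.apply_symm_apply t⟩
  · exact (IsHomeomorph.topologicalKrullDim_eq _ (e.image Z).isHomeomorph).symm

theorem compDims_eq_of_homeomorph {A B : Type*} [TopologicalSpace A] [TopologicalSpace B]
    (e : A ≃ₜ B) : compDims A = compDims B :=
  Set.Subset.antisymm (compDims_subset_of_homeomorph e) (compDims_subset_of_homeomorph e.symm)

theorem compDims_eq_of_isEmbedding {A B : Type*} [TopologicalSpace A] [TopologicalSpace B]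
    (g : A → B) (hg : IsEmbedding g) (S : Set B) (hS : Set.range g = S) :
    compDims A = compDims ↥S := by
  subst hS
  exact compDims_eq_of_homeomorph hg.toHomeomorph

theorem compDims_subtype_congr {B : Type*} [TopologicalSpace B] {S S' : Set B} (h : S = S') :
    compDims ↥S = compDims ↥S' := by
  subst h; rfl

/-- if the fibre has local dimension `k` at `x` then some irreducible component of the fibre has
dimension `k` -/
theorem fibreDimAt_mem_compDims {X Y : Scheme.{u}} (f : X ⟶ Y) [LocallyOfFiniteType f] (x : X) :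
    FlatMor.fibreDimAt f x ∈ compDims ↥(f.fiber (f.base x)) := by
  have hlft : LocallyOfFiniteType (f.fiberToSpecResidueField (f.base x)) :=
    inferInstanceAs (LocallyOfFiniteType (pullback.snd f (Y.fromSpecResidueField (f.base x))))
  obtain ⟨z, hzf, -, hzmax, -, hzdim⟩ := exists_maximal_fibre_point_fibreDimAt_eq f x
  obtain ⟨ξ, rfl⟩ : z ∈ Set.range (f.fiberι (f.base x)).base := by
    rw [Scheme.Hom.range_fiberι]; exact hzf
  have hξmax : IsMax ξ := by
    intro ξ' hξ'
    have h1 : ξ' ⤳ ξ := hξ'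
    have h2 := hzmax _ ((map_fiberι f _ ξ').trans (map_fiberι f _ ξ).symm)
      (h1.map (f.fiberι (f.base x)).continuous)
    have h3 : ξ' = ξ := (f.fiberι (f.base x)).isEmbedding.injective h2
    rw [h3]
  refine ⟨closure {ξ}, closure_mem_irreducibleComponents_of_isMax _ ξ hξmax, ?_⟩
  change topologicalKrullDim ↥(closure ({ξ} : Set ↥(f.fiber (f.base x)))) = _
  rw [dim_irreducibleComponent_eq_localDim (Y.residueField (f.base x))
    (f.fiberToSpecResidueField (f.base x)) _
    (closure_mem_irreducibleComponents_of_isMax _ ξ hξmax) ξ isGenericPoint_closure,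
    localDim_fiber_eq_fibreDimAt, hzdim]

/-- a component of the fibre of dimension `k` gives a point with local fibre dimension `k` -/
theorem exists_fibreDimAt_eq_of_mem_compDims {X Y : Scheme.{u}} (f : X ⟶ Y)
    [LocallyOfFiniteType f] (z : Y) (k : WithBot ℕ∞) (hk : k ∈ compDims ↥(f.fiber z)) :
    ∃ x : X, f.base x = z ∧ FlatMor.fibreDimAt f x = k := by
  have hlft : LocallyOfFiniteType (f.fiberToSpecResidueField z) :=
    inferInstanceAs (LocallyOfFiniteType (pullback.snd f (Y.fromSpecResidueField z)))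
  obtain ⟨Z, hZ, rfl⟩ := hk
  have hZc : IsClosed Z := isClosed_of_mem_irreducibleComponents Z hZ
  have hgen := hZ.1.isGenericPoint_genericPoint hZc
  refine ⟨(f.fiberι z).base hZ.1.genericPoint, map_fiberι f z _, ?_⟩
  rw [← localDim_fiber_eq_fibreDimAt]
  exact (dim_irreducibleComponent_eq_localDim (Y.residueField z)
    (f.fiberToSpecResidueField z) Z hZ _ hgen).symm

theorem compDims_fiber_subset_of_isOpenAt_of_specializes {X Y : Scheme.{u}} [IsLocallyNoetherian Y]
    (f : X ⟶ Y) [LocallyOfFiniteType f] (y : Y)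
    (h : ∀ x : X, f.base x = y → EGA43.IsOpenAt f.base x) (η : Y) (hη : η ⤳ y) :
    compDims ↥(f.fiber y) ⊆ compDims ↥(f.fiber η) := by
  rintro k ⟨Z, hZ, hk⟩
  obtain ⟨w, -⟩ := hZ.1.nonempty
  have hx₀ : f.base ((f.fiberι y).base w) = y := map_fiberι f y w
  -- `η` is in the image of `f`
  obtain ⟨ξ', hξ'⟩ : η ∈ Set.range f.base := by
    have h1 := h _ hx₀ Set.univ Filter.univ_mem
    rw [hx₀, Set.image_univ] at h1
    exact mem_of_mem_nhds (hη.nhds_le_nhds h1)
  have hc : IsClosed (f.base ⁻¹' closure {η}) := isClosed_closure.preimage f.continuous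
  obtain ⟨X₁, Y₁, iX, iY, f₁, hiX, hiY, hsq, hrX, hrY⟩ := exists_square f _ hc
  have hrY' : Set.range iY.base = closure {η} := by
    rw [hrY]
    apply Set.Subset.antisymm
    · apply closure_minimal _ isClosed_closure
      rintro _ ⟨a, ha, rfl⟩
      exact ha
    · apply closure_mono
      rw [Set.singleton_subset_iff]
      exact ⟨ξ', by rw [Set.mem_preimage, hξ']; exact subset_closure rfl, hξ'⟩
  have hinj : Function.Injective iY.base := iY.isEmbedding.injective
  obtain ⟨η₁, hη₁⟩ : η ∈ Set.range iY.base := by rw [hrY']; exact subset_closure rfl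
  obtain ⟨y₁, hy₁⟩ : y ∈ Set.range iY.base := by rw [hrY']; exact hη.mem_closure
  obtain ⟨hY₁, hclY⟩ := irreducibleSpace_of_isEmbedding iY.base iY.isEmbedding η₁
    (by rw [hrY', hη₁])
  have hY₁N : IsLocallyNoetherian Y₁ := LocallyOfFiniteType.isLocallyNoetherian iY
  have hlft₁ : LocallyOfFiniteType f₁ := by
    have : LocallyOfFiniteType (f₁ ≫ iY) := by rw [hsq]; infer_instance
    exact locallyOfFiniteType_of_comp f₁ iY
  have hgp : genericPoint ↥Y₁ = η₁ := by
    have h1 : IsGenericPoint η₁ (Set.univ : Set ↥Y₁) := hclY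
    exact (genericPoint_spec ↥Y₁).eq h1
  have hsqa : ∀ a : X₁, iY.base (f₁.base a) = f.base (iX.base a) := sq_apply f iX iY f₁ hsq
  have hopen₁ : ∀ x₁ : X₁, f₁.base x₁ = y₁ → EGA43.IsOpenAt f₁.base x₁ := by
    intro x₁ hx₁
    refine isOpenAt_of_square f.base f₁.base iX.base iY.base iX.isEmbedding.isInducing
      iY.isEmbedding.isInducing hinj hsqa ?_ x₁ (h _ ?_)
    · intro a ha
      rw [hrX, Set.mem_preimage, ← hrY']
      exact ha
    · rw [← hsqa, hx₁, hy₁]
  have e1 : f.base ⁻¹' closure {η} ∩ f.base ⁻¹' {y} = f.base ⁻¹' {y} := by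
    apply Set.inter_eq_right.mpr
    intro a ha
    rw [Set.mem_preimage, Set.mem_singleton_iff] at ha
    rw [Set.mem_preimage, ha]
    exact hη.mem_closure
  have e2 : f.base ⁻¹' closure {η} ∩ f.base ⁻¹' {η} = f.base ⁻¹' {η} := by
    apply Set.inter_eq_right.mpr
    intro a ha
    rw [Set.mem_preimage, Set.mem_singleton_iff] at ha
    rw [Set.mem_preimage, ha]
    exact subset_closure rfl
  have hcd : ∀ (t₁ : Y₁) (t : Y), iY.base t₁ = t →
      f.base ⁻¹' closure {η} ∩ f.base ⁻¹' {t} = f.base ⁻¹' {t} →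
      compDims ↥(f₁.fiber t₁) = compDims ↥(f.fiber t) := by
    intro t₁ t ht het
    rw [compDims_eq_of_isEmbedding _ (isEmbedding_fiberι_comp iX f₁ t₁) _
      (range_fiberι_comp f iX iY f₁ hsq hinj t₁), ht, hrX, compDims_subtype_congr het]
    exact (compDims_eq_of_homeomorph (f.fiberHomeo t)).symm
  have h1 : k ∈ compDims ↥(f₁.fiber y₁) := by
    rw [hcd y₁ y hy₁ e1]
    exact ⟨Z, hZ, hk⟩
  obtain ⟨Z₁, hZ₁, hk₁⟩ := h1
  obtain ⟨Z', hZ'c, hZ'⟩ := exists_irreducibleComponent_generic_dim_eq_of_isOpenAt f₁ y₁ hopen₁ Z₁ hZ₁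
  have h2 : k ∈ compDims ↥(f₁.fiber (genericPoint ↥Y₁)) := ⟨Z', hZ'c, hZ'.trans hk₁⟩
  rw [hcd (genericPoint ↥Y₁) η (by rw [hgp, hη₁]) e2] at h2
  exact h2


theorem finite_irreducibleComponents_fiber {X Y : Scheme.{u}} (f : X ⟶ Y) [LocallyOfFiniteType f]
    [QuasiCompact f] (y : Y) : (irreducibleComponents ↥(f.fiber y)).Finite := by
  have hlft : LocallyOfFiniteType (f.fiberToSpecResidueField y) :=
    inferInstanceAs (LocallyOfFiniteType (pullback.snd f (Y.fromSpecResidueField y)))
  have hqc : QuasiCompact (f.fiberToSpecResidueField y) :=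
    inferInstanceAs (QuasiCompact (pullback.snd f (Y.fromSpecResidueField y)))
  have hFN : IsLocallyNoetherian (f.fiber y) :=
    LocallyOfFiniteType.isLocallyNoetherian (f.fiberToSpecResidueField y)
  have hFC : CompactSpace ↥(f.fiber y) :=
    QuasiCompact.compactSpace_of_compactSpace (f.fiberToSpecResidueField y)
  have hFNoeth : IsNoetherian (f.fiber y) := ⟨⟩
  exact NoetherianSpace.finite_irreducibleComponents

/-- near `y`, every dimension of a component of `X_y` is the dimension of a component of `X_z` -/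
theorem setOf_mem_compDims_mem_nhds {X Y : Scheme.{u}} [IsLocallyNoetherian Y] (f : X ⟶ Y)
    [LocallyOfFiniteType f] [QuasiCompact f] (y : Y)
    (h : ∀ x : X, f.base x = y → EGA43.IsOpenAt f.base x) (k : WithBot ℕ∞)
    (hk : k ∈ compDims ↥(f.fiber y)) :
    {z : Y | k ∈ compDims ↥(f.fiber z)} ∈ nhds y := by
  have hXN : IsLocallyNoetherian X := LocallyOfFiniteType.isLocallyNoetherian f
  obtain ⟨x₀, hx₀, hx₀k⟩ := exists_fibreDimAt_eq_of_mem_compDims f y k hk
  obtain ⟨k₀, hk₀⟩ := exists_nat_eq_fibreDimAt f x₀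
  have hkk : k = (k₀ : WithBot ℕ∞) := hx₀k.symm.trans hk₀
  obtain ⟨c, hc⟩ := natCast_le_iff_not_le_pred k₀
  have hL : {x : X | FlatMor.fibreDimAt f x = k} =
      {x : X | FlatMor.fibreDimAt f x ≤ k} ∩ {x : X | ¬ FlatMor.fibreDimAt f x ≤ c} := by
    ext x
    simp only [Set.mem_ofPred_eq, Set.mem_inter_iff]
    rw [← hc, hkk]
    exact ⟨fun h => ⟨h.le, h.ge⟩, fun h => le_antisymm h.1 h.2⟩
  have hlc : IsLocallyConstructible {x : X | FlatMor.fibreDimAt f x = k} := by
    rw [hL]
    refine IsLocallyConstructible.inter ?_ ?_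
    · have := Groth.Agent.H17.isLocallyConstructible_compl
        (isLocallyConstructible_of_isClosed X (isOpen_setOf_fibreDimAt_le' f k).isClosed_compl)
      rwa [compl_compl] at this
    · exact isLocallyConstructible_of_isClosed X (isOpen_setOf_fibreDimAt_le' f c).isClosed_compl
  have himg := f.isLocallyConstructible_image hlc
  have hint : y ∈ interior (f.base '' {x : X | FlatMor.fibreDimAt f x = k}) := by
    apply mem_interior_of_isLocallyConstructible Y himg
    intro z hz
    have h1 := compDims_fiber_subset_of_isOpenAt_of_specializes f y h z hz hk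
    obtain ⟨x, hx, hxk⟩ := exists_fibreDimAt_eq_of_mem_compDims f z k h1
    exact ⟨x, hxk, hx⟩
  rw [← mem_interior_iff_mem_nhds]
  refine interior_mono ?_ hint
  rintro _ ⟨x, hxk, rfl⟩
  have := fibreDimAt_mem_compDims f x
  rw [hxk] at this
  exact this

end Groth.Agent.H17.Chev
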