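import Groth.Agent.H17.Chev.DimFormIff2

set_option autoImplicit false
set_option linter.unusedSectionVars false
set_option linter.style.haveILetI false
universe u
open CategoryTheory CategoryTheory.Limits AlgebraicGeometry Topology Order TopologicalSpace

namespace Groth.Agent.H17.Chev

theorem fromSpecStalk_mem_basicOpen_iff (X : Scheme.{u}) (x : X) (g : Γ(X, ⊤))
    (Q : ↥(Spec (X.presheaf.stalk x))) :
    (X.fromSpecStalk x).base Q ∈ X.basicOpen g ↔
      (X.presheaf.germ ⊤ x trivial).hom g ∉ (Q : PrimeSpectrum (X.presheaf.stalk x)).asIdeal := by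
  have h1 : (X.fromSpecStalk x).base Q ∈ X.basicOpen g ↔
      Q ∈ (X.fromSpecStalk x) ⁻¹ᵁ X.basicOpen g := Iff.rfl
  rw [h1, Scheme.preimage_basicOpen_top, Scheme.fromSpecStalk_appTop]
  have h2 : (X.presheaf.germ ⊤ x trivial ≫ (Scheme.ΓSpecIso (X.presheaf.stalk x)).inv ≫
      (Spec (X.presheaf.stalk x)).presheaf.map (homOfLE le_top).op).hom g =
      (Scheme.ΓSpecIso (X.presheaf.stalk x)).inv.hom ((X.presheaf.germ ⊤ x trivial).hom g) := by
    simp
    have := ConcreteCategory.congr_hom (Scheme.ΓSpecIso_inv_naturality (X.presheaf.germ ⊤ x trivial)) g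
    simp only [CommRingCat.comp_apply] at this
    exact this.symm
  rw [h2, basicOpen_eq_of_affine]
  exact Iff.rfl

/-- **Krull's principal ideal theorem** at a maximal point of a zero locus. -/
theorem ringKrullDim_stalk_le_one_of_isMax_zeroLocus (X : Scheme.{u}) [IsLocallyNoetherian X]
    (g : Γ(X, ⊤)) (ξ : X) (hξ : ξ ∈ X.zeroLocus ({g} : Set Γ(X, ⊤)))
    (hmax : ∀ t ∈ X.zeroLocus ({g} : Set Γ(X, ⊤)), t ⤳ ξ → t = ξ) :
    ringKrullDim (X.presheaf.stalk ξ) ≤ 1 := by
  have hV : ∀ Q : ↥(Spec (X.presheaf.stalk ξ)),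
      (X.fromSpecStalk ξ).base Q ∈ X.zeroLocus ({g} : Set Γ(X, ⊤)) ↔
        (X.presheaf.germ ⊤ ξ trivial).hom g ∈ (Q : PrimeSpectrum (X.presheaf.stalk ξ)).asIdeal := by
    intro Q
    rw [Scheme.mem_zeroLocus_iff]
    simp only [Set.mem_singleton_iff, forall_eq]
    rw [fromSpecStalk_mem_basicOpen_iff, not_not]
  have hmem : (X.presheaf.germ ⊤ ξ trivial).hom g ∈
      IsLocalRing.maximalIdeal (X.presheaf.stalk ξ) := by
    have := (hV (IsLocalRing.closedPoint (X.presheaf.stalk ξ))).mp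
      (by rw [Scheme.fromSpecStalk_closedPoint]; exact hξ)
    exact this
  have hmin : IsLocalRing.maximalIdeal (X.presheaf.stalk ξ) ∈
      (Ideal.span {(X.presheaf.germ ⊤ ξ trivial).hom g}).minimalPrimes := by
    refine ⟨⟨inferInstance, ?_⟩, ?_⟩
    · rw [Ideal.span_le, Set.singleton_subset_iff]; exact hmem
    · rintro q ⟨hq, hgq⟩ hqm
      let Q : ↥(Spec (X.presheaf.stalk ξ)) := (⟨q, hq⟩ : PrimeSpectrum (X.presheaf.stalk ξ))
      have h1 : (X.fromSpecStalk ξ).base Q ∈ X.zeroLocus ({g} : Set Γ(X, ⊤)) := by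
        rw [hV]
        exact hgq (Ideal.subset_span rfl)
      have h2 : (X.fromSpecStalk ξ).base Q ⤳ ξ := by
        have : (X.fromSpecStalk ξ).base Q ∈ Set.range (X.fromSpecStalk ξ).base := ⟨Q, rfl⟩
        rwa [Scheme.range_fromSpecStalk] at this
      have h3 := hmax _ h1 h2
      have h4 : Q = IsLocalRing.closedPoint (X.presheaf.stalk ξ) := by
        apply (X.fromSpecStalk ξ).isEmbedding.injective
        rw [h3, Scheme.fromSpecStalk_closedPoint]
      have h5 : q = IsLocalRing.maximalIdeal (X.presheaf.stalk ξ) := by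
        have := congrArg PrimeSpectrum.asIdeal h4
        exact this
      rw [h5]
  have h := Ideal.height_le_one_of_isPrincipal_of_mem_minimalPrimes _ _ hmin
  rw [← IsLocalRing.maximalIdeal_height_eq_ringKrullDim]
  exact_mod_cast h

/-- If no point of `S` is maximal in the fibre, codimensions in `S ∩ X_y` are smaller. -/
theorem coheight_inter_fibre_add_one_le {X Y : Scheme.{u}} (f : X ⟶ Y) (S : Set X) (x : X)
    (hx : x ∈ S)
    (hS : ∀ z ∈ S, f.base z = f.base x → ∃ z', f.base z' = f.base x ∧ z' ⤳ z ∧ z' ≠ z)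
    (hfin : coheight (⟨x, hx, rfl⟩ : ↥(S ∩ f.base ⁻¹' {f.base x})) ≠ ⊤) :
    coheight (⟨x, hx, rfl⟩ : ↥(S ∩ f.base ⁻¹' {f.base x})) + 1 ≤
      coheight (⟨x, Set.mem_univ x, rfl⟩ : ↥(Set.univ ∩ f.base ⁻¹' {f.base x})) := by
  obtain ⟨k, hk⟩ : ∃ k : ℕ, coheight (⟨x, hx, rfl⟩ : ↥(S ∩ f.base ⁻¹' {f.base x})) = k := by
    cases h : coheight (⟨x, hx, rfl⟩ : ↥(S ∩ f.base ⁻¹' {f.base x})) with
    | top => exact absurd h hfin
    | coe n => exact ⟨n, rfl⟩
  obtain ⟨p, hp, hpl⟩ := exists_series_of_coheight_eq_coe _ hk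
  obtain ⟨z', hz'f, hz'sp, hz'ne⟩ := hS p.last.1 p.last.2.1 p.last.2.2
  have hsub : S ∩ f.base ⁻¹' {f.base x} ⊆ Set.univ ∩ f.base ⁻¹' {f.base x} :=
    Set.inter_subset_inter_left _ (Set.subset_univ S)
  have hincl : StrictMono (Set.inclusion hsub) := fun _ _ hab => hab
  have hlt : (p.map (Set.inclusion hsub) hincl).last <
      (⟨z', Set.mem_univ z', hz'f⟩ : ↥(Set.univ ∩ f.base ⁻¹' {f.base x})) := by
    rw [LTSeries.last_map]
    change p.last.1 < z'
    rw [lt_iff_le_not_ge]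
    refine ⟨hz'sp, fun h => hz'ne ?_⟩
    have h2 : p.last.1 ⤳ z' := h
    exact (hz'sp.antisymm h2).eq
  let q : LTSeries ↥(Set.univ ∩ f.base ⁻¹' {f.base x}) :=
    (p.map (Set.inclusion hsub) hincl).snoc ⟨z', Set.mem_univ z', hz'f⟩ hlt
  have hq1 : q.head = ⟨x, Set.mem_univ x, rfl⟩ := by
    change ((p.map (Set.inclusion hsub) hincl).snoc _ hlt).head = _
    rw [RelSeries.head_snoc, LTSeries.head_map, hp]
  have hq2 : q.length = k + 1 := by
    change ((p.map (Set.inclusion hsub) hincl).snoc _ hlt).length = _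
    rw [RelSeries.snoc_length, LTSeries.map_length, hpl]
  have := length_le_coheight (x := (⟨x, Set.mem_univ x, rfl⟩ :
    ↥(Set.univ ∩ f.base ⁻¹' {f.base x}))) (p := q) (le_of_eq hq1.symm)
  rw [hq2] at this
  rw [hk]
  exact_mod_cast this

/-- A closed subset containing no maximal point of the fibre has smaller local fibre dimension. -/
theorem localDim_inter_fibre_add_one_le {X Y : Scheme.{u}} (f : X ⟶ Y) [LocallyOfFiniteType f]
    (S : Set X) (hSc : IsClosed S) (x : X) (hx : x ∈ S)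
    (hS : ∀ z ∈ S, f.base z = f.base x → ∃ z', f.base z' = f.base x ∧ z' ⤳ z ∧ z' ≠ z) :
    FlatMor.localDim ↥(S ∩ f.base ⁻¹' {f.base x}) ⟨x, hx, rfl⟩ + 1 ≤ FlatMor.fibreDimAt f x := by
  have hlft : LocallyOfFiniteType (f.fiberToSpecResidueField (f.base x)) :=
    inferInstanceAs (LocallyOfFiniteType (pullback.snd f (Y.fromSpecResidueField (f.base x))))
  have hFN : IsLocallyNoetherian (f.fiber (f.base x)) :=
    LocallyOfFiniteType.isLocallyNoetherian (f.fiberToSpecResidueField (f.base x))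
  obtain ⟨nF, hnF⟩ := exists_nat_eq_ringKrullDim
    ((f.fiber (f.base x)).presheaf.stalk (f.asFiber x))
  obtain ⟨d, hd⟩ := exists_nat_eq_dim_closure_asFiber f x
  have hK₀ := fibreDimAt_eq_stalk_add f x
  have hK₁ := localDim_inter_fibre_eq_coheight_add f S hSc x hx
  have h2 := coheight_univ_inter_eq_stalk_fiber f x
  rw [hnF] at h2
  have h3 : coheight (⟨x, Set.mem_univ x, rfl⟩ : ↥(Set.univ ∩ f.base ⁻¹' {f.base x})) =
      (nF : ℕ∞) := by exact_mod_cast h2
  have h1 := coheight_subtype_mono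
    (Set.inter_subset_inter_left (f.base ⁻¹' {f.base x}) (Set.subset_univ S)) x ⟨hx, rfl⟩
  rw [h3] at h1
  obtain ⟨cn, hcn⟩ := exists_nat_eq_of_le_natCast' _ nF h1
  have h4 := coheight_inter_fibre_add_one_le f S x hx hS (by rw [hcn]; exact ENat.natCast_ne_top cn)
  rw [hcn, h3] at h4
  have h5 : cn + 1 ≤ nF := by exact_mod_cast h4
  rw [hK₁, hK₀, hcn, hnF, hd]
  have : cn + d + 1 ≤ nF + d := by omega
  exact_mod_cast this

end Groth.Agent.H17.Chev
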