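import Groth.Agent.H17.Chev.SecComp
import Groth.Agent.H17.Chev.RedSubChev

set_option autoImplicit false
set_option linter.unusedSectionVars false
set_option linter.style.haveILetI false
universe u
open CategoryTheory CategoryTheory.Limits AlgebraicGeometry Topology Order TopologicalSpace

namespace Groth.Agent.H17.Chev

/-- a locally Noetherian scheme is locally connected -/
theorem locallyConnectedSpace_of_isLocallyNoetherian (X : Scheme.{u}) [IsLocallyNoetherian X] :
    LocallyConnectedSpace X := by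
  rw [locallyConnectedSpace_iff_connectedComponentIn_open]
  intro F hF x hx
  rw [isOpen_iff_forall_mem_open]
  intro z hz
  have hzF : z ∈ F := connectedComponentIn_subset F x hz
  obtain ⟨_, ⟨(U : X.Opens), hU, rfl⟩, hzU, hUF⟩ :=
    X.isBasis_affineOpens.exists_subset_of_mem_open hzF hF
  replace hU : IsAffineOpen U := hU
  haveI : IsNoetherianRing Γ(X, U) := IsLocallyNoetherian.component_noetherian ⟨U, hU⟩
  haveI : NoetherianSpace ↥U := noetherianSpace_of_isAffineOpen U hU
  let z' : ↥U := ⟨z, hzU⟩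
  have hop : IsOpen (connectedComponent z') :=
    Groth.Agent.H12.isOpen_connectedComponent_of_noetherian z'
  refine ⟨Subtype.val '' connectedComponent z', ?_, U.isOpen.isOpenMap_subtype_val _ hop,
    ⟨z', mem_connectedComponent, rfl⟩⟩
  have h1 : Subtype.val '' connectedComponent z' = connectedComponentIn (U : Set X) z :=
    (connectedComponentIn_eq_image (F := (U : Set X)) (x := z) hzU).symm
  rw [h1, connectedComponentIn_eq hz]
  exact connectedComponentIn_mono z hUF

/-- the connected component of a point in a fibre of a morphism locally of finite type is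
open in the fibre -/
theorem exists_isOpen_inter_fibre_eq_connectedComponentIn {X Y : Scheme.{u}} (f : X ⟶ Y)
    [LocallyOfFiniteType f] (y : Y) (x₀ : X) (hx₀ : f.base x₀ = y) :
    ∃ O : Set X, IsOpen O ∧ O ∩ f.base ⁻¹' {y} = connectedComponentIn (f.base ⁻¹' {y}) x₀ := by
  let φ := f.fiberToSpecResidueField y
  haveI : LocallyOfFiniteType φ :=
    inferInstanceAs (LocallyOfFiniteType (pullback.snd f (Y.fromSpecResidueField _)))
  haveI : IsLocallyNoetherian (f.fiber y) := LocallyOfFiniteType.isLocallyNoetherian φ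
  haveI : LocallyConnectedSpace ↥(f.fiber y) := locallyConnectedSpace_of_isLocallyNoetherian _
  let h := f.fiberHomeo y
  haveI : LocallyConnectedSpace ↥(f.base ⁻¹' {y}) :=
    h.symm.isOpenEmbedding.locallyConnectedSpace
  let t₀ : ↥(f.base ⁻¹' {y}) := ⟨x₀, hx₀⟩
  have hCT : IsOpen (connectedComponent t₀) := isOpen_connectedComponent
  obtain ⟨O, hO, hOeq⟩ := isOpen_induced_iff.mp hCT
  refine ⟨O, hO, ?_⟩
  rw [connectedComponentIn_eq_image (F := f.base ⁻¹' {y}) (x := x₀) hx₀]
  change _ = Subtype.val '' connectedComponent t₀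
  rw [← hOeq, Subtype.image_preimage_coe, Set.inter_comm]

end Groth.Agent.H17.Chev

namespace Groth.Agent.H17.Chev

/-- a closed subset of an irreducible space of finite dimension `n` whose dimension is at
least `n` is the whole space -/
theorem eq_univ_of_isClosed_of_natCast_le_dim {T : Type*} [TopologicalSpace T]
    [IrreducibleSpace T] (A : Set T) (hA : IsClosed A) (n : ℕ)
    (hT : topologicalKrullDim T ≤ n) (hAn : (n : WithBot ℕ∞) ≤ topologicalKrullDim ↥A) :
    A = Set.univ := by
  by_contra hne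
  obtain ⟨l, hl⟩ := Order.le_krullDim_iff.mp hAn
  let F : IrreducibleCloseds ↥A → IrreducibleCloseds T :=
    IrreducibleCloseds.map Subtype.val continuous_subtype_val
  have hF : StrictMono F :=
    IrreducibleCloseds.map_strictMono_of_isInducing IsInducing.subtypeVal
  let l' := l.map F hF
  let top : IrreducibleCloseds T :=
    ⟨Set.univ, IrreducibleSpace.isIrreducible_univ T, isClosed_univ⟩
  have hlast : l'.last < top := by
    have h1 : ((l'.last : IrreducibleCloseds T) : Set T) ⊆ A := by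
      change closure (Subtype.val '' (l.last : Set ↥A)) ⊆ A
      apply closure_minimal _ hA
      rintro _ ⟨a, -, rfl⟩
      exact a.2
    refine lt_of_le_of_ne (fun t _ => Set.mem_univ t) ?_
    intro heq
    apply hne
    apply Set.eq_univ_of_univ_subset
    have : ((l'.last : IrreducibleCloseds T) : Set T) = Set.univ := by rw [heq]; rfl
    rw [← this]
    exact h1
  have h2 := LTSeries.length_le_krullDim (l'.snoc top hlast)
  have h3 : (l'.snoc top hlast).length = n + 1 := by
    simp [l', hl]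
  rw [h3] at h2
  have h4 : ((n + 1 : ℕ) : WithBot ℕ∞) ≤ (n : WithBot ℕ∞) := h2.trans hT
  have h5 : (n + 1 : ℕ) ≤ n := by exact_mod_cast h4
  omega

/-- subset version -/
theorem subset_of_isClosed_of_natCast_le_dim {B : Type*} [TopologicalSpace B] (C W : Set B)
    (hC : IsIrreducible C) (hW : IsClosed W) (n : ℕ) (hCn : topologicalKrullDim ↥C ≤ n)
    (hWn : (n : WithBot ℕ∞) ≤ topologicalKrullDim ↥(W ∩ C)) : C ⊆ W := by
  haveI : IrreducibleSpace ↥C := Subtype.irreducibleSpace hC
  let A : Set ↥C := Subtype.val ⁻¹' W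
  have hA : IsClosed A := hW.preimage continuous_subtype_val
  have hdim : topologicalKrullDim ↥A = topologicalKrullDim ↥(W ∩ C) := by
    refine topologicalKrullDim_eq_of_isEmbedding (fun a : ↥A => (a.1.1 : B))
      (IsEmbedding.subtypeVal.comp IsEmbedding.subtypeVal) (W ∩ C) ?_
    ext b
    constructor
    · rintro ⟨a, rfl⟩
      exact ⟨a.2, a.1.2⟩
    · rintro ⟨hbW, hbC⟩
      exact ⟨⟨⟨b, hbC⟩, hbW⟩, rfl⟩
  have := eq_univ_of_isClosed_of_natCast_le_dim A hA n hCn (hdim ▸ hWn)
  intro c hc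
  have h1 : (⟨c, hc⟩ : ↥C) ∈ A := by rw [this]; trivial
  exact h1

end Groth.Agent.H17.Chev

namespace Groth.Agent.H17.Chev

theorem isIrreducible_preimage_of_isInducing {A B : Type*} [TopologicalSpace A]
    [TopologicalSpace B] {φ : A → B} (hφ : IsInducing φ) (C : Set B) (hC : IsIrreducible C)
    (hsub : C ⊆ Set.range φ) : IsIrreducible (φ ⁻¹' C) := by
  refine ⟨?_, ?_⟩
  · obtain ⟨c, hc⟩ := hC.nonempty
    obtain ⟨a, rfl⟩ := hsub hc
    exact ⟨a, hc⟩
  · intro U V hU hV ⟨a, haC, haU⟩ ⟨b, hbC, hbV⟩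
    obtain ⟨U', hU', rfl⟩ := hφ.isOpen_iff.mp hU
    obtain ⟨V', hV', rfl⟩ := hφ.isOpen_iff.mp hV
    obtain ⟨c, hcC, hcU, hcV⟩ := hC.2 U' V' hU' hV' ⟨φ a, haC, haU⟩ ⟨φ b, hbC, hbV⟩
    obtain ⟨a', rfl⟩ := hsub hcC
    exact ⟨a', hcC, hcU, hcV⟩

theorem dim_connectedComponentIn_fibre_eq' {X Y : Scheme.{u}} (f : X ⟶ Y)
    [LocallyOfFiniteType f] (y : Y) (x₀ : X) (hx₀ : f.base x₀ = y)
    (hirr : IsIrreducible (connectedComponentIn (f.base ⁻¹' {y}) x₀)) :
    topologicalKrullDim ↥(connectedComponentIn (f.base ⁻¹' {y}) x₀) =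
      FlatMor.fibreDimAt f x₀ := by
  subst hx₀
  obtain ⟨O, hO, hOC⟩ := exists_isOpen_inter_fibre_eq_connectedComponentIn f (f.base x₀) x₀ rfl
  set C := connectedComponentIn (f.base ⁻¹' {f.base x₀}) x₀ with hC
  let φ := f.fiberToSpecResidueField (f.base x₀)
  haveI : LocallyOfFiniteType φ :=
    inferInstanceAs (LocallyOfFiniteType (pullback.snd f (Y.fromSpecResidueField _)))
  have hCsub : C ⊆ Set.range (f.fiberι (f.base x₀)).base := by
    rw [f.range_fiberι]
    exact connectedComponentIn_subset _ _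
  set S := (f.fiberι (f.base x₀)).base ⁻¹' C with hSdef
  have hS : S = (f.fiberι (f.base x₀)).base ⁻¹' O := by
    ext a
    simp only [hSdef, Set.mem_preimage, ← hOC, Set.mem_inter_iff, and_iff_left_iff_imp]
    intro _
    have : (f.fiberι (f.base x₀)).base a ∈ Set.range (f.fiberι (f.base x₀)).base := ⟨a, rfl⟩
    rw [f.range_fiberι] at this
    exact this
  have hSo : IsOpen S := hS ▸ hO.preimage (f.fiberι (f.base x₀)).continuous
  have hSirr : IsIrreducible S :=
    isIrreducible_preimage_of_isInducing (f.fiberι (f.base x₀)).isEmbedding.isInducing C hirr hCsub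
  have hp : f.asFiber x₀ ∈ S := by
    change (f.fiberι _).base (f.asFiber x₀) ∈ C
    rw [f.fiberι_asFiber]
    exact mem_connectedComponentIn rfl
  unfold FlatMor.fibreDimAt
  rw [← dim_open_irreducible_eq_localDim (Y.residueField (f.base x₀)) φ S hSo hSirr
    (f.asFiber x₀) hp]
  symm
  refine topologicalKrullDim_eq_of_isEmbedding (fun s : ↥S => (f.fiberι _).base s.1)
    ((f.fiberι _).isEmbedding.comp IsEmbedding.subtypeVal) C ?_
  have : Set.range (fun s : ↥S => (f.fiberι (f.base x₀)).base s.1) =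
      (f.fiberι (f.base x₀)).base '' S := by
    ext z
    simp
  rw [this, hSdef, Set.image_preimage_eq_inter_range, Set.inter_eq_left]
  exact hCsub

end Groth.Agent.H17.Chev

namespace Groth.Agent.H17.Chev

theorem localDim_fibre_congr {X Y : Scheme.{u}} (f : X ⟶ Y) (W : Set X) (x : X) (hxW : x ∈ W)
    (y : Y) (hx : f.base x = y) :
    FlatMor.localDim ↥(W ∩ f.base ⁻¹' {f.base x}) ⟨x, hxW, rfl⟩ =
      FlatMor.localDim ↥(W ∩ f.base ⁻¹' {y}) ⟨x, hxW, hx⟩ := by
  subst hx
  rfl

theorem dim_le_dim_closure_inter_connectedComponentIn {X Y : Scheme.{u}} (f : X ⟶ Y)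
    [LocallyOfFiniteType f] (y y' : Y) (Z : Set X) (hZsub : Z ⊆ f.base ⁻¹' {y'})
    (hZirr : IsIrreducible Z)
    (hZmax : ∀ Z' : Set X, IsIrreducible Z' → Z' ⊆ f.base ⁻¹' {y'} → Z ⊆ Z' → Z' = Z)
    (x : X) (hx : f.base x = y) (hxW : x ∈ closure Z) :
    topologicalKrullDim ↥Z ≤
      topologicalKrullDim ↥(closure Z ∩ connectedComponentIn (f.base ⁻¹' {y}) x) := by
  set W := closure Z with hW
  have hWc : IsClosed W := isClosed_closure
  have hWirr : IsIrreducible W := hZirr.closure
  obtain ⟨ξ, hξ⟩ := QuasiSober.sober hWirr hWc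
  obtain ⟨z, hz⟩ := hZirr.nonempty
  have hfz : f.base z = y' := hZsub hz
  have hfξ : f.base ξ = y' := by
    have h1 : ξ ⤳ z := by
      rw [specializes_iff_mem_closure, hξ.def]
      exact subset_closure hz
    have h2 : f.base ξ ⤳ y' := hfz ▸ h1.map f.continuous
    have h3 : y' ⤳ f.base ξ := by
      rw [specializes_iff_mem_closure]
      have : ξ ∈ closure Z := hξ.mem
      have h4 := map_mem_closure f.continuous this (t := {y'}) (fun a ha => hZsub ha)
      exact h4
    exact (h2.antisymm h3).eq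
  have hWZ : W ∩ f.base ⁻¹' {y'} = Z := by
    apply hZmax
    · refine ⟨⟨z, subset_closure hz, hfz⟩, ?_⟩
      intro U V hU hV ⟨a, ⟨haW, haf⟩, haU⟩ ⟨b, ⟨hbW, hbf⟩, hbV⟩
      obtain ⟨a', ha'U, ha'Z⟩ := mem_closure_iff.mp haW U hU haU
      obtain ⟨b', hb'V, hb'Z⟩ := mem_closure_iff.mp hbW V hV hbV
      obtain ⟨c, hcZ, hcU, hcV⟩ := hZirr.2 U V hU hV ⟨a', ha'Z, ha'U⟩ ⟨b', hb'Z, hb'V⟩
      exact ⟨c, ⟨subset_closure hcZ, hZsub hcZ⟩, hcU, hcV⟩
    · exact Set.inter_subset_right
    · exact fun a ha => ⟨subset_closure ha, hZsub ha⟩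
  have h1 := dim_generic_le_localDim f W hWc ξ hξ x hxW
  rw [hfξ, hWZ, localDim_fibre_congr f W x hxW y hx] at h1
  refine h1.trans ?_
  obtain ⟨O, hO, hOC⟩ := exists_isOpen_inter_fibre_eq_connectedComponentIn f y x hx
  have hxO : x ∈ O := by
    have : x ∈ connectedComponentIn (f.base ⁻¹' {y}) x := mem_connectedComponentIn hx
    rw [← hOC] at this
    exact this.1
  rw [← localDim_inter_open_eq (W ∩ f.base ⁻¹' {y}) O hO x ⟨hxW, hx⟩ hxO]
  refine (localDim_le_dim _).trans ?_
  have : O ∩ (W ∩ f.base ⁻¹' {y}) = W ∩ connectedComponentIn (f.base ⁻¹' {y}) x := by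
    rw [← hOC]
    ext a
    simp only [Set.mem_inter_iff]
    tauto
  rw [this]

end Groth.Agent.H17.Chev
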