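import Groth.Agent.H17.Chev.EquidimStar
import Groth.Agent.H17.Chev.SecComp2
import Groth.Agent.H17.Chev.Main
import Groth.Agent.H51.ResTrdeg
import Groth.Agent.H42.AffSmooth

set_option autoImplicit false
set_option linter.unusedSectionVars false
set_option linter.style.haveILetI false
universe u
open CategoryTheory CategoryTheory.Limits AlgebraicGeometry Topology Order TopologicalSpace

namespace Groth.Agent.H17.Chev

/-- For a locally quasi-finite `g`, the closure of a point in its `g ≫ q`-fibre and the closure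
of its image in the `q`-fibre have the same dimension. -/
theorem dim_closure_asFiber_comp_lqf {X P Y : Scheme.{u}} (g : X ⟶ P) (q : P ⟶ Y)
    [LocallyQuasiFinite g] [LocallyOfFiniteType q] [LocallyOfFiniteType (g ≫ q)] (ξ : X) :
    topologicalKrullDim ↥(closure ({(g ≫ q).asFiber ξ} :
        Set ↥((g ≫ q).fiber ((g ≫ q).base ξ)))) =
      topologicalKrullDim ↥(closure ({q.asFiber (g.base ξ)} :
        Set ↥(q.fiber (q.base (g.base ξ))))) := by
  rw [dim_closure_asFiber_eq_trdeg, dim_closure_asFiber_eq_trdeg]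
  have h1 := Groth.Agent.H51.resTrdeg_comp g q ξ
  rw [Groth.Agent.H51.resTrdeg_eq_zero_of_lqf g ξ, add_zero] at h1
  unfold Dual3.resTrdeg at h1
  rw [h1]

/-- At a maximal point, the closure of the point in its fibre has dimension the local fibre
dimension. -/
theorem dim_closure_asFiber_eq_fibreDimAt_of_isMax {X Y : Scheme.{u}} (f : X ⟶ Y)
    [LocallyOfFiniteType f] (ξ : X) (hmax : IsMax ξ) :
    topologicalKrullDim ↥(closure ({f.asFiber ξ} : Set ↥(f.fiber (f.base ξ)))) =
      FlatMor.fibreDimAt f ξ := by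
  have hlft : LocallyOfFiniteType (f.fiberToSpecResidueField (f.base ξ)) :=
    inferInstanceAs (LocallyOfFiniteType (pullback.snd f (Y.fromSpecResidueField (f.base ξ))))
  have hmax' : IsMax (f.asFiber ξ) := by
    intro b hb
    have h1 : b ⤳ f.asFiber ξ := hb
    have h2 := h1.map (f.fiberι (f.base ξ)).continuous
    rw [f.fiberι_asFiber] at h2
    have h3 : ξ ⤳ (f.fiberι (f.base ξ)).base b := hmax (show ξ ≤ _ from h2)
    have h4 : (f.fiberι (f.base ξ)).base (f.asFiber ξ) ⤳ (f.fiberι (f.base ξ)).base b := by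
      rw [f.fiberι_asFiber ξ]; exact h3
    exact (show f.asFiber ξ ⤳ b from
      (f.fiberι (f.base ξ)).isEmbedding.isInducing.specializes_iff.mp h4)
  have hZ := closure_mem_irreducibleComponents_of_isMax _ (f.asFiber ξ) hmax'
  have h1 := dim_irreducibleComponent_eq_localDim (Y.residueField (f.base ξ))
    (f.fiberToSpecResidueField (f.base ξ)) _ hZ (f.asFiber ξ) isGenericPoint_closure
  rw [h1]
  rfl

section AffineSpace

variable (Y : Scheme.{u}) (e : ℕ)

theorem dim_fiber_affineSpace (y : Y) :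
    topologicalKrullDim ↥((𝔸(ULift.{u} (Fin e); Y) ↘ Y).fiber y) = e := by
  have hAq : IsAffine ((𝔸(ULift.{u} (Fin e); Y) ↘ Y).fiber y) :=
    inferInstanceAs (IsAffine (pullback (𝔸(ULift.{u} (Fin e); Y) ↘ Y) (Y.fromSpecResidueField y)))
  rw [Groth.Agent.H17.topologicalKrullDim_of_isAffine, ringKrullDim_Γ_fiber_affineSpace]
  simp

/-- A point of affine space over a maximal point of the base whose closure in its fibre has
dimension `≥ e` is a maximal point. -/
theorem isMax_of_le_dim_closure_asFiber (p : 𝔸(ULift.{u} (Fin e); Y))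
    (hq : IsMax ((𝔸(ULift.{u} (Fin e); Y) ↘ Y).base p))
    (hdim : (e : WithBot ℕ∞) ≤ topologicalKrullDim ↥(closure
      ({(𝔸(ULift.{u} (Fin e); Y) ↘ Y).asFiber p} :
        Set ↥((𝔸(ULift.{u} (Fin e); Y) ↘ Y).fiber ((𝔸(ULift.{u} (Fin e); Y) ↘ Y).base p))))) :
    IsMax p := by
  set q := 𝔸(ULift.{u} (Fin e); Y) ↘ Y with hq_def
  have huniv := eq_univ_of_isClosed_of_natCast_le_dim
    (closure ({q.asFiber p} : Set ↥(q.fiber (q.base p)))) isClosed_closure e
    (dim_fiber_affineSpace Y e (q.base p)).le hdim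
  intro η hη
  have h1 : η ⤳ p := hη
  have h2 : q.base η ⤳ q.base p := h1.map q.continuous
  have h3 : q.base p ⤳ q.base η := hq (show q.base p ≤ q.base η from h2)
  have h4 : q.base η = q.base p := (h2.antisymm h3).eq
  have h5 : η ∈ Set.range (q.fiberι (q.base p)).base := by
    rw [Scheme.Hom.range_fiberι]; exact h4
  obtain ⟨η', rfl⟩ := h5
  have h6 : η' ∈ closure ({q.asFiber p} : Set ↥(q.fiber (q.base p))) := by
    rw [huniv]; trivial
  have h7 : q.asFiber p ⤳ η' := specializes_iff_mem_closure.mpr h6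
  have h8 := h7.map (q.fiberι (q.base p)).continuous
  rw [q.fiberι_asFiber] at h8
  exact h8

/-- For a maximal point of affine space, the closure of the point in its fibre has dimension
`e`. -/
theorem dim_closure_asFiber_of_isMax (p : 𝔸(ULift.{u} (Fin e); Y)) (hp : IsMax p) :
    topologicalKrullDim ↥(closure ({(𝔸(ULift.{u} (Fin e); Y) ↘ Y).asFiber p} :
        Set ↥((𝔸(ULift.{u} (Fin e); Y) ↘ Y).fiber ((𝔸(ULift.{u} (Fin e); Y) ↘ Y).base p)))) = e := by
  set q := 𝔸(ULift.{u} (Fin e); Y) ↘ Y with hq_def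
  set γ := genericPoint ↥(q.fiber (q.base p)) with hγ
  have h1 : γ ⤳ q.asFiber p := (genericPoint_spec _).specializes (Set.mem_univ _)
  have h2 := h1.map (q.fiberι (q.base p)).continuous
  rw [q.fiberι_asFiber] at h2
  have h3 : p ⤳ (q.fiberι (q.base p)).base γ := hp (show p ≤ _ from h2)
  have h4 : (q.fiberι (q.base p)).base γ = p := (h2.antisymm h3).eq
  have h5 : q.asFiber p = γ := by
    apply (q.fiberι (q.base p)).isEmbedding.injective
    rw [q.fiberι_asFiber, h4]
  rw [h5, (genericPoint_spec _).def]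
  rw [← dim_fiber_affineSpace Y e (q.base p)]
  exact IsHomeomorph.topologicalKrullDim_eq _ (Homeomorph.Set.univ _).isHomeomorph

/-- The structure morphism of affine space maps maximal points to maximal points. -/
theorem isMax_over_of_isMax (p : 𝔸(ULift.{u} (Fin e); Y)) (hp : IsMax p) :
    IsMax ((𝔸(ULift.{u} (Fin e); Y) ↘ Y).base p) := by
  set q := 𝔸(ULift.{u} (Fin e); Y) ↘ Y with hq_def
  have hflat : Flat q := Groth.Agent.H42.AffSmooth.flat_over _ Y
  intro y hy
  have h1 : y ⤳ q.base p := hy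
  obtain ⟨p', hp', rfl⟩ := Flat.generalizingMap q h1
  have h2 : p ⤳ p' := hp (show p ≤ p' from hp')
  exact (show q.base p ⤳ q.base p' from h2.map q.continuous)

end AffineSpace

end Groth.Agent.H17.Chev
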