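import Groth.Agent.H17.Chev.QFAff
import Groth.Agent.H51.SpQuasiFiniteAt
import Groth.Agent.H51.FibCompMain

set_option autoImplicit false
set_option linter.unusedSectionVars false
set_option linter.style.haveILetI false
universe u
open CategoryTheory CategoryTheory.Limits AlgebraicGeometry Topology Order TopologicalSpace

namespace Groth.Agent.H17.Chev

section

variable {X Y : Scheme.{u}} (e : ℕ)

/-- a locally quasi-finite morphism to `𝔸^e_Y` has fibre dimensions `≤ e` over `Y` -/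
theorem fibreDimAt_comp_over_le_of_lqf (g : X ⟶ 𝔸(ULift.{u} (Fin e); Y)) [LocallyQuasiFinite g]
    [LocallyOfFiniteType (g ≫ (𝔸(ULift.{u} (Fin e); Y) ↘ Y))] (x : X) :
    FlatMor.fibreDimAt (g ≫ (𝔸(ULift.{u} (Fin e); Y) ↘ Y)) x ≤ e := by
  set q := 𝔸(ULift.{u} (Fin e); Y) ↘ Y with hq_def
  haveI : LocallyOfFiniteType g := locallyOfFiniteType_of_comp g q
  refine (Groth.Agent.H51.fibreDimAt_comp_le g q x).1.trans ?_
  rw [Groth.Agent.H51.fibreDimAt_eq_zero_of_lqf g x, zero_add]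
  exact (fibreDimAt_le_dim_fiber q (g.base x)).trans (dim_fiber_affineSpace Y e _).le

/-- at a maximal point mapping to a maximal point of `𝔸^e_Y`, the fibre dimension is `e` -/
theorem fibreDimAt_comp_over_eq_of_isMax (g : X ⟶ 𝔸(ULift.{u} (Fin e); Y)) [LocallyQuasiFinite g]
    [LocallyOfFiniteType (g ≫ (𝔸(ULift.{u} (Fin e); Y) ↘ Y))] (ξ : X) (hmax : IsMax ξ)
    (hgmax : IsMax (g.base ξ)) :
    FlatMor.fibreDimAt (g ≫ (𝔸(ULift.{u} (Fin e); Y) ↘ Y)) ξ = e := by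
  set q := 𝔸(ULift.{u} (Fin e); Y) ↘ Y with hq_def
  rw [← dim_closure_asFiber_eq_fibreDimAt_of_isMax (g ≫ q) ξ hmax,
    dim_closure_asFiber_comp_lqf g q ξ]
  exact dim_closure_asFiber_of_isMax Y e (g.base ξ) hgmax

/-- lower bound for the fibre dimension at specializations of such a maximal point -/
theorem le_fibreDimAt_comp_over_of_isMax (g : X ⟶ 𝔸(ULift.{u} (Fin e); Y)) [LocallyQuasiFinite g]
    [LocallyOfFiniteType (g ≫ (𝔸(ULift.{u} (Fin e); Y) ↘ Y))] (ξ u : X) (hmax : IsMax ξ)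
    (hgmax : IsMax (g.base ξ)) (hξu : ξ ⤳ u) :
    (e : WithBot ℕ∞) ≤ FlatMor.fibreDimAt (g ≫ (𝔸(ULift.{u} (Fin e); Y) ↘ Y)) u := by
  set q := 𝔸(ULift.{u} (Fin e); Y) ↘ Y with hq_def
  rw [← fibreDimAt_comp_over_eq_of_isMax e g ξ hmax hgmax,
    ← dim_closure_inter_generic_eq (g ≫ q) ξ hmax, ← localDim_univ_inter_eq_fibreDimAt (g ≫ q) u]
  refine (dim_generic_le_localDim (g ≫ q) (closure {ξ}) isClosed_closure ξ isGenericPoint_closure u
    hξu.mem_closure).trans ?_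
  exact localDim_subtype_mono (Set.inter_subset_inter_left _ (Set.subset_univ _)) u _

end

/-- maximal points of an open subscheme are maximal in the ambient scheme -/
theorem isMax_val_of_isMax_opens {X : Scheme.{u}} (U : X.Opens) (ζ : ↥(U : Scheme.{u}))
    (h : IsMax ζ) :
    IsMax ζ.1 := by
  intro b hb
  have hb1 : b ⤳ ζ.1 := hb
  have hbU : b ∈ U := hb1.mem_open U.isOpen ζ.2
  have hb2 : (⟨b, hbU⟩ : ↥(U : Scheme.{u})) ⤳ ζ := (subtype_specializes_iff _ _).mpr hb1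
  have h3 : ζ ⤳ (⟨b, hbU⟩ : ↥(U : Scheme.{u})) :=
    h (show ζ ≤ (⟨b, hbU⟩ : ↥(U : Scheme.{u})) from hb2)
  exact (show ζ.1 ⤳ b from (subtype_specializes_iff _ _).mp h3)

theorem isMax_opens_of_isMax_val {X : Scheme.{u}} (U : X.Opens) (ζ : ↥(U : Scheme.{u}))
    (h : IsMax ζ.1) :
    IsMax ζ := by
  intro b hb
  have h1 : b ⤳ ζ := hb
  have h2 : b.1 ⤳ ζ.1 := (subtype_specializes_iff b ζ).mp h1
  have h3 : ζ.1 ⤳ b.1 := h (show ζ.1 ≤ b.1 from h2)
  exact (show ζ ⤳ b from (subtype_specializes_iff ζ b).mpr h3)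

/-- **EGA IV 13.3.1, b) ⇒ a)**. -/
theorem isEquidimAt_of_lqf_affineSpace {X Y : Scheme.{u}} [IsLocallyNoetherian Y] (f : X ⟶ Y)
    [LocallyOfFiniteType f] (x : X) (e : ℕ) (U : X.Opens)
    (g : (U : Scheme.{u}) ⟶ 𝔸(ULift.{u} (Fin e); Y)) (hxU : x ∈ U)
    (hg : g ≫ (𝔸(ULift.{u} (Fin e); Y) ↘ Y) = U.ι ≫ f) (hqf : LocallyQuasiFinite g)
    (hcomp : ∀ Z ∈ irreducibleComponents (↥U : Type u),
      closure (g.base '' Z) ∈ irreducibleComponents (↥𝔸(ULift.{u} (Fin e); Y) : Type u)) :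
    EGA43.IsEquidimAt f x := by
  have hXN : IsLocallyNoetherian X := LocallyOfFiniteType.isLocallyNoetherian f
  set q := 𝔸(ULift.{u} (Fin e); Y) ↘ Y with hq_def
  obtain ⟨O, hxO, hO⟩ := exists_open_forall_exists_isMax X x
  haveI hlft : LocallyOfFiniteType (g ≫ q) := by rw [hg]; infer_instance
  have hqg : ∀ t : ↥(U : Scheme.{u}), q.base (g.base t) = f.base t.1 := by
    intro t
    have := congrArg (fun m => m.base t) hg
    exact this
  have key1 : ∀ ξ : ↥(U : Scheme.{u}), IsMax ξ → IsMax (g.base ξ) := by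
    intro ξ hmax
    have hZ := closure_mem_irreducibleComponents_of_isMax (↑U) ξ hmax
    have h1 := hcomp _ hZ
    rw [closure_image_eq_of_isGenericPoint g.base g.continuous _ ξ isGenericPoint_closure] at h1
    exact isMax_of_isGenericPoint_irreducibleComponent _ _ h1 (g.base ξ) isGenericPoint_closure
  refine isEquidimAt_of_forall_fibreDimAt_eq f x e (O ⊓ U) ⟨hxO, hxU⟩ ?_ ?_
  · intro ξ hξ hmax
    obtain ⟨ξ', hmax', hξ'x, hξ'ξ⟩ := hO ξ hξ.1
    have h1 : ξ ⤳ ξ' := hmax (show ξ ≤ ξ' from hξ'ξ)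
    have h2 : ξ = ξ' := (h1.antisymm hξ'ξ).eq
    subst h2
    have hξU : ξ ∈ U := hξ.2
    have hm1 : IsMax (g.base ⟨ξ, hξU⟩) := key1 ⟨ξ, hξU⟩ (isMax_opens_of_isMax_val U ⟨ξ, hξU⟩ hmax)
    have hm2 : IsMax (f.base ξ) := by
      have := isMax_over_of_isMax Y e _ hm1
      rw [← hq_def] at this
      exact (hqg ⟨ξ, hξU⟩) ▸ this
    exact ⟨closure_mem_irreducibleComponents_of_isMax Y _ hm2, (hξ'x.map f.continuous).mem_closure⟩
  · intro u hu
    let u' : ↥(U : Scheme.{u}) := ⟨u, hu.2⟩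
    have h1 : FlatMor.fibreDimAt f u = FlatMor.fibreDimAt (g ≫ q) u' := by
      rw [hg]; exact (fibreDimAt_ι_comp f U u').symm
    rw [h1]
    refine le_antisymm (fibreDimAt_comp_over_le_of_lqf e g u') ?_
    obtain ⟨ξ, hmax, -, hξu⟩ := hO u hu.1
    have hξU : ξ ∈ U := hξu.mem_open U.isOpen hu.2
    let ξ' : ↥(U : Scheme.{u}) := ⟨ξ, hξU⟩
    have hmax' : IsMax ξ' := isMax_opens_of_isMax_val U ξ' hmax
    exact le_fibreDimAt_comp_over_of_isMax e g ξ' u' hmax' (key1 ξ' hmax')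
      ((subtype_specializes_iff ξ' u').mpr hξu)

end Groth.Agent.H17.Chev
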