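import Groth.Agent.H17.Chev.QFAff2

set_option autoImplicit false
set_option linter.unusedSectionVars false
set_option linter.style.haveILetI false
universe u
open CategoryTheory CategoryTheory.Limits AlgebraicGeometry Topology Order TopologicalSpace

namespace Groth.Agent.H17.Chev

theorem isOpenImmersion_affineSpace_map (n : Type u) {S T : Scheme.{u}} (f : S ⟶ T)
    [IsOpenImmersion f] : IsOpenImmersion (AffineSpace.map n f) :=
  MorphismProperty.of_isPullback (P := @IsOpenImmersion) (AffineSpace.isPullback_map (n := n) f).flip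
    inferInstance

/-- **EGA IV 13.3.1.1**: around a point where the fibre has local dimension `e` there is a
locally quasi-finite morphism to `𝔸^e_Y`. -/
theorem exists_lqf_affineSpace_of_fibreDimAt_eq {X Y : Scheme.{u}} (f : X ⟶ Y)
    [LocallyOfFiniteType f] (x : X) (e : ℕ) (he : FlatMor.fibreDimAt f x = e) :
    ∃ (W : X.Opens) (g : (W : Scheme.{u}) ⟶ 𝔸(ULift.{u} (Fin e); Y)), x ∈ W ∧
      g ≫ (𝔸(ULift.{u} (Fin e); Y) ↘ Y) = W.ι ≫ f ∧ LocallyQuasiFinite g := by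
  obtain ⟨V, U₀, hUV, hxU₀, hV, hU₀, hdim⟩ := exists_affineOpens_dim_fiber_le f x he.le
  set f₀ := f.resLE V U₀ hUV with hf₀
  haveI hAU : IsAffine U₀ := hU₀
  haveI hAV : IsAffine V := hV
  let x₀ : ↥(U₀ : Scheme.{u}) := ⟨x, hxU₀⟩
  have he' : topologicalKrullDim ↥(f₀.fiber (f₀.base x₀)) = e := by
    refine le_antisymm hdim ?_
    rw [← he, ← fibreDimAt_resLE f V U₀ hUV x₀]
    exact fibreDimAt_le_dim_fiber f₀ x₀
  obtain ⟨g₀, hg₀, hfin⟩ := exists_hom_affineSpace_finite_fibre f₀ (f₀.base x₀) e he'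
  obtain ⟨-, U₁, hU₁, hqf⟩ :=
    surjective_and_quasiFinite_of_finite_fibre f₀ (f₀.base x₀) e he' g₀ hg₀ hfin
  haveI := isOpenImmersion_affineSpace_map (ULift.{u} (Fin e)) V.ι
  refine ⟨U₀.ι ''ᵁ U₁, (U₀.ι.isoImage U₁).inv ≫ (U₁.ι ≫ g₀) ≫ AffineSpace.map _ V.ι,
    ⟨x₀, hU₁ rfl, rfl⟩, ?_, ?_⟩
  · rw [Category.assoc, Category.assoc, AffineSpace.map_over, Category.assoc, reassoc_of% hg₀, hf₀,
      Scheme.Hom.resLE_comp_ι, Scheme.Hom.isoImage_inv_ι_assoc]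
  · infer_instance

/-- **EGA IV 13.3.1, a) ⇒ b)**. -/
theorem exists_lqf_affineSpace_of_isEquidimAt {X Y : Scheme.{u}} (f : X ⟶ Y)
    [LocallyOfFiniteType f] (x : X) (h : EGA43.IsEquidimAt f x) :
    ∃ (e : ℕ) (U : X.Opens) (g : (U : Scheme.{u}) ⟶ 𝔸(ULift.{u} (Fin e); Y)),
      x ∈ U ∧ g ≫ (𝔸(ULift.{u} (Fin e); Y) ↘ Y) = U.ι ≫ f ∧ LocallyQuasiFinite g ∧
      ∀ Z ∈ irreducibleComponents (↥U : Type u),
        closure (g.base '' Z) ∈ irreducibleComponents (↥𝔸(ULift.{u} (Fin e); Y) : Type u) := by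
  obtain ⟨e, U, hxU, hmaxU, hfibU⟩ := exists_opens_of_isEquidimAt f x h
  obtain ⟨W, g, hxW, hg, hqf⟩ := exists_lqf_affineSpace_of_fibreDimAt_eq f x e (hfibU x hxU)
  set q := 𝔸(ULift.{u} (Fin e); Y) ↘ Y with hq_def
  let W' : X.Opens := W ⊓ U
  let g' : (W' : Scheme.{u}) ⟶ 𝔸(ULift.{u} (Fin e); Y) := X.homOfLE inf_le_left ≫ g
  have hg' : g' ≫ q = W'.ι ≫ f := by
    simp only [g', Category.assoc, hg, Scheme.homOfLE_ι_assoc]
  haveI hqf' : LocallyQuasiFinite g' := inferInstance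
  haveI hlft : LocallyOfFiniteType (g' ≫ q) := by rw [hg']; infer_instance
  refine ⟨e, W', g', ⟨hxW, hxU⟩, hg', hqf', ?_⟩
  intro Z hZ
  have hZc : IsClosed Z := isClosed_of_mem_irreducibleComponents Z hZ
  have hZirr : IsIrreducible Z := hZ.1
  haveI : QuasiSober ↥W' := (W'.isOpen.isOpenEmbedding_subtypeVal).quasiSober
  obtain ⟨ζ, hζ⟩ : ∃ ζ : ↥(W' : Scheme.{u}), IsGenericPoint ζ Z :=
    ⟨_, hZirr.isGenericPoint_genericPoint hZc⟩
  have hmaxζ : IsMax ζ := isMax_of_isGenericPoint_irreducibleComponent (↑W') Z hZ ζ hζ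
  have hmax : IsMax ζ.1 := isMax_val_of_isMax_opens W' ζ hmaxζ
  have hζU : ζ.1 ∈ U := ζ.2.2
  have hfmax : IsMax (f.base ζ.1) :=
    isMax_of_isGenericPoint_irreducibleComponent Y _ (hmaxU ζ.1 hζU hmax) _ isGenericPoint_closure
  have hqg : q.base (g'.base ζ) = f.base ζ.1 := by
    have := congrArg (fun m => m.base ζ) hg'
    exact this
  have hfd : FlatMor.fibreDimAt (g' ≫ q) ζ = e := by
    rw [hg', fibreDimAt_ι_comp f W' ζ]
    exact hfibU ζ.1 hζU
  have hgmax : IsMax (g'.base ζ) := by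
    refine isMax_of_le_dim_closure_asFiber Y e (g'.base ζ) ?_ ?_
    · rw [← hq_def, hqg]; exact hfmax
    · rw [← hq_def, ← dim_closure_asFiber_comp_lqf g' q ζ,
        dim_closure_asFiber_eq_fibreDimAt_of_isMax (g' ≫ q) ζ hmaxζ, hfd]
  rw [closure_image_eq_of_isGenericPoint g'.base g'.continuous Z ζ hζ]
  exact closure_mem_irreducibleComponents_of_isMax _ _ hgmax

end Groth.Agent.H17.Chev
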