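import Groth.Agent.H17.Chev.QFin
import Groth.Agent.H17.Chev.Equidim8
import Groth.Agent.H17.Chev.RedSubMain
import Groth.Agent.H22.RedImm

set_option autoImplicit false
set_option linter.unusedSectionVars false
set_option linter.style.haveILetI false
universe u
open CategoryTheory CategoryTheory.Limits AlgebraicGeometry Topology Order TopologicalSpace

namespace Groth.Agent.H17.Chev

/-- Base case of EGA IV 14.5.3 (local fibre dimension `0`). -/
theorem exists_immersion_quasiFinite_of_fibreDimAt_zero {X Y : Scheme.{u}} [IrreducibleSpace Y]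
    [IsLocallyNoetherian Y] (f : X ⟶ Y) [LocallyOfFiniteType f] (x : X)
    (hf : EGA43.IsEquidimAt f x) (h0 : FlatMor.fibreDimAt f x = 0) :
    ∃ (T : Scheme.{u}) (i : T ⟶ X), IsImmersion i ∧ IrreducibleSpace ↥T ∧ IsReduced T ∧
      x ∈ Set.range i.base ∧ LocallyOfFiniteType (i ≫ f) ∧ LocallyQuasiFinite (i ≫ f) ∧
      QuasiCompact (i ≫ f) ∧ IsDominant (i ≫ f) := by
  have hXN : IsLocallyNoetherian X := LocallyOfFiniteType.isLocallyNoetherian f
  obtain ⟨e, U₀, hxU₀, hmaxU₀, hfibU₀⟩ := exists_opens_of_isEquidimAt f x hf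
  have he : e = 0 := by
    have := hfibU₀ x hxU₀
    rw [h0] at this
    exact_mod_cast this.symm
  subst he
  obtain ⟨ξ, hξmax, hξx⟩ := exists_isMax_specializes X x
  have hξU₀ : ξ ∈ U₀ := hξx.mem_open U₀.isOpen hxU₀
  have hgen : closure {f.base ξ} = Set.univ := by
    have h1 := hmaxU₀ ξ hξU₀ hξmax
    rw [irreducibleComponents_eq_singleton] at h1
    exact h1
  obtain ⟨_, ⟨(W : X.Opens), hW, rfl⟩, hxW, hWU₀⟩ :=
    X.isBasis_affineOpens.exists_subset_of_mem_open hxU₀ U₀.isOpen
  replace hW : IsAffineOpen W := hW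
  have hξW : ξ ∈ W := hξx.mem_open W.isOpen hxW
  let C : Set ↥(W : Scheme.{u}) := W.ι.base ⁻¹' closure {ξ}
  have hC : IsClosed C := isClosed_closure.preimage W.ι.continuous
  have hr : Set.range (Scheme.IdealSheafData.vanishingIdeal
      (⟨C, hC⟩ : Closeds ↥(W : Scheme.{u}))).subschemeι.base = C := by
    rw [Scheme.IdealSheafData.range_subschemeι]
    exact Scheme.IdealSheafData.coe_support_vanishingIdeal _
  have hred : IsReduced (Scheme.IdealSheafData.vanishingIdeal
      (⟨C, hC⟩ : Closeds ↥(W : Scheme.{u}))).subscheme :=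
    Groth.Agent.H22.isReduced_subscheme_vanishingIdeal _
  generalize (Scheme.IdealSheafData.vanishingIdeal
      (⟨C, hC⟩ : Closeds ↥(W : Scheme.{u}))) = I at hr hred
  obtain ⟨ξ₁, hξ₁⟩ : (⟨ξ, hξW⟩ : ↥(W : Scheme.{u})) ∈ Set.range I.subschemeι.base := by
    rw [hr]; exact subset_closure rfl
  obtain ⟨x₁, hx₁⟩ : (⟨x, hxW⟩ : ↥(W : Scheme.{u})) ∈ Set.range I.subschemeι.base := by
    rw [hr]; exact (hξx.mem_closure : x ∈ closure {ξ})
  have hWaff : IsAffine (W : Scheme.{u}) := hW
  have hTaff : IsAffine I.subscheme := isAffine_of_isAffineHom I.subschemeι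
  have hqf : LocallyQuasiFinite (W.ι ≫ f) := by
    apply locallyQuasiFinite_of_forall_fibreDimAt_le_zero
    intro t
    have := fibreDimAt_ι_comp f W t
    rw [this]
    exact (hfibU₀ t.1 (hWU₀ t.2)).le
  refine ⟨I.subscheme, I.subschemeι ≫ W.ι, inferInstance, ?_, hred, ?_, ?_, ?_, ?_, ?_⟩
  · refine (irreducibleSpace_of_isEmbedding I.subschemeι.base I.subschemeι.isEmbedding ξ₁ ?_).1
    rw [hr, hξ₁]
    intro t ht
    have h1 : ξ ⤳ W.ι.base t := specializes_iff_mem_closure.mpr ht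
    have h2 : (⟨ξ, hξW⟩ : ↥(W : Scheme.{u})) ⤳ t :=
      W.ι.isEmbedding.isInducing.specializes_iff.mp h1
    exact h2.mem_closure
  · refine ⟨x₁, ?_⟩
    change W.ι.base (I.subschemeι.base x₁) = x
    rw [hx₁]
    rfl
  · infer_instance
  · rw [Category.assoc]
    infer_instance
  · infer_instance
  · refine ⟨?_⟩
    have hmem : f.base ξ ∈ Set.range ((I.subschemeι ≫ W.ι) ≫ f).base := by
      refine ⟨ξ₁, ?_⟩
      change f.base (W.ι.base (I.subschemeι.base ξ₁)) = f.base ξ
      rw [hξ₁]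
      rfl
    intro t
    have : t ∈ closure {f.base ξ} := by rw [hgen]; trivial
    exact closure_mono (Set.singleton_subset_iff.mpr hmem) this

end Groth.Agent.H17.Chev
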