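import Groth.Agent.H17.Chev.PIT
import Groth.Agent.H17.Chev.Equidim9
import Groth.Agent.H17.Chev.Equidim4

set_option autoImplicit false
set_option linter.unusedSectionVars false
set_option linter.style.haveILetI false
universe u
open CategoryTheory CategoryTheory.Limits AlgebraicGeometry Topology Order TopologicalSpace

namespace Groth.Agent.H17.Chev

theorem exists_specializes_ne_of_hmax {X Y : Scheme.{u}} (f : X ⟶ Y) (x : X) (V : Set X)
    (hmax : ∀ z : X, f.base z = f.base x →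
      (∀ z' : X, f.base z' = f.base x → z ∈ closure ({z'} : Set X) → z' = z) → z ∉ V) :
    ∀ z ∈ V, f.base z = f.base x → ∃ z', f.base z' = f.base x ∧ z' ⤳ z ∧ z' ≠ z := by
  intro z hz hfz
  by_contra hcon
  push Not at hcon
  exact hmax z hfz (fun z' hz' hcl => hcon z' hz' (specializes_iff_mem_closure.mpr hcl)) hz

theorem zeroLocus_isMax_main {X Y : Scheme.{u}} [IrreducibleSpace Y] [IsLocallyNoetherian Y]
    (f : X ⟶ Y) [LocallyOfFiniteType f] (x : X) (hf : EGA43.IsEquidimAt f x) (g : Γ(X, ⊤))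
    (hS : ∀ z ∈ X.zeroLocus ({g} : Set Γ(X, ⊤)), f.base z = f.base x →
      ∃ z', f.base z' = f.base x ∧ z' ⤳ z ∧ z' ≠ z)
    (ξ : X) (hξ : ξ ∈ X.zeroLocus ({g} : Set Γ(X, ⊤)))
    (hmax : ∀ t ∈ X.zeroLocus ({g} : Set Γ(X, ⊤)), t ⤳ ξ → t = ξ) (hξx : ξ ⤳ x) :
    ringKrullDim (X.presheaf.stalk ξ) = 1 ∧
      FlatMor.localDim ↥(closure ({ξ} : Set X) ∩ f.base ⁻¹' {f.base x})
        ⟨x, ⟨hξx.mem_closure, rfl⟩⟩ + 1 = FlatMor.fibreDimAt f x ∧
      f.base ξ = genericPoint Y ∧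
      topologicalKrullDim ↥(closure ({ξ} : Set X) ∩ f.base ⁻¹' {f.base ξ}) =
        FlatMor.localDim ↥(closure ({ξ} : Set X) ∩ f.base ⁻¹' {f.base x})
          ⟨x, ⟨hξx.mem_closure, rfl⟩⟩ := by
  have hXN : IsLocallyNoetherian X := LocallyOfFiniteType.isLocallyNoetherian f
  have hpit := ringKrullDim_stalk_le_one_of_isMax_zeroLocus X g ξ hξ hmax
  have hsub : closure ({ξ} : Set X) ⊆ X.zeroLocus ({g} : Set Γ(X, ⊤)) :=
    (X.zeroLocus_isClosed _).closure_subset_iff.mpr (Set.singleton_subset_iff.mpr hξ)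
  have hdim := localDim_inter_fibre_add_one_le f (closure {ξ}) isClosed_closure x hξx.mem_closure
    (fun z hz hfz => hS z (hsub hz) hfz)
  have := equidim_closed_irreducible_main f x hf (closure {ξ}) isClosed_closure ξ
    isGenericPoint_closure hξx.mem_closure 1 (by exact_mod_cast hpit) (by exact_mod_cast hdim)
  exact_mod_cast this

theorem range_closure_inter_preimage {A B C : Type*} [TopologicalSpace A] [TopologicalSpace B]
    (j : A → B) (hj : IsClosedEmbedding j) (φ : B → C) (ψ : A → C) (hψ : ∀ a, ψ a = φ (j a))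
    (a : A) (c : C) :
    Set.range (fun p : ↥(closure ({a} : Set A) ∩ ψ ⁻¹' {c}) => j p.1) =
      closure ({j a} : Set B) ∩ φ ⁻¹' {c} := by
  have hcl : j '' closure ({a} : Set A) = closure {j a} := by
    rw [← hj.closure_image_eq, Set.image_singleton]
  ext b
  constructor
  · rintro ⟨⟨p, hp1, hp2⟩, rfl⟩
    refine ⟨hcl ▸ Set.mem_image_of_mem j hp1, ?_⟩
    have : ψ p = c := hp2
    rw [hψ] at this
    exact this
  · rintro ⟨hb1, hb2⟩
    rw [← hcl] at hb1
    obtain ⟨p, hp, rfl⟩ := hb1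
    refine ⟨⟨p, hp, ?_⟩, rfl⟩
    change ψ p = c
    rw [hψ]
    exact hb2

theorem isEquidimAt_comp_of_forall_isMax {X Y V : Scheme.{u}} [IrreducibleSpace Y]
    [IsLocallyNoetherian Y]
    (f : X ⟶ Y) [LocallyOfFiniteType f] (ι : V ⟶ X) [IsClosedImmersion ι] (w : V) (e' : ℕ)
    (H : ∀ ζ : V, IsMax ζ → ∀ hζ : ζ ⤳ w, f.base (ι.base ζ) = genericPoint Y ∧
      topologicalKrullDim ↥(closure ({ι.base ζ} : Set X) ∩ f.base ⁻¹' {f.base (ι.base ζ)}) = e' ∧
      FlatMor.localDim ↥(closure ({ι.base ζ} : Set X) ∩ f.base ⁻¹' {f.base (ι.base w)})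
        ⟨ι.base w, (hζ.map ι.continuous).mem_closure, rfl⟩ = e') :
    EGA43.IsEquidimAt (ι ≫ f) w := by
  rw [isEquidimAt_iff_irreducibleComponents]
  refine ⟨e', fun Xj hXj hw => ?_⟩
  have hXjc : IsClosed Xj := isClosed_of_mem_irreducibleComponents Xj hXj
  obtain ⟨ζ, hζ⟩ : ∃ ζ, IsGenericPoint ζ Xj := ⟨_, hXj.1.isGenericPoint_genericPoint hXjc⟩
  have hmax : IsMax ζ := isMax_of_isGenericPoint_irreducibleComponent V Xj hXj ζ hζ
  have hζw : ζ ⤳ w := hζ.specializes hw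
  obtain rfl : Xj = closure {ζ} := hζ.def.symm
  obtain ⟨h1, h2, h3⟩ := H ζ hmax hζw
  have hcl := closure_image_eq_of_isGenericPoint (ι ≫ f).base (ι ≫ f).continuous _ ζ hζ
  have hbase : ∀ v : V, (ι ≫ f).base v = f.base (ι.base v) := fun v => rfl
  refine ⟨?_, ?_, ?_⟩
  · rw [hcl, hbase, h1, (genericPoint_spec Y).def, irreducibleComponents_eq_singleton]
    rfl
  · intro η hη
    rw [hcl] at hη
    have : η = (ι ≫ f).base ζ := IsGenericPoint.eq hη isGenericPoint_closure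
    subst this
    rw [← h2]
    exact topologicalKrullDim_eq_of_isEmbedding
      (fun p : ↥(closure ({ζ} : Set V) ∩ (ι ≫ f).base ⁻¹' {(ι ≫ f).base ζ}) => ι.base p.1)
      (ι.isClosedEmbedding.isEmbedding.comp IsEmbedding.subtypeVal) _
      (range_closure_inter_preimage ι.base ι.isClosedEmbedding f.base (ι ≫ f).base hbase ζ _)
  · rw [← h3]
    exact localDim_eq_of_isEmbedding
      (fun p : ↥(closure ({ζ} : Set V) ∩ (ι ≫ f).base ⁻¹' {(ι ≫ f).base w}) => ι.base p.1)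
      (ι.isClosedEmbedding.isEmbedding.comp IsEmbedding.subtypeVal) _
      (range_closure_inter_preimage ι.base ι.isClosedEmbedding f.base (ι ≫ f).base hbase ζ _)
      ⟨w, hw, rfl⟩ _

end Groth.Agent.H17.Chev
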