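import Groth.Agent.H17.Chev.QFin2
import Groth.Agent.S5925

set_option autoImplicit false
set_option linter.unusedSectionVars false
set_option linter.style.haveILetI false
universe u
open CategoryTheory CategoryTheory.Limits AlgebraicGeometry Topology Order TopologicalSpace

namespace Groth.Agent.H17.Chev

/-- the conclusion of EGA IV 14.5.3 -/
def HasQFSection {X Y : Scheme.{u}} (f : X ⟶ Y) (x : X) : Prop :=
  ∃ (T : Scheme.{u}) (i : T ⟶ X), IsImmersion i ∧ IrreducibleSpace ↥T ∧ IsReduced T ∧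
    x ∈ Set.range i.base ∧ LocallyOfFiniteType (i ≫ f) ∧ LocallyQuasiFinite (i ≫ f) ∧
    QuasiCompact (i ≫ f) ∧ IsDominant (i ≫ f)

theorem HasQFSection.of_immersion {X' X Y : Scheme.{u}} (j : X' ⟶ X) [IsImmersion j] (f : X ⟶ Y)
    (x' : X') (h : HasQFSection (j ≫ f) x') : HasQFSection f (j.base x') := by
  obtain ⟨T, i, h1, h2, h3, ⟨t, ht⟩, h5, h6, h7, h8⟩ := h
  refine ⟨T, i ≫ j, inferInstance, h2, h3, ⟨t, ?_⟩, ?_, ?_, ?_, ?_⟩
  · change j.base (i.base t) = _
    rw [ht]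
  · rw [Category.assoc]; exact h5
  · rw [Category.assoc]; exact h6
  · rw [Category.assoc]; exact h7
  · rw [Category.assoc]; exact h8

theorem mem_basicOpen_topIso_inv_iff {X : Scheme.{u}} (U : X.Opens) (g : Γ(X, U))
    (u : ↥(U : Scheme.{u})) :
    u ∈ (U : Scheme.{u}).basicOpen (U.topIso.inv.hom g) ↔ u.1 ∈ X.basicOpen g := by
  have h := Scheme.Opens.ι_image_basicOpen_topIso_inv U g
  have h' : u.1 ∈ ((U.ι ''ᵁ (U : Scheme.{u}).basicOpen (U.topIso.inv.hom g) : X.Opens) : Set X) ↔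
      u.1 ∈ (X.basicOpen g : Set X) := by rw [h]
  rw [Scheme.Hom.coe_image] at h'
  refine Iff.trans ?_ h'
  constructor
  · intro hu
    exact ⟨u, hu, rfl⟩
  · rintro ⟨u', hu', huu'⟩
    have : u' = u := U.ι.isEmbedding.injective huu'
    rw [← this]
    exact hu'

/-- Inductive step of EGA IV 14.5.3. -/
theorem hasQFSection_step {Y : Scheme.{u}} [IrreducibleSpace Y] [IsLocallyNoetherian Y] (e : ℕ)
    (IH : ∀ (X : Scheme.{u}) (f : X ⟶ Y) [LocallyOfFiniteType f] (x : X), EGA43.IsEquidimAt f x →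
      (∀ x' : X, f.base x' = f.base x → x ⤳ x' → x' = x) → FlatMor.fibreDimAt f x = e →
      HasQFSection f x)
    (X : Scheme.{u}) (f : X ⟶ Y) [LocallyOfFiniteType f] (x : X) (hf : EGA43.IsEquidimAt f x)
    (hcl : ∀ x' : X, f.base x' = f.base x → x ⤳ x' → x' = x)
    (he : FlatMor.fibreDimAt f x = (e + 1 : ℕ)) : HasQFSection f x := by
  have hpos : ¬ FlatMor.fibreDimAt f x ≤ 0 := by
    rw [he]
    intro h
    have : (e + 1 : ℕ) ≤ 0 := by exact_mod_cast h
    omega
  have hx := exists_specializes_ne_of_not_fibreDimAt_le_zero f x hcl hpos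
  obtain ⟨U, hU, hxU, -, g, hgx, hg⟩ :=
    exists_section_avoiding_maximal_fibre_points f x hx ⊤ trivial
  let xU : ↥(U : Scheme.{u}) := ⟨x, hxU⟩
  have hbo := mem_basicOpen_topIso_inv_iff U g
  have hfU := isEquidimAt_ι_comp f x hf U hxU
  have hgxU : xU ∈ (U : Scheme.{u}).zeroLocus ({U.topIso.inv.hom g} : Set Γ((U : Scheme.{u}), ⊤)) := by
    rw [Scheme.mem_zeroLocus_iff]
    intro r hr
    rw [Set.mem_singleton_iff] at hr
    subst hr
    rw [hbo]
    exact hgx
  have hmaxU : ∀ z : ↥(U : Scheme.{u}), (U.ι ≫ f).base z = (U.ι ≫ f).base xU →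
      (∀ z' : ↥(U : Scheme.{u}), (U.ι ≫ f).base z' = (U.ι ≫ f).base xU →
        z ∈ closure ({z'} : Set ↥(U : Scheme.{u})) → z' = z) →
      z ∉ (U : Scheme.{u}).zeroLocus ({U.topIso.inv.hom g} : Set Γ((U : Scheme.{u}), ⊤)) := by
    intro z hzf hzmax hzV
    rw [Scheme.mem_zeroLocus_iff] at hzV
    apply hzV _ rfl
    rw [hbo]
    refine hg z.1 hzf ?_ z.2
    intro z'' hz''f hz''sp
    have hz''U : z'' ∈ U := hz''sp.mem_open U.isOpen z.2
    have h1 : (⟨z'', hz''U⟩ : ↥(U : Scheme.{u})) ⤳ z :=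
      U.ι.isEmbedding.isInducing.specializes_iff.mp hz''sp
    have h2 := hzmax ⟨z'', hz''U⟩ hz''f h1.mem_closure
    rw [← h2]
  obtain ⟨h1, h2, -⟩ := Groth.Agent.S5925.result (U.ι ≫ f) xU hfU (U.topIso.inv.hom g) hgxU hmaxU
  have hr : Set.range (Scheme.IdealSheafData.vanishingIdeal
      ⟨(U : Scheme.{u}).zeroLocus ({U.topIso.inv.hom g} : Set Γ((U : Scheme.{u}), ⊤)),
        (U : Scheme.{u}).zeroLocus_isClosed _⟩).subschemeι.base =
      (U : Scheme.{u}).zeroLocus ({U.topIso.inv.hom g} : Set Γ((U : Scheme.{u}), ⊤)) := by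
    rw [Scheme.IdealSheafData.range_subschemeι]
    exact Scheme.IdealSheafData.coe_support_vanishingIdeal _
  generalize (Scheme.IdealSheafData.vanishingIdeal
      ⟨(U : Scheme.{u}).zeroLocus ({U.topIso.inv.hom g} : Set Γ((U : Scheme.{u}), ⊤)),
        (U : Scheme.{u}).zeroLocus_isClosed _⟩) = I at hr h1
  obtain ⟨w, hw⟩ : xU ∈ Set.range I.subschemeι.base := by rw [hr]; exact hgxU
  have hEq := h1 w hw
  have hsq : (I.subschemeι ≫ U.ι ≫ f) ≫ 𝟙 Y = I.subschemeι ≫ U.ι ≫ f := Category.comp_id _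
  have hfd : FlatMor.fibreDimAt (I.subschemeι ≫ U.ι ≫ f) w = e := by
    rw [sq_fibreDimAt (U.ι ≫ f) I.subschemeι (𝟙 Y) _ hsq Function.injective_id w]
    have h3 : FlatMor.fibreDimAt (U.ι ≫ f) xU = (e + 1 : ℕ) := by
      have := fibreDimAt_ι_comp f U xU
      rw [this]
      exact he
    rw [h3] at h2
    have h4 := localDim_subtype_congr' (B := ↥(U : Scheme.{u}))
      (S := Set.range I.subschemeι.base ∩ (U.ι ≫ f).base ⁻¹' {(U.ι ≫ f).base (I.subschemeι.base w)})
      (S' := (U : Scheme.{u}).zeroLocus ({U.topIso.inv.hom g} : Set Γ((U : Scheme.{u}), ⊤)) ∩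
        (U.ι ≫ f).base ⁻¹' {(U.ι ≫ f).base xU}) (by rw [hr, hw]) hw
      ⟨⟨w, rfl⟩, rfl⟩ ⟨hgxU, rfl⟩
    rw [h4]
    apply eq_of_add_natCast_eq_add_natCast (n := 1)
    rw [Nat.cast_one]
    rw [h2]
    push_cast
    rfl
  have hclw : ∀ w' : ↥I.subscheme, (I.subschemeι ≫ U.ι ≫ f).base w' =
      (I.subschemeι ≫ U.ι ≫ f).base w → w ⤳ w' → w' = w := by
    intro w' hw'f hsp
    have h3 : x ⤳ U.ι.base (I.subschemeι.base w') := by
      have := (hsp.map I.subschemeι.continuous).map U.ι.continuous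
      rw [hw] at this
      exact this
    have h4 : f.base (U.ι.base (I.subschemeι.base w')) = f.base x := by
      have : f.base (U.ι.base (I.subschemeι.base w')) = f.base (U.ι.base (I.subschemeι.base w)) :=
        hw'f
      rw [this, hw]
      rfl
    have h5 := hcl _ h4 h3
    apply I.subschemeι.isEmbedding.injective
    apply U.ι.isEmbedding.injective
    rw [h5, hw]
    rfl
  have hres := IH I.subscheme (I.subschemeι ≫ U.ι ≫ f) w hEq hclw hfd
  have hres' : HasQFSection ((I.subschemeι ≫ U.ι) ≫ f) w := by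
    rw [Category.assoc]; exact hres
  have := HasQFSection.of_immersion (I.subschemeι ≫ U.ι) f w hres'
  have hxw : (I.subschemeι ≫ U.ι).base w = x := by
    change U.ι.base (I.subschemeι.base w) = x
    rw [hw]
    rfl
  rw [hxw] at this
  exact this

end Groth.Agent.H17.Chev
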