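import Groth.Agent.H17.Chev.DimEqScheme
import Groth.Agent.H17.Chev.DimTotal
import Groth.Agent.H17.Chev.FibGen
import Groth.Agent.S9126

/-!
# Dimension formula for irreducible closed subsets (reduction to reduced induced subschemes)

For `f : X ⟶ Y` locally of finite type, `Y` locally Noetherian, `X' ⊆ X` closed irreducible with
generic point `ξ`: the dimension inequality / formula of EGA IV 5.6.5 for `X' ⟶ closure {f ξ}`,
stated purely in terms of the topology of `X`, `Y`, `f` (coheights in subspaces, local dimensions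
of subspaces).
-/

set_option autoImplicit false
set_option linter.unusedSectionVars false
set_option linter.style.haveILetI false
universe u
open CategoryTheory CategoryTheory.Limits AlgebraicGeometry Topology Order TopologicalSpace

namespace Groth.Agent.H17.Chev

/-! ### Transport of invariants along embeddings -/

/-- coheight is transported along a map which reflects and preserves `≤` onto a subset -/
theorem coheight_eq_coheight_subtype {A B : Type*} [Preorder A] [Preorder B] (g : A → B)
    (hg : ∀ a b, g a ≤ g b ↔ a ≤ b) (S : Set B) (hS : Set.range g = S) (a : A) (ha : g a ∈ S) :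
    coheight a = coheight (⟨g a, ha⟩ : ↥S) := by
  subst hS
  let g' : A → ↥(Set.range g) := fun a => ⟨g a, a, rfl⟩
  have hg' : StrictMono g' := by
    intro a b hab
    rw [lt_iff_le_not_ge] at hab ⊢
    exact ⟨(hg a b).mpr hab.1, fun h => hab.2 ((hg b a).mp h)⟩
  let s : ↥(Set.range g) → A := fun b => b.2.choose
  have hs : ∀ b, g (s b) = b.1 := fun b => b.2.choose_spec
  have hs' : StrictMono s := by
    intro a b hab
    rw [lt_iff_le_not_ge] at hab ⊢
    refine ⟨(hg _ _).mp ?_, fun h => hab.2 ?_⟩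
    · rw [hs, hs]; exact hab.1
    · have := (hg _ _).mpr h
      rw [hs, hs] at this
      exact this
  apply le_antisymm
  · exact coheight_le_coheight_apply_of_strictMono g' hg' a
  · have h1 := coheight_le_coheight_apply_of_strictMono s hs' (g' a)
    refine h1.trans ?_
    -- `s (g' a)` and `a` are equivalent
    have h2 : g (s (g' a)) = g a := hs (g' a)
    have h3 : a ≤ s (g' a) := (hg _ _).mp h2.ge
    exact coheight_anti h3

theorem coheight_subtype_congr {B : Type*} [Preorder B] {S S' : Set B} (h : S = S') (b : B)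
    (hb : b ∈ S) (hb' : b ∈ S') : coheight (⟨b, hb⟩ : ↥S) = coheight (⟨b, hb'⟩ : ↥S') := by
  subst h; rfl

theorem localDim_subtype_congr {B : Type*} [TopologicalSpace B] {S S' : Set B} (h : S = S') (b : B)
    (hb : b ∈ S) (hb' : b ∈ S') :
    FlatMor.localDim ↥S ⟨b, hb⟩ = FlatMor.localDim ↥S' ⟨b, hb'⟩ := by
  subst h; rfl

theorem topologicalKrullDim_subtype_congr {B : Type*} [TopologicalSpace B] {S S' : Set B}
    (h : S = S') : topologicalKrullDim ↥S = topologicalKrullDim ↥S' := by
  subst h; rfl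

theorem topologicalKrullDim_eq_of_isEmbedding {A B : Type*} [TopologicalSpace A]
    [TopologicalSpace B] (g : A → B) (hg : IsEmbedding g) (S : Set B) (hS : Set.range g = S) :
    topologicalKrullDim A = topologicalKrullDim ↥S := by
  subst hS
  exact IsHomeomorph.topologicalKrullDim_eq _ hg.toHomeomorph.isHomeomorph

theorem localDim_eq_of_isEmbedding {A B : Type*} [TopologicalSpace A]
    [TopologicalSpace B] (g : A → B) (hg : IsEmbedding g) (S : Set B) (hS : Set.range g = S)
    (a : A) (ha : g a ∈ S) :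
    FlatMor.localDim A a = FlatMor.localDim ↥S ⟨g a, ha⟩ := by
  subst hS
  exact localDim_eq_of_isOpenEmbedding hg.toHomeomorph.isOpenEmbedding a

/-- for scheme points, an embedding reflects the specialization order -/
theorem le_iff_of_isEmbedding {X Y : Scheme.{u}} (g : X → Y) (hg : IsEmbedding g) (a b : X) :
    g a ≤ g b ↔ a ≤ b := by
  simp only [Scheme.le_iff_specializes]
  exact hg.isInducing.specializes_iff

/-! ### A commutative square whose vertical maps are embeddings -/

section Square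

variable {X Y X₁ Y₁ : Scheme.{u}} (f : X ⟶ Y) (iX : X₁ ⟶ X) (iY : Y₁ ⟶ Y) (f₁ : X₁ ⟶ Y₁)
  (hsq : f₁ ≫ iY = iX ≫ f)

include hsq in
theorem sq_apply (a : X₁) : iY.base (f₁.base a) = f.base (iX.base a) := by
  have := congrArg (fun g => g.base a) hsq
  simpa using this

include hsq in
/-- the fibre of `f₁` over `y₁`, mapped to `X`, is `range iX ∩ f⁻¹(iY y₁)`. -/
theorem range_fiberι_comp (hiY : Function.Injective iY.base) (y₁ : Y₁) :
    Set.range (fun w : ↥(f₁.fiber y₁) => iX.base ((f₁.fiberι y₁).base w)) =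
      Set.range iX.base ∩ f.base ⁻¹' {iY.base y₁} := by
  ext t
  constructor
  · rintro ⟨w, rfl⟩
    refine ⟨⟨_, rfl⟩, ?_⟩
    rw [Set.mem_preimage, Set.mem_singleton_iff, ← sq_apply f iX iY f₁ hsq, map_fiberι]
  · rintro ⟨⟨a, rfl⟩, ha⟩
    rw [Set.mem_preimage, Set.mem_singleton_iff, ← sq_apply f iX iY f₁ hsq] at ha
    have ha' : f₁.base a = y₁ := hiY ha
    have : a ∈ Set.range (f₁.fiberι y₁).base := by
      rw [Scheme.Hom.range_fiberι]; exact ha'
    obtain ⟨w, rfl⟩ := this
    exact ⟨w, rfl⟩

theorem isEmbedding_fiberι_comp [IsPreimmersion iX] (y₁ : Y₁) :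
    IsEmbedding (fun w : ↥(f₁.fiber y₁) => iX.base ((f₁.fiberι y₁).base w)) :=
  iX.isEmbedding.comp (f₁.fiberι y₁).isEmbedding

include hsq in
theorem sq_mem (a : X₁) :
    iX.base a ∈ Set.range iX.base ∩ f.base ⁻¹' {f.base (iX.base a)} :=
  ⟨⟨a, rfl⟩, rfl⟩

include hsq in
/-- (T1) -/
theorem sq_stalk_source [IsPreimmersion iX] (a : X₁) :
    ringKrullDim (X₁.presheaf.stalk a) =
      coheight (⟨iX.base a, a, rfl⟩ : ↥(Set.range iX.base)) := by
  rw [ringKrullDim_stalk_eq_coheight,
    coheight_eq_coheight_subtype iX.base (le_iff_of_isEmbedding _ iX.isEmbedding) _ rfl a ⟨a, rfl⟩]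

include hsq in
/-- (T5) -/
theorem sq_dim_fiber [IsPreimmersion iX] (hiY : Function.Injective iY.base) (y₁ : Y₁) :
    topologicalKrullDim ↥(f₁.fiber y₁) =
      topologicalKrullDim ↥(Set.range iX.base ∩ f.base ⁻¹' {iY.base y₁}) :=
  topologicalKrullDim_eq_of_isEmbedding _ (isEmbedding_fiberι_comp iX f₁ y₁) _
    (range_fiberι_comp f iX iY f₁ hsq hiY y₁)

include hsq in
/-- (T2) -/
theorem sq_fibreDimAt [IsPreimmersion iX] (hiY : Function.Injective iY.base) (a : X₁) :
    FlatMor.fibreDimAt f₁ a =
      FlatMor.localDim ↥(Set.range iX.base ∩ f.base ⁻¹' {f.base (iX.base a)})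
        ⟨iX.base a, sq_mem f iX iY f₁ hsq a⟩ := by
  have hS := range_fiberι_comp f iX iY f₁ hsq hiY (f₁.base a)
  have hmem : iX.base ((f₁.fiberι (f₁.base a)).base (f₁.asFiber a)) ∈
      Set.range iX.base ∩ f.base ⁻¹' {iY.base (f₁.base a)} := by
    rw [← hS]; exact ⟨_, rfl⟩
  have h1 := localDim_eq_of_isEmbedding _ (isEmbedding_fiberι_comp iX f₁ (f₁.base a)) _ hS
    (f₁.asFiber a) hmem
  unfold FlatMor.fibreDimAt
  rw [h1]
  have h2 : iX.base ((f₁.fiberι (f₁.base a)).base (f₁.asFiber a)) = iX.base a :=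
    congrArg _ (f₁.fiberι_asFiber a)
  have h3 : Set.range iX.base ∩ f.base ⁻¹' {iY.base (f₁.base a)} =
      Set.range iX.base ∩ f.base ⁻¹' {f.base (iX.base a)} := by
    rw [sq_apply f iX iY f₁ hsq]
  simp only [h2]
  exact localDim_subtype_congr h3 _ _ _

include hsq in
/-- (T4) -/
theorem sq_stalk_fiber [IsPreimmersion iX] (hiY : Function.Injective iY.base) (a : X₁) :
    ringKrullDim ((f₁.fiber (f₁.base a)).presheaf.stalk (f₁.asFiber a)) =
      coheight (⟨iX.base a, sq_mem f iX iY f₁ hsq a⟩ :
        ↥(Set.range iX.base ∩ f.base ⁻¹' {f.base (iX.base a)})) := by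
  have hS := range_fiberι_comp f iX iY f₁ hsq hiY (f₁.base a)
  have hmem : iX.base ((f₁.fiberι (f₁.base a)).base (f₁.asFiber a)) ∈
      Set.range iX.base ∩ f.base ⁻¹' {iY.base (f₁.base a)} := by
    rw [← hS]; exact ⟨_, rfl⟩
  rw [ringKrullDim_stalk_eq_coheight,
    coheight_eq_coheight_subtype _
      (le_iff_of_isEmbedding _ (isEmbedding_fiberι_comp iX f₁ (f₁.base a))) _ hS
      (f₁.asFiber a) hmem]
  have h2 : iX.base ((f₁.fiberι (f₁.base a)).base (f₁.asFiber a)) = iX.base a :=
    congrArg _ (f₁.fiberι_asFiber a)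
  have h3 : Set.range iX.base ∩ f.base ⁻¹' {iY.base (f₁.base a)} =
      Set.range iX.base ∩ f.base ⁻¹' {f.base (iX.base a)} := by
    rw [sq_apply f iX iY f₁ hsq]
  simp only [h2]
  exact congrArg _ (coheight_subtype_congr h3 _ _ _)

end Square

theorem exists_square {X Y : Scheme.{u}} (f : X ⟶ Y) (X' : Set X) (hc : IsClosed X') :
    ∃ (X₁ Y₁ : Scheme.{u}) (iX : X₁ ⟶ X) (iY : Y₁ ⟶ Y) (f₁ : X₁ ⟶ Y₁),
      IsClosedImmersion iX ∧ IsClosedImmersion iY ∧ f₁ ≫ iY = iX ≫ f ∧
      Set.range iX.base = X' ∧ Set.range iY.base = closure (f.base '' X') := by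
  let IX := Scheme.IdealSheafData.vanishingIdeal ⟨X', hc⟩
  let IY := Scheme.IdealSheafData.vanishingIdeal (Closeds.closure (f.base '' X'))
  refine ⟨IX.subscheme, IY.subscheme, IX.subschemeι, IY.subschemeι,
    Scheme.IdealSheafData.subschemeMap IX IY f ?_, inferInstance, inferInstance,
    Scheme.IdealSheafData.subschemeMap_subschemeι _ _ _ _, ?_, ?_⟩
  · rw [Scheme.IdealSheafData.map_vanishingIdeal]
    rfl
  · rw [Scheme.IdealSheafData.range_subschemeι]
    exact Scheme.IdealSheafData.coe_support_vanishingIdeal _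
  · rw [Scheme.IdealSheafData.range_subschemeι]
    exact Scheme.IdealSheafData.coe_support_vanishingIdeal _

theorem isUniversallyCatenary_of_surjective {R R' : Type u} [CommRing R] [CommRing R']
    (φ : R →+* R') (hφ : Function.Surjective φ) (h : CAlg.IsUniversallyCatenary R) :
    CAlg.IsUniversallyCatenary R' := by
  letI : Algebra R R' := φ.toAlgebra
  haveI : Algebra.FiniteType R R' := Algebra.FiniteType.of_surjective (Algebra.ofId R R') hφ
  exact Groth.Agent.S9126.result R R' h

theorem closure_image_eq_of_isGenericPoint {X Y : Type*} [TopologicalSpace X] [TopologicalSpace Y]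
    (f : X → Y) (hf : Continuous f) (X' : Set X) (ξ : X) (hξ : IsGenericPoint ξ X') :
    closure (f '' X') = closure {f ξ} := by
  apply subset_antisymm
  · apply closure_minimal _ isClosed_closure
    rw [← hξ.def]
    refine (image_closure_subset_closure_image hf).trans ?_
    rw [Set.image_singleton]
  · apply closure_mono
    rw [Set.singleton_subset_iff]
    exact ⟨ξ, hξ.mem, rfl⟩

end Groth.Agent.H17.Chev
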