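import Groth.Agent.H17.Chev.CompDim
import Groth.Agent.H17.Chev.OpenDim2
import Groth.Agent.H12.Topo

set_option autoImplicit false
set_option linter.unusedSectionVars false
set_option linter.style.haveILetI false
universe u
open CategoryTheory CategoryTheory.Limits AlgebraicGeometry Topology Order TopologicalSpace

namespace Groth.Agent.H17.Chev

/-- On a scheme locally of finite type over a field, an open irreducible subset has dimension
equal to the local dimension at any of its points. -/
theorem dim_open_irreducible_eq_localDim (κ : Type u) [Field κ] {F : Scheme.{u}}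
    (φ : F ⟶ Spec (.of κ)) [LocallyOfFiniteType φ] (S : Set F) (hSo : IsOpen S)
    (hS : IsIrreducible S) (p : F) (hp : p ∈ S) :
    topologicalKrullDim ↥S = FlatMor.localDim F p := by
  let U : F.Opens := ⟨S, hSo⟩
  haveI : IrreducibleSpace ↥(U : Scheme.{u}) := by
    have : IrreducibleSpace ↥S := Subtype.irreducibleSpace hS
    exact this
  have h1 := topologicalKrullDim_eq_localDim_of_irreducible κ (U.ι ≫ φ) (⟨p, hp⟩ : ↥(U : Scheme.{u}))
  have h2 := localDim_eq_of_isOpenEmbedding U.ι.isOpenEmbedding (⟨p, hp⟩ : ↥(U : Scheme.{u}))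
  rw [h2] at h1
  exact h1

end Groth.Agent.H17.Chev

namespace Groth.Agent.H17.Chev

theorem dim_connectedComponentIn_fibre_eq_aux {X Y : Scheme.{u}} (f : X ⟶ Y)
    [LocallyOfFiniteType f] [QuasiCompact f] (x₀ : X)
    (hirr : IsIrreducible ((f.fiberι (f.base x₀)).base ⁻¹'
      connectedComponentIn (f.base ⁻¹' {f.base x₀}) x₀)) :
    topologicalKrullDim ↥(connectedComponentIn (f.base ⁻¹' {f.base x₀}) x₀) =
      FlatMor.fibreDimAt f x₀ := by
  set C := connectedComponentIn (f.base ⁻¹' {f.base x₀}) x₀ with hC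
  let φ := f.fiberToSpecResidueField (f.base x₀)
  haveI : LocallyOfFiniteType φ :=
    inferInstanceAs (LocallyOfFiniteType (pullback.snd f (Y.fromSpecResidueField _)))
  haveI : IsLocallyNoetherian (f.fiber (f.base x₀)) := LocallyOfFiniteType.isLocallyNoetherian φ
  haveI : CompactSpace ↥(f.fiber (f.base x₀)) := inferInstance
  haveI : IsNoetherian (f.fiber (f.base x₀)) := ⟨⟩
  haveI : NoetherianSpace ↥(f.fiber (f.base x₀)) := inferInstance
  let h := f.fiberHomeo (f.base x₀)
  haveI : NoetherianSpace ↥(f.base ⁻¹' {f.base x₀}) :=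
    (noetherianSpace_iff_of_homeomorph h).mp inferInstance
  let t₀ : ↥(f.base ⁻¹' {f.base x₀}) := ⟨x₀, rfl⟩
  have hCT : IsOpen (connectedComponent t₀) :=
    Groth.Agent.H12.isOpen_connectedComponent_of_noetherian t₀
  have hCeq : C = Subtype.val '' connectedComponent t₀ :=
    connectedComponentIn_eq_image (F := f.base ⁻¹' {f.base x₀}) (x := x₀) rfl
  set S := (f.fiberι (f.base x₀)).base ⁻¹' C with hSdef
  have hS : S = h ⁻¹' connectedComponent t₀ := by
    ext a
    simp only [hSdef, hCeq, Set.mem_preimage, Set.mem_image]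
    constructor
    · rintro ⟨b, hb, hab⟩
      have : b = h a := Subtype.ext hab
      rwa [← this]
    · intro ha
      exact ⟨h a, ha, rfl⟩
  have hSo : IsOpen S := hS ▸ hCT.preimage h.continuous
  have hp : f.asFiber x₀ ∈ S := by
    change (f.fiberι _).base (f.asFiber x₀) ∈ C
    rw [f.fiberι_asFiber]
    exact mem_connectedComponentIn rfl
  unfold FlatMor.fibreDimAt
  rw [← dim_open_irreducible_eq_localDim (Y.residueField (f.base x₀)) φ S hSo hirr (f.asFiber x₀) hp]
  symm
  refine topologicalKrullDim_eq_of_isEmbedding (fun s : ↥S => (f.fiberι _).base s.1)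
    ((f.fiberι _).isEmbedding.comp IsEmbedding.subtypeVal) C ?_
  have : Set.range (fun s : ↥S => (f.fiberι (f.base x₀)).base s.1) =
      (f.fiberι (f.base x₀)).base '' S := by
    ext z
    simp
  rw [this, hSdef, Set.image_preimage_eq_inter_range, Set.inter_eq_left]
  rw [f.range_fiberι]
  exact connectedComponentIn_subset _ _

end Groth.Agent.H17.Chev

namespace Groth.Agent.H17.Chev

/-- the preimage of `C` in the fibre is irreducible once its preimage in some base change of
the fibre to a field extension is -/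
theorem isIrreducible_preimage_fiberι_of_bc {X Y : Scheme.{u}} (f : X ⟶ Y) (y : Y)
    (C : Set X) (K : Type u) [Field K] [Algebra (IsLocalRing.ResidueField (Y.presheaf.stalk y)) K]
    (h : IsIrreducible ((FBase.bcπ (f.fiberToSpecResidueField y) K ≫ f.fiberι y).base ⁻¹' C)) :
    IsIrreducible ((f.fiberι y).base ⁻¹' C) := by
  have hsurj : Function.Surjective (FBase.bcπ (f.fiberToSpecResidueField y) K).base := by
    haveI : Surjective (Spec.map (CommRingCat.ofHom
        (algebraMap (IsLocalRing.ResidueField (Y.presheaf.stalk y)) K))) := by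
      refine ⟨fun a => ?_⟩
      refine ⟨IsLocalRing.closedPoint K, Subsingleton.elim (α := PrimeSpectrum _) _ _⟩
    unfold FBase.bcπ
    exact (pullback.fst (f.fiberToSpecResidueField y) (Spec.map (CommRingCat.ofHom
        (algebraMap (IsLocalRing.ResidueField (Y.presheaf.stalk y)) K)))).surjective
  have h2 := h.image (FBase.bcπ (f.fiberToSpecResidueField y) K).base
    (FBase.bcπ (f.fiberToSpecResidueField y) K).continuous.continuousOn
  have h3 : (FBase.bcπ (f.fiberToSpecResidueField y) K ≫ f.fiberι y).base ⁻¹' C =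
      (FBase.bcπ (f.fiberToSpecResidueField y) K).base ⁻¹' ((f.fiberι y).base ⁻¹' C) := rfl
  rwa [h3, Set.image_preimage_eq _ hsurj] at h2

theorem dim_connectedComponentIn_fibre_eq {X Y : Scheme.{u}} (f : X ⟶ Y)
    [LocallyOfFiniteType f] [QuasiCompact f] (y : Y) (x₀ : X) (hx₀ : f.base x₀ = y)
    (hirr : IsIrreducible ((f.fiberι y).base ⁻¹' connectedComponentIn (f.base ⁻¹' {y}) x₀)) :
    topologicalKrullDim ↥(connectedComponentIn (f.base ⁻¹' {y}) x₀) =
      FlatMor.fibreDimAt f x₀ := by
  subst hx₀
  exact dim_connectedComponentIn_fibre_eq_aux f x₀ hirr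

theorem upperSemicontinuous_fibreDimAt {X Y : Scheme.{u}} (f : X ⟶ Y) [LocallyOfFiniteType f] :
    UpperSemicontinuous (fun x : X => FlatMor.fibreDimAt f x) := by
  intro x c hc
  obtain ⟨n, hn⟩ := exists_nat_eq_fibreDimAt f x
  have hopen := isOpen_setOf_fibreDimAt_le f n
  have hx : x ∈ {x : X | FlatMor.fibreDimAt f x ≤ n} := by
    simp only [Set.mem_ofPred_eq]
    rw [hn]
  filter_upwards [hopen.mem_nhds hx] with z hz
  replace hz : FlatMor.fibreDimAt f z ≤ n := hz
  exact lt_of_le_of_lt hz (hn ▸ hc)

end Groth.Agent.H17.Chev
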