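import Groth.Agent.H17.Chev.SecComp2
import Groth.Agent.H49.FibreDimAtBC
import Groth.Agent.H6.UnivOpenDVR

set_option autoImplicit false
set_option linter.unusedSectionVars false
set_option linter.style.haveILetI false
universe u
open CategoryTheory CategoryTheory.Limits AlgebraicGeometry Topology Order TopologicalSpace

namespace Groth.Agent.H17.Chev

/-- a relatively clopen preconnected subset of `F` is the connected component in `F` of any of
its points -/
theorem connectedComponentIn_eq_of_clopen {B : Type*} [TopologicalSpace B] (F E O C : Set B)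
    (hO : IsOpen O) (hC : IsClosed C) (hEO : E = O ∩ F) (hEC : E = C ∩ F)
    (hE : IsPreconnected E) (x : B) (hx : x ∈ E) : connectedComponentIn F x = E := by
  have hEF : E ⊆ F := hEO ▸ Set.inter_subset_right
  have hxF : x ∈ F := hEF hx
  apply Set.Subset.antisymm
  · intro b hb
    by_contra hbE
    have hS : IsPreconnected (connectedComponentIn F x) := isPreconnected_connectedComponentIn
    have hSF : connectedComponentIn F x ⊆ F := connectedComponentIn_subset F x
    have hcov : connectedComponentIn F x ⊆ O ∪ Cᶜ := by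
      intro c hc
      by_cases hcE : c ∈ E
      · left; rw [hEO] at hcE; exact hcE.1
      · right; intro hcC; exact hcE (hEC ▸ ⟨hcC, hSF hc⟩)
    have h1 : (connectedComponentIn F x ∩ O).Nonempty :=
      ⟨x, mem_connectedComponentIn hxF, (hEO ▸ hx : x ∈ O ∩ F).1⟩
    have h2 : (connectedComponentIn F x ∩ Cᶜ).Nonempty :=
      ⟨b, hb, fun hbC => hbE (hEC ▸ ⟨hbC, hSF hb⟩)⟩
    obtain ⟨c, hc, hcO, hcC⟩ := hS O Cᶜ hO hC.isOpen_compl hcov h1 h2
    have : c ∈ E := hEO ▸ ⟨hcO, hSF hc⟩
    rw [hEC] at this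
    exact hcC this.1
  · exact hE.subset_connectedComponentIn hx hEF

/-- **Lemma G**: for a base change `snd : P ⟶ T` of `f` along `g₁`, the part of the fibre of `snd`
over `τ` lying over a subset `C` of `X` whose preimage in every field base change of the fibre
of `f` over `g₁ τ` is irreducible, is irreducible. -/
theorem isIrreducible_fibre_preimage {X Y T P : Scheme.{u}} (f : X ⟶ Y) (g₁ : T ⟶ Y)
    (fst : P ⟶ X) (snd : P ⟶ T) (sq : IsPullback fst snd f g₁) (τ : T) (C : Set X)
    (h : ∀ (K : Type u) [Field K]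
      [Algebra (IsLocalRing.ResidueField (Y.presheaf.stalk (g₁.base τ))) K],
      IsIrreducible ((FBase.bcπ (f.fiberToSpecResidueField (g₁.base τ)) K ≫
        f.fiberι (g₁.base τ)).base ⁻¹' C)) :
    IsIrreducible (fst.base ⁻¹' C ∩ snd.base ⁻¹' {τ}) := by
  let K : Type u := T.residueField τ
  letI algK : Algebra (IsLocalRing.ResidueField (Y.presheaf.stalk (g₁.base τ))) K :=
    (g₁.residueFieldMap τ).hom.toAlgebra
  have hK := h K
  set φ := f.fiberToSpecResidueField (g₁.base τ) with hφ
  have hsq := isPullback_fiberToSpecResidueField_of_isPullback sq τ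
  have hbc : IsPullback (FBase.bcπ φ K) (FBase.bcStr φ K) φ
      (Spec.map (g₁.residueFieldMap τ)) := IsPullback.of_hasPullback _ _
  let e : snd.fiber τ ≅ FBase.bc φ K := hsq.isoIsPullback _ _ hbc
  have he1 : e.hom ≫ FBase.bcπ φ K = _ := hsq.isoIsPullback_hom_fst _ _ hbc
  have hm : pullback.map snd (T.fromSpecResidueField τ) f (Y.fromSpecResidueField (g₁.base τ))
      fst (Spec.map (g₁.residueFieldMap τ)) g₁ sq.w.symm (by simp) ≫ f.fiberι (g₁.base τ) =
      snd.fiberι τ ≫ fst := by
    simp only [Scheme.Hom.fiberι]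
    exact pullback.lift_fst _ _ _
  set S' := (FBase.bcπ φ K ≫ f.fiberι (g₁.base τ)).base ⁻¹' C with hS'
  have hS : IsIrreducible (e.hom.base ⁻¹' S') := by
    have h1 := hK.image e.inv.base e.inv.continuous.continuousOn
    have h2 : e.inv.base '' S' = e.hom.base ⁻¹' S' := by
      refine congrFun (Set.image_eq_preimage_of_inverse ?_ ?_) S'
      · intro a
        rw [← Scheme.Hom.comp_apply, e.inv_hom_id]; rfl
      · intro a
        rw [← Scheme.Hom.comp_apply, e.hom_inv_id]; rfl
    rwa [h2] at h1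
  have hS2 := hS.image (snd.fiberι τ).base (snd.fiberι τ).continuous.continuousOn
  have hcomp : e.hom ≫ FBase.bcπ φ K ≫ f.fiberι (g₁.base τ) = snd.fiberι τ ≫ fst := by
    rw [← Category.assoc, he1]
    exact hm
  have key : ∀ q : ↥(snd.fiber τ), q ∈ e.hom.base ⁻¹' S' ↔ fst.base ((snd.fiberι τ).base q) ∈ C := by
    intro q
    change (e.hom ≫ FBase.bcπ φ K ≫ f.fiberι (g₁.base τ)).base q ∈ C ↔ _
    rw [hcomp]
    rfl
  convert hS2 using 1
  ext p
  constructor
  · rintro ⟨hpC, hpτ⟩
    have : p ∈ Set.range (snd.fiberι τ).base := by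
      rw [Scheme.Hom.range_fiberι]; exact hpτ
    obtain ⟨q, rfl⟩ := this
    exact ⟨q, (key q).mpr hpC, rfl⟩
  · rintro ⟨q, hq, rfl⟩
    refine ⟨(key q).mp hq, ?_⟩
    have : (snd.fiberι τ).base q ∈ Set.range (snd.fiberι τ).base := ⟨q, rfl⟩
    rw [Scheme.Hom.range_fiberι] at this
    exact this

/-- irreducibility of the section component from geometric irreducibility -/
theorem isIrreducible_sectionComponent {X Y : Scheme.{u}} (f : X ⟶ Y) (y : Y) (x₀ : X)
    (h : ∀ (K : Type u) [Field K] [Algebra (IsLocalRing.ResidueField (Y.presheaf.stalk y)) K],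
      IsIrreducible ((FBase.bcπ (f.fiberToSpecResidueField y) K ≫ f.fiberι y).base ⁻¹'
        (connectedComponentIn (f.base ⁻¹' {y}) x₀))) :
    IsIrreducible (connectedComponentIn (f.base ⁻¹' {y}) x₀) := by
  have h1 := isIrreducible_preimage_fiberι_of_bc f y _
    (IsLocalRing.ResidueField (Y.presheaf.stalk y)) (h _)
  have h2 := h1.image (f.fiberι y).base (f.fiberι y).continuous.continuousOn
  rwa [Set.image_preimage_eq_inter_range, f.range_fiberι, Set.inter_eq_left.mpr
    (connectedComponentIn_subset _ _)] at h2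

/-- general form: lifting the generic point along a base change of a morphism with a section
whose section components are geometrically irreducible of the same dimension over `η` and `s`. -/
theorem exists_generization_sectionComponent {X Y T : Scheme.{u}}
    (f : X ⟶ Y) [LocallyOfFiniteType f] (g : Y ⟶ X) (hg : g ≫ f = 𝟙 Y)
    (hgi : ∀ (y : Y) (K : Type u) [Field K]
      [Algebra (IsLocalRing.ResidueField (Y.presheaf.stalk y)) K],
      IsIrreducible ((FBase.bcπ (f.fiberToSpecResidueField y) K ≫ f.fiberι y).base ⁻¹'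
        (connectedComponentIn (f.base ⁻¹' {y}) (g.base y))))
    (g₁ : T ⟶ Y) (s η : T) (hηs : η ⤳ s) (hηgen : ∀ t : T, η ⤳ t) (hne : η ≠ s)
    (hdimeq : topologicalKrullDim ↥(connectedComponentIn (f.base ⁻¹' {g₁.base η}) (g.base (g₁.base η))) =
      topologicalKrullDim ↥(connectedComponentIn (f.base ⁻¹' {g₁.base s}) (g.base (g₁.base s))))
    (x' : ↥(pullback f g₁))
    (hx'1 : (pullback.fst f g₁).base x' ∈
      connectedComponentIn (f.base ⁻¹' {g₁.base s}) (g.base (g₁.base s)))
    (hx'2 : (pullback.snd f g₁).base x' = s) :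
    ∃ z' : ↥(pullback f g₁), z' ⤳ x' ∧ (pullback.snd f g₁).base z' ≠ s := by
  have hgf : ∀ z : Y, f.base (g.base z) = z := by
    intro z
    rw [← Scheme.Hom.comp_apply, hg]; rfl
  set fst := pullback.fst f g₁ with hfst
  set snd := pullback.snd f g₁ with hsnd
  have sq : IsPullback fst snd f g₁ := IsPullback.of_hasPullback f g₁
  haveI : LocallyOfFiniteType snd := by rw [hsnd]; infer_instance
  let σ : T ⟶ pullback f g₁ := pullback.lift (g₁ ≫ g) (𝟙 T) (by rw [Category.assoc, hg]; simp)
  have hσ1 : σ ≫ fst = g₁ ≫ g := pullback.lift_fst _ _ _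
  have hσ2 : σ ≫ snd = 𝟙 T := pullback.lift_snd _ _ _
  have hσs : ∀ τ : T, snd.base (σ.base τ) = τ := by
    intro τ
    rw [← Scheme.Hom.comp_apply, hσ2]; rfl
  have hσf : ∀ τ : T, fst.base (σ.base τ) = g.base (g₁.base τ) := by
    intro τ
    rw [← Scheme.Hom.comp_apply, hσ1]; rfl
  have hfs : ∀ p : ↥(pullback f g₁), f.base (fst.base p) = g₁.base (snd.base p) := by
    intro p
    rw [← Scheme.Hom.comp_apply, ← Scheme.Hom.comp_apply, sq.w]
  -- the sets E τ
  let X0 : Y → Set X := fun z => connectedComponentIn (f.base ⁻¹' {z}) (g.base z)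
  let E : T → Set ↥(pullback f g₁) := fun τ => fst.base ⁻¹' (X0 (g₁.base τ)) ∩ snd.base ⁻¹' {τ}
  have hEirr : ∀ τ, IsIrreducible (E τ) := fun τ =>
    isIrreducible_fibre_preimage f g₁ fst snd sq τ _ (hgi (g₁.base τ))
  have hX0irr : ∀ z, IsIrreducible (X0 z) := fun z =>
    isIrreducible_sectionComponent f z (g.base z) (hgi z)
  have hσE : ∀ τ, σ.base τ ∈ E τ := by
    intro τ
    refine ⟨?_, hσs τ⟩
    change fst.base (σ.base τ) ∈ X0 (g₁.base τ)
    rw [hσf]
    exact mem_connectedComponentIn (hgf _)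
  have hEcc : ∀ τ, connectedComponentIn (snd.base ⁻¹' {τ}) (σ.base τ) = E τ := by
    intro τ
    obtain ⟨O, hO, hOC⟩ := exists_isOpen_inter_fibre_eq_connectedComponentIn f (g₁.base τ)
      (g.base (g₁.base τ)) (hgf _)
    -- closedness
    have hcl : ∃ C : Set X, IsClosed C ∧ C ∩ f.base ⁻¹' {g₁.base τ} = X0 (g₁.base τ) := by
      let t₀ : ↥(f.base ⁻¹' {g₁.base τ}) := ⟨g.base (g₁.base τ), hgf _⟩
      have h1 : IsClosed (connectedComponent t₀) := isClosed_connectedComponent
      obtain ⟨C, hC, hCeq⟩ := isClosed_induced_iff.mp h1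
      refine ⟨C, hC, ?_⟩
      change _ = connectedComponentIn (f.base ⁻¹' {g₁.base τ}) (g.base (g₁.base τ))
      rw [connectedComponentIn_eq_image (F := f.base ⁻¹' {g₁.base τ})
        (x := g.base (g₁.base τ)) (hgf _)]
      change _ = Subtype.val '' connectedComponent t₀
      rw [← hCeq, Subtype.image_preimage_coe, Set.inter_comm]
    obtain ⟨C, hC, hCC⟩ := hcl
    refine connectedComponentIn_eq_of_clopen (snd.base ⁻¹' {τ}) (E τ) (fst.base ⁻¹' O)
      (fst.base ⁻¹' C) (hO.preimage fst.continuous) (hC.preimage fst.continuous) ?_ ?_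
      (hEirr τ).2.isPreconnected _ (hσE τ)
    · ext p
      simp only [E, X0, Set.mem_inter_iff, Set.mem_preimage, Set.mem_singleton_iff]
      constructor
      · rintro ⟨h1, h2⟩
        refine ⟨?_, h2⟩
        have : fst.base p ∈ O ∩ f.base ⁻¹' {g₁.base τ} := hOC ▸ h1
        exact this.1
      · rintro ⟨h1, h2⟩
        refine ⟨?_, h2⟩
        have : fst.base p ∈ O ∩ f.base ⁻¹' {g₁.base τ} := ⟨h1, by
          change f.base (fst.base p) = _
          rw [hfs, h2]⟩
        rw [hOC] at this
        exact this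
    · ext p
      simp only [E, X0, Set.mem_inter_iff, Set.mem_preimage, Set.mem_singleton_iff]
      constructor
      · rintro ⟨h1, h2⟩
        refine ⟨?_, h2⟩
        have : fst.base p ∈ C ∩ f.base ⁻¹' {g₁.base τ} := hCC ▸ h1
        exact this.1
      · rintro ⟨h1, h2⟩
        refine ⟨?_, h2⟩
        have : fst.base p ∈ C ∩ f.base ⁻¹' {g₁.base τ} := ⟨h1, by
          change f.base (fst.base p) = _
          rw [hfs, h2]⟩
        rw [hCC] at this
        exact this
  -- dimensions
  have hEdim : ∀ τ, topologicalKrullDim ↥(E τ) = FlatMor.fibreDimAt f (g.base (g₁.base τ)) := by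
    intro τ
    have h1 := dim_connectedComponentIn_fibre_eq' snd τ (σ.base τ) (hσs τ)
      ((hEcc τ).symm ▸ hEirr τ)
    rw [hEcc τ] at h1
    rw [h1, Groth.Agent.H49.FibreDimAtBC.fibreDimAt_eq_of_isPullback f g₁ snd fst sq (σ.base τ)]
    change FlatMor.fibreDimAt f (fst.base (σ.base τ)) = _
    rw [hσf]
  have hX0dim : ∀ z, topologicalKrullDim ↥(X0 z) = FlatMor.fibreDimAt f (g.base z) := fun z =>
    dim_connectedComponentIn_fibre_eq' f z (g.base z) (hgf z) (hX0irr z)
  obtain ⟨n, hn⟩ := exists_nat_eq_fibreDimAt f (g.base (g₁.base s))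
  have hdim_s : topologicalKrullDim ↥(E s) = n := by rw [hEdim, hn]
  have hdim_η : topologicalKrullDim ↥(E η) = n := by
    change topologicalKrullDim ↥(X0 (g₁.base η)) = topologicalKrullDim ↥(X0 (g₁.base s)) at hdimeq
    rw [hX0dim, hX0dim, hn] at hdimeq
    rw [hEdim, hdimeq]
  -- the closure W
  have hσsW : σ.base s ∈ closure (E η) := by
    have h1 : σ.base η ⤳ σ.base s := hηs.map σ.continuous
    have h2 : σ.base s ∈ closure {σ.base η} := specializes_iff_mem_closure.mp h1
    exact closure_mono (Set.singleton_subset_iff.mpr (hσE η)) h2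
  have hmax : ∀ Z' : Set ↥(pullback f g₁), IsIrreducible Z' → Z' ⊆ snd.base ⁻¹' {η} → E η ⊆ Z' →
      Z' = E η := by
    intro Z' hZ' hZ'sub hEZ'
    apply Set.Subset.antisymm _ hEZ'
    rw [← hEcc η]
    exact hZ'.2.isPreconnected.subset_connectedComponentIn (hEZ' (hσE η)) hZ'sub
  have key := dim_le_dim_closure_inter_connectedComponentIn snd s η (E η)
    (fun p hp => hp.2) (hEirr η) hmax (σ.base s) (hσs s) hσsW
  rw [hEcc s, hdim_η] at key
  have hsub : E s ⊆ closure (E η) :=
    subset_of_isClosed_of_natCast_le_dim (E s) (closure (E η)) (hEirr s) isClosed_closure n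
      hdim_s.le key
  have hx'E : x' ∈ E s := ⟨hx'1, hx'2⟩
  obtain ⟨ζ, hζ⟩ := QuasiSober.sober (hEirr η).closure isClosed_closure
  refine ⟨ζ, ?_, ?_⟩
  · rw [specializes_iff_mem_closure, hζ.def]
    exact hsub hx'E
  · have h1 : ζ ⤳ σ.base η := by
      rw [specializes_iff_mem_closure, hζ.def]
      exact subset_closure (hσE η)
    have h2 : snd.base ζ ⤳ η := (hσs η) ▸ h1.map snd.continuous
    have h3 : snd.base ζ = η := (h2.antisymm (hηgen _)).eq
    rw [h3]
    exact hne

/-- EGA IV 15.6.6 (ii): DVR criterion for points of the section component. -/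
theorem dvrCrit_sectionComponent {X Y : Scheme.{u}} [IsLocallyNoetherian Y]
    (f : X ⟶ Y) [LocallyOfFiniteType f] (g : Y ⟶ X) (hg : g ≫ f = 𝟙 Y)
    (hgi : ∀ (y : Y) (K : Type u) [Field K]
      [Algebra (IsLocalRing.ResidueField (Y.presheaf.stalk y)) K],
      IsIrreducible ((FBase.bcπ (f.fiberToSpecResidueField y) K ≫ f.fiberι y).base ⁻¹'
        (connectedComponentIn (f.base ⁻¹' {y}) (g.base y))))
    (y : Y)
    (hc : ∃ V ∈ nhds y, ∀ z ∈ V,
      topologicalKrullDim ↥(connectedComponentIn (f.base ⁻¹' {z}) (g.base z)) =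
        topologicalKrullDim ↥(connectedComponentIn (f.base ⁻¹' {y}) (g.base y)))
    (x : X) (hx : x ∈ connectedComponentIn (f.base ⁻¹' {y}) (g.base y)) :
    Groth.Agent.H6.UnivOpenDVR.DVRCrit f x := by
  have hxy : f.base x = y := by
    have := connectedComponentIn_subset (f.base ⁻¹' {y}) (g.base y) hx
    exact this
  intro A _ _ _ g₁ hg₁ x' hx' hx's
  let s : ↥(Spec (CommRingCat.of A)) := IsLocalRing.closedPoint A
  let η : ↥(Spec (CommRingCat.of A)) := (⟨⊥, Ideal.isPrime_bot⟩ : PrimeSpectrum A)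
  have hηs : η ⤳ s := by
    change (⟨⊥, Ideal.isPrime_bot⟩ : PrimeSpectrum A) ⤳ IsLocalRing.closedPoint A
    rw [← PrimeSpectrum.le_iff_specializes]
    exact bot_le
  have hηgen : ∀ t : ↥(Spec (CommRingCat.of A)), η ⤳ t := by
    intro t
    change (⟨⊥, Ideal.isPrime_bot⟩ : PrimeSpectrum A) ⤳ (t : PrimeSpectrum A)
    rw [← PrimeSpectrum.le_iff_specializes]
    exact bot_le
  have hne : η ≠ s := by
    intro hcon
    have : (⊥ : Ideal A) = IsLocalRing.maximalIdeal A := congrArg PrimeSpectrum.asIdeal hcon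
    exact IsDiscreteValuationRing.not_a_field A this.symm
  have hg₁s : g₁.base s = y := hg₁.trans hxy
  have hdimeq : topologicalKrullDim
      ↥(connectedComponentIn (f.base ⁻¹' {g₁.base η}) (g.base (g₁.base η))) =
      topologicalKrullDim ↥(connectedComponentIn (f.base ⁻¹' {g₁.base s}) (g.base (g₁.base s))) := by
    obtain ⟨V, hV, hVc⟩ := hc
    obtain ⟨U, hUV, hU, hyU⟩ := mem_nhds_iff.mp hV
    have hηU : g₁.base η ∈ U := by
      have h1 : g₁.base η ⤳ y := hg₁s ▸ hηs.map g₁.continuous
      exact h1.mem_open hU hyU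
    rw [hg₁s]
    exact hVc _ (hUV hηU)
  refine exists_generization_sectionComponent f g hg hgi g₁ s η hηs hηgen hne hdimeq x' ?_ hx's
  rw [hx', hg₁s]
  exact hx

end Groth.Agent.H17.Chev
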